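import Cfsg.Agent.Lib.Extra.SuzUnique.ELoop
import Cfsg.Agent.Lib.Extra.SuzUnique.RelData.Cube
import Cfsg.Agent.Lib.Extra.SuzUnique.RelData.Local

/-!
# The line, the pentagons, the quadrangle and the relations they give
-/

set_option autoImplicit false
set_option maxRecDepth 20000
set_option linter.unusedSectionVars false

namespace Cfsg.Lib.Extra.SuzUnique

open Cfsg Cfsg.Lib.CosetEnum Cfsg.Lib.Extra.Wide Cfsg.Lib.Extra.SuzLocal

universe u

/-- The relations known before the quadrangle. -/
def baseA : List (List Nat) := [RelData.line, RelData.pentA, [], RelData.pentB]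

/-- The relations known before the triangle. -/
def baseB : List (List Nat) := baseA ++ [RelData.quad]

/-- A word fixes the action on the generators of the centralizer. -/
noncomputable def fixesOK (L : List Nat) (hints : List (List (List Nat))) : Bool :=
  (List.range RelData.tGens.length).all fun i =>
    conjOK L (hints.getD i []) (RelData.tGens.getD i []) (RelData.tGens.getD i [])

/-- The action of a pentagon element moves each of the fifteen involutions. -/
noncomputable def movesAllOK (X : List Nat) (items : List (List (List Nat) × List Nat × Nat)) : Bool :=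
  (List.range 15).all fun i =>
    let it := items.getD i ([], [], 0)
    let e := RelData.eWords.getD (i + 1) []
    conjOK X it.1 e it.2.1 && Nat.blt it.2.2 1782 &&
      !Nat.beq (twalk PermData.tabL 11 it.2.1 it.2.2) (twalk PermData.tabL 11 e it.2.2)

theorem line_shape : beqW (RelData.line.take 6) [10, 9, 10, 9, 10, 9] = true ∧
    inC (RelData.line.drop 6) = true ∧ fixB RelData.line = true := by decide +kernel

theorem quad_checks : fixesOK RelData.quad RelData.quadFix = true := by decide +kernel

theorem pentA_checks : fixesOK RelData.pentA RelData.pentAFix = true ∧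
    movesAllOK RelData.pentAX RelData.pentAMove = true ∧
    beqW RelData.pentA (RelData.pentAX ++ RelData.pentAX ++ RelData.pentAX ++ RelData.pentAX ++
      RelData.pentAX) = true := by decide +kernel

theorem pentB_checks : fixesOK RelData.pentB RelData.pentBFix = true ∧
    movesAllOK RelData.pentBX RelData.pentBMove = true ∧
    beqW RelData.pentB (RelData.pentBX ++ RelData.pentBX ++ RelData.pentBX ++ RelData.pentBX ++
      RelData.pentBX) = true := by decide +kernel

theorem eWords_head : RelData.eWords.length = 16 ∧ RelData.eWords.getD 0 [0] = [] := by decide +kernel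

theorem cube_checks : recsOK baseA RelData.cubeRecs [] = true := by decide +kernel

theorem cube_word : (RelData.cubeRecs.map Rec.word).getD RelData.cubeAt [] =
    redW (RelData.quad ++ RelData.quad ++ RelData.quad) := by decide +kernel

theorem local_checks : recsOK baseB RelData.localRecs [] = true := by decide +kernel

variable {G : Type u} [Group G] [Finite G] {ι : Type} [Fintype ι] [DecidableEq ι] {D : Data G ι}
  {χ : Chart D} (M : Model D) {I : LIso χ} {r : G} (S : SwapElt I r)

include M S

theorem line_valid : wordVal (I.lG r) RelData.line = 1 := by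
  obtain ⟨h6, hC, hfix⟩ := line_shape
  have hd0 : wordOf lP SwapData.rnWord ∈ DS := wordOf_mem fun g hg => lP_mem_DS (sub_lt.2.2.1 g hg)
  have hperm : wordVal lP [10, 9, 10, 9, 10, 9] =
      rP * wordOf lP SwapData.rnWord * rP⁻¹ := by
    rw [← swap_eq eq_rn]
    simp [wordOf, wordVal, gen, eps, rP, lP_inv, mul_assoc]
    rw [← mul_assoc (lP 10) (lP 10), lP_sq, one_mul]
  have hG : wordVal (I.lG r) [10, 9, 10, 9, 10, 9] = I.σ (dR ⟨_, hd0⟩) := by
    rw [← S.conj, ← S.cube ⟨_, hd0⟩ rfl]
    have hn : I.lG r 9 = χ.κ 4 := by
      rw [LIso.lG, if_pos (by norm_num), I.ρ_code (n := 4) (by norm_num)]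
      rw [lC, dif_pos (by norm_num)]
      exact lP_nine
    simp [wordVal, gen, eps, hn, show I.lG r 10 = r by simp [LIso.lG],
      inv_eq_of_mul_eq_one_right S.sq, mul_assoc]
    rw [← mul_assoc r r, S.sq, one_mul]
  set d1 := dR ⟨_, hd0⟩ with hd1
  rw [← List.take_append_drop 6 RelData.line, beqW_eq h6, wordVal_append, hG, lG_val hC]
  show I.ρ _ * I.ρ (Subgroup.inclusion DS_le d1) = 1
  rw [← map_mul]
  refine (congrArg I.ρ (Subtype.ext ?_)).trans (map_one I.ρ)
  have hmem : wordVal lP RelData.line ∈ CS := by
    rw [← List.take_append_drop 6 RelData.line, beqW_eq h6, wordVal_append, hperm]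
    exact mul_mem (word_mem_CS hC) (DS_le (dR ⟨_, hd0⟩).2)
  have e := I.base_trivial M hmem (fixB_spec hfix)
  rw [← List.take_append_drop 6 RelData.line, beqW_eq h6, wordVal_append, hperm] at e
  rw [Subgroup.coe_mul, lC_val hC, Subgroup.coe_one, ← e]
  rfl

theorem fixes_comm {L : List ℕ} {hints : List (List (List ℕ))} (h : fixesOK L hints = true) :
    ∀ w ∈ RelData.tGens, Commute (wordVal (I.lG r) L) (wordVal (I.lG r) w) := by
  intro w hw
  obtain ⟨i, hi, rfl⟩ := List.getElem_of_mem hw
  have h1 := List.all_eq_true.1 h i (List.mem_range.2 hi)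
  have e := conjOK_valid M S h1
  rw [List.getD_eq_getElem _ _ hi] at e
  exact mul_inv_eq_iff_eq_mul.1 e

theorem pent_valid {L X : List ℕ} {hints : List (List (List ℕ))}
    {items : List (List (List ℕ) × List ℕ × ℕ)} (hf : fixesOK L hints = true)
    (hm : movesAllOK X items = true) (hL : beqW L (X ++ X ++ X ++ X ++ X) = true) :
    wordVal (I.lG r) L = 1 := by
  obtain ⟨e, he, hv⟩ := eWord_of_comm M S (fixes_comm M S hf)
  obtain ⟨hlen, h0⟩ := eWords_head
  obtain ⟨j, hj, rfl⟩ := List.getElem_of_mem he
  rcases j with _ | i
  · rw [← List.getD_eq_getElem _ [0] hj, h0] at hv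
    exact hv
  exfalso
  have h := List.all_eq_true.1 hm i (List.mem_range.2 (by omega))
  simp only [Bool.and_eq_true, Bool.not_eq_true', Nat.blt_eq] at h
  obtain ⟨⟨hc, hp⟩, hne⟩ := h
  rw [List.getD_eq_getElem _ _ hj] at hc hne
  have ec := conjOK_valid M S hc
  rw [← hv] at ec
  have hx : wordVal (I.lG r) X * wordVal (I.lG r) L * (wordVal (I.lG r) X)⁻¹ =
      wordVal (I.lG r) L := by
    rw [beqW_eq hL]; simp only [wordVal_append]; group
  rw [hx, hv] at ec
  set v' := (items.getD i ([], [], 0)).2.1 with hv'
  have hC2 : inC v' = true := by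
    clear ec hne hx
    have hend : ∀ {L : List ℕ} {hs : List (List ℕ)} {cur tgt : List ℕ},
        conjOK L hs cur tgt = true → inC tgt = true := by
      intro L
      induction L with
      | nil =>
        intro hs cur tgt h
        simp only [conjOK, Bool.and_eq_true] at h
        exact h.1.2
      | cons g L ih =>
        intro hs cur tgt h
        by_cases hg : g = 10
        · subst hg
          rcases hs with _ | ⟨a, b⟩
          · simp [conjOK] at h
          · simp only [conjOK, Nat.beq_refl, Bool.and_eq_true] at h
            exact ih h.2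
        · have hb : Nat.beq g 10 = false := by rw [← Bool.not_eq_true, Nat.beq_eq]; exact hg
          simp only [conjOK, hb, Bool.and_eq_true] at h
          exact ih h.2
    exact hend hc
  obtain ⟨heC, -⟩ := eWords_ok _ he
  rw [lG_val heC, lG_val hC2] at ec
  have eperm := congrArg Subtype.val (I.inj ec)
  rw [lC_val heC, lC_val hC2] at eperm
  set p := (items.getD i ([], [], 0)).2.2
  have hval : ∀ (w : List ℕ), inC w = true →
      (wordVal lP w ⟨p, hp⟩).1 = twalk PermData.tabL 11 w p := fun w hw' => by
    show (wordVal (tperm PermData.tabL 11 1782) w ⟨p, hp⟩).1 = _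
    exact wordVal_tperm lperm_ok (by decide) w (fun g hg => by
      have := List.all_eq_true.1 hw' g hg; rw [Nat.blt_eq] at this; omega) _
  rw [← hval _ heC, ← hval _ hC2, eperm] at hne
  simp at hne

theorem baseA_valid : ∀ w ∈ baseA, wordVal (I.lG r) w = 1 := by
  intro w hw
  simp only [baseA, List.mem_cons, List.not_mem_nil, or_false] at hw
  rcases hw with rfl | rfl | rfl | rfl
  · exact line_valid M S
  · exact pent_valid M S pentA_checks.1 pentA_checks.2.1 pentA_checks.2.2
  · rfl
  · exact pent_valid M S pentB_checks.1 pentB_checks.2.1 pentB_checks.2.2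

theorem quad_valid : wordVal (I.lG r) RelData.quad = 1 := by
  obtain ⟨e, he, hv⟩ := eWord_of_comm M S (fixes_comm M S quad_checks)
  have h := recsOK_valid M S (baseA_valid M S) (acc := []) (by simp) cube_checks
  have h3 : wordVal (I.lG r) ((RelData.cubeRecs.map Rec.word).getD RelData.cubeAt []) = 1 :=
    getD_valid (fun w hw => h w (by simpa using hw)) _
  rw [cube_word, wordVal_redW S.lG_sq, wordVal_append, wordVal_append, hv] at h3
  obtain ⟨heC, -, he2, -⟩ := eWords_ok e he
  have h2 := C_valid (I := I) (r := r) M (inC_append heC heC) he2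
  rw [wordVal_append] at h2
  rw [hv]
  rwa [h2, mul_one] at h3

theorem baseB_valid : ∀ w ∈ baseB, wordVal (I.lG r) w = 1 := by
  intro w hw
  rcases List.mem_append.1 hw with h | h
  · exact baseA_valid M S w h
  · rw [List.mem_singleton.1 h]; exact quad_valid M S

/-- The relations found from lines, pentagons and quadrangles. -/
theorem local_valid (i : ℕ) :
    wordVal (I.lG r) ((RelData.localRecs.map Rec.word).getD i []) = 1 :=
  getD_valid (fun w hw =>
    recsOK_valid M S (baseB_valid M S) (acc := []) (by simp) local_checks w (by simpa using hw)) _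

end Cfsg.Lib.Extra.SuzUnique
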