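import Cfsg.Agent.Lib.CosetEnum.Groups.SuzSimple
import Cfsg.Agent.Lib.Extra.SuzUnique.Short.Top.Checks
import Cfsg.Agent.Lib.Extra.SuzUnique.Short.Six.Checks
import Cfsg.Agent.Lib.Extra.SuzUnique.Short.Five.Checks
import Cfsg.Agent.Lib.Extra.SuzUnique.Short.Four.Checks
import Cfsg.Agent.Lib.Extra.SuzUnique.Short.Three.Checks

/-!
# A group of the order of Suz with seven generators and the short relations is Suz

The pairs of corresponding generators generate a group of at most twelve times the order of the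
presented group, so it is the graph of an isomorphism.
-/

set_option autoImplicit false
set_option maxRecDepth 20000
set_option linter.style.haveILetI false

namespace Cfsg.Lib.Extra.SuzUnique

open Cfsg Cfsg.Lib.CosetEnum

/-- A relator that replaces the long ones. -/
def shortR0 : List ℕ := [0, 1, 0, 1, 0, 5, 1, 6, 0, 1, 0, 1, 0, 5, 1, 6]

/-- The short relators. -/
def shortRels : List (List ℕ) := SuzPres.numbering.pairs ++ SuzPres.extra.take 3 ++ [shortR0]

theorem short_shifts : shiftsOK shortRels ShortTop.relWords = true ∧ shiftsOK shortRels ShortSix.relWords = true ∧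
    shiftsOK shortRels ShortFive.relWords = true ∧ shiftsOK shortRels ShortFour.relWords = true ∧
    shiftsOK shortRels ShortThree.relWords = true := by decide +kernel

theorem shortR0_perm : permOK SuzG24.tabP 7 1782 [shortR0] 1782 0 = true := by decide +kernel

/-- The short relations hold in the presented group. -/
theorem short_suz : ∀ r ∈ shortRels, wordVal (SuzPres.numbering.gens Spor.Suz.extra) r = 1 := by
  let N := SuzPres.numbering
  let y : ℕ → Spor.Suz := N.gens Spor.Suz.extra
  have hy : ∀ g, y g * y g = 1 := N.gens_mul_self Spor.Suz.extra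
  have hk : N.k ≤ eps := by decide
  have hR : SuzG24.cert.R0 = N.pairs ++ SuzPres.extra := by decide +kernel
  have hrel : ∀ r ∈ N.pairs ++ SuzPres.extra, wordVal y r = 1 := N.wordVal_gens hk (SuzPres.map_extra y hy)
  intro r hr
  rcases List.mem_append.1 hr with h | h
  · refine hrel r ?_
    rcases List.mem_append.1 h with h | h
    exacts [List.mem_append_left _ h, List.mem_append_right _ (List.mem_of_mem_take h)]
  · obtain ⟨f, hf⟩ := N.exists_hom hk Spor.Suz.extra SuzG24.cert_valid hR rfl
      (SuzPres.map_extra _ fun g => tperm_mul_self _ _ _ g)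
    haveI : Finite Spor.Suz := Nat.finite_of_card_ne_zero (by rw [SuzPres.isSuz.2]; norm_num)
    obtain ⟨-, hinj⟩ := card_eq_of_base y f SuzG24.cert_valid.perm (by decide) hf SuzPres.base_ok
      (by rw [SuzPres.baseSize_levels, SuzPres.isSuz.2])
    obtain rfl := List.mem_singleton.1 h
    refine hinj ?_
    rw [map_one, map_wordVal_tperm y f (Z := SuzG24.tabP) (k := 7) (by decide) hf (by decide)]
    exact wordVal_tperm_eq_one shortR0_perm (by decide) (List.mem_singleton_self _)

theorem wordVal_prod {G H : Type*} [Group G] [Group H] (x : ℕ → G) (y : ℕ → H) :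
    ∀ w : List ℕ, wordVal (fun g => (x g, y g)) w = (wordVal x w, wordVal y w)
  | [] => rfl
  | g :: w => by
    rw [wordVal, wordVal, wordVal, wordVal_prod x y w]
    by_cases h : g = eps <;> simp [gen, h]

/-- A group of the order of Suz generated by involutions with the short relations is Suz. -/
theorem isoSuz_of_short {G : Type*} [Group G] [Finite G] (hcard : Nat.card G = 448345497600) (x : ℕ → G)
    (hx : ∀ g, x g * x g = 1) (hrel : ∀ r ∈ shortRels, wordVal x r = 1) (h0 : x 0 ≠ 1) :
    Cfsg.Spor.IsoSuz G := by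
  classical
  let N := SuzPres.numbering
  let u : ℕ → Spor.Suz := N.gens Spor.Suz.extra
  let p : ℕ → G × Spor.Suz := fun g => (x g, u g)
  have hp : ∀ g, p g * p g = 1 := fun g => Prod.ext (hx g) (N.gens_mul_self Spor.Suz.extra g)
  have hprel : ∀ r ∈ shortRels, wordVal p r = 1 := fun r hr => by
    rw [wordVal_prod, hrel r hr, short_suz r hr]; rfl
  obtain ⟨s1, s2, s3, s4, s5⟩ := short_shifts
  -- the bound
  have hK : Finite (Subgroup.closure {p 0}) ∧ Nat.card (Subgroup.closure {p 0}) ≤ 2 := by
    have h2 : (p 0) ^ 2 = 1 := by rw [pow_two]; exact hp 0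
    have he : Nat.card (Subgroup.closure {p 0}) = orderOf (p 0) := by
      rw [← Subgroup.zpowers_eq_closure, Nat.card_zpowers]
    refine ⟨Nat.finite_of_card_ne_zero ?_, ?_⟩ <;> rw [he]
    · exact (orderOf_pos_iff.2 (isOfFinOrder_iff_pow_eq_one.2 ⟨2, by norm_num, h2⟩)).ne'
    · exact Nat.le_of_dvd two_pos (orderOf_dvd_of_pow_eq_one h2)
  have c5 := (ShortThree.step_valid s5).card_le hp hprel (K := Subgroup.closure {p 0}) (fun w hw => by
    obtain rfl : w = [0] := by simpa [ShortThree.step, ShortThree.subWords] using hw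
    simp [wordVal, gen, eps]) hK.1 hK.2
  have c4 := (ShortFour.step_valid s4).card_le hp hprel
    (inLetters_mem p (S := ShortThree.step.S) (by decide +kernel)) c5.1 c5.2
  have c3 := (ShortFive.step_valid s3).card_le hp hprel
    (inLetters_mem p (S := ShortFour.step.S) (by decide +kernel)) c4.1 c4.2
  have c2 := (ShortSix.step_valid s2).card_le hp hprel
    (inLetters_mem p (S := ShortFive.step.S) (by decide +kernel)) c3.1 c3.2
  have c1 := (ShortTop.step_valid s1).card_le hp hprel
    (inLetters_mem p (S := ShortSix.step.S) (by decide +kernel)) c2.1 c2.2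
  obtain ⟨hfin, hle⟩ := c1
  set P := Subgroup.closure (p '' {g | g ∈ ShortTop.step.S}) with hP
  replace hle : Nat.card P ≤ 12 * 448345497600 := hle.trans (by decide +kernel)
  haveI : Finite P := hfin
  let π₁ : P →* G := (MonoidHom.fst G Spor.Suz).comp P.subtype
  let π₂ : P →* Spor.Suz := (MonoidHom.snd G Spor.Suz).comp P.subtype
  have hmem : ∀ {g}, g < 7 → p g ∈ P := fun {g} hg => Subgroup.subset_closure
    ⟨g, (by decide +kernel : ∀ g < 7, g ∈ ShortTop.step.S) g hg, rfl⟩
  have hs₂ : Function.Surjective π₂ := by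
    rw [← MonoidHom.range_eq_top, eq_top_iff, ← N.closure_gens Spor.Suz.extra, Subgroup.closure_le]
    rintro _ ⟨g, hg, rfl⟩
    exact ⟨⟨p g, hmem hg⟩, rfl⟩
  -- the image in `G` is not small
  have hpair : ∀ a < 7, ∀ b < 7, (x a * x b) ^ Spor.coxLabel Spor.Suz.edges (N.letter a) (N.letter b) = 1 := by
    intro a ha b hb
    have h := hrel _ (List.mem_append_left _ (List.mem_append_left _
      (show (List.replicate (Spor.coxLabel Spor.Suz.edges (N.letter a) (N.letter b)) [b, a]).flatten ∈ N.pairs by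
        simp only [Numbering.pairs, List.mem_flatMap, List.mem_map, List.mem_range]
        exact ⟨a, ha, b, hb, rfl⟩)))
    rwa [wordVal_replicate _ _ _ (by simp only [eps]; omega) (by simp only [eps]; omega)] at h
  have hab : (x 0 * x 1) ^ 5 = 1 := hpair 0 (by norm_num) 1 (by norm_num)
  have haf : (x 0 * x 5) ^ 2 = 1 := hpair 0 (by norm_num) 5 (by norm_num)
  have hbf : (x 1 * x 5) ^ 3 = 1 := hpair 1 (by norm_num) 5 (by norm_num)
  have hag : (x 0 * x 6) ^ 2 = 1 := hpair 0 (by norm_num) 6 (by norm_num)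
  have hne : x 0 * x 1 ≠ 1 := fun e => h0 (by
    have e1 : x 1 = x 0 := (eq_inv_of_mul_eq_one_right e).trans (inv_eq_of_mul_eq_one_left (hx 0))
    rw [e1, pow_succ, haf, one_mul] at hbf
    have e5 : x 5 = x 0 := (eq_inv_of_mul_eq_one_right hbf).trans (inv_eq_of_mul_eq_one_left (hx 0))
    have h := hrel [5, 6, 5, 6, 0] (by decide +kernel)
    simp [wordVal, gen, eps, e5] at h
    rw [pow_two] at hag
    have h' : x 0 * (x 6 * x 0 * (x 6 * x 0)) = 1 := by
      simpa [mul_assoc] using h
    rw [show x 6 * x 0 * (x 6 * x 0) = (x 0 * x 6 * (x 0 * x 6))⁻¹ by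
      simp only [mul_inv_rev, inv_eq_of_mul_eq_one_left (hx 0), inv_eq_of_mul_eq_one_left (hx 6)],
      hag, inv_one, mul_one] at h'
    exact h')
  have h8 : (x 2 * x 3) ^ 4 ≠ 1 ∧ (x 2 * x 3) ^ 8 = 1 := by
    refine ⟨fun e => h0 ?_, hpair 2 (by norm_num) 3 (by norm_num)⟩
    have h := hrel [2, 3, 2, 3, 2, 3, 2, 3, 0] (by decide +kernel)
    have h' : x 0 * (x 3 * x 2) ^ 4 = 1 := by
      simpa [wordVal, gen, eps, pow_succ, mul_assoc] using h
    rw [show x 3 * x 2 = (x 2 * x 3)⁻¹ by
      simp only [mul_inv_rev, inv_eq_of_mul_eq_one_left (hx 2), inv_eq_of_mul_eq_one_left (hx 3)],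
      inv_pow, e, inv_one, mul_one] at h'
    exact h'
  haveI : Fact (Nat.Prime 5) := ⟨by norm_num⟩
  haveI : Fact (Nat.Prime 2) := ⟨Nat.prime_two⟩
  have hin : ∀ {g}, g < 7 → x g ∈ π₁.range := fun {g} hg => ⟨⟨p g, hmem hg⟩, rfl⟩
  have h40 : 40 ≤ Nat.card π₁.range := by
    refine Nat.le_of_dvd Nat.card_pos
      (Nat.Coprime.mul_dvd_of_dvd_of_dvd (show Nat.Coprime 8 5 by norm_num) ?_ ?_)
    · have h := Subgroup.orderOf_dvd_natCard _ (mul_mem (hin (show 2 < 7 by norm_num)) (hin (show 3 < 7 by norm_num)))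
      rwa [orderOf_eq_prime_pow (p := 2) (n := 2) h8.1 h8.2] at h
    · have h := Subgroup.orderOf_dvd_natCard _ (mul_mem (hin (show 0 < 7 by norm_num)) (hin (show 1 < 7 by norm_num)))
      rwa [orderOf_eq_prime hab hne] at h
  have hsuz : Nat.card Spor.Suz = 448345497600 := SuzPres.isSuz.2
  haveI : Finite Spor.Suz := Nat.finite_of_card_ne_zero (by rw [hsuz]; norm_num)
  haveI := SuzPres.isSuz.1
  have hN : (π₁.ker.map π₂).Normal := Subgroup.Normal.map inferInstance _ hs₂
  have hmul : Nat.card π₁.range * Nat.card π₁.ker = Nat.card P := by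
    rw [← Subgroup.index_ker, mul_comm, Subgroup.card_mul_index]
  have hker : π₁.ker = ⊥ := by
    rcases hN.eq_bot_or_eq_top with h | h
    · refine (Subgroup.eq_bot_iff_forall _).2 fun a ha => ?_
      have h2 : π₂ a = 1 := Subgroup.mem_bot.1 (h ▸ Subgroup.mem_map_of_mem π₂ ha)
      exact Subtype.ext (Prod.ext (MonoidHom.mem_ker.1 ha) h2)
    · exfalso
      have h1 := Subgroup.card_map_dvd π₁.ker π₂
      rw [h, Subgroup.card_top, hsuz] at h1
      have h2 := Nat.le_of_dvd Nat.card_pos h1
      have h3 := Nat.mul_le_mul h40 h2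
      rw [hmul] at h3
      omega
  have hi₁ : Function.Injective π₁ := (MonoidHom.ker_eq_bot_iff _).1 hker
  have h1 := Nat.card_le_card_of_injective π₁ hi₁
  have h2 := Nat.card_le_card_of_surjective π₂ hs₂
  have hb₁ := (Nat.bijective_iff_injective_and_card π₁).2 ⟨hi₁, by omega⟩
  have hb₂ := (Nat.bijective_iff_surjective_and_card π₂).2 ⟨hs₂, by omega⟩
  exact ⟨(MulEquiv.ofBijective π₁ hb₁).symm.trans (MulEquiv.ofBijective π₂ hb₂)⟩

end Cfsg.Lib.Extra.SuzUnique
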