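import Cfsg.Agent.Lib.Extra.SuzUnique.CenterData

/-!
# Generators and relations of the centralizer of an involution

Three elements of `C(z)` act on `Q` by prescribed tables and satisfy, with prescribed values in
`Q`, the relators of a presentation of `Ω⁻(6, 2)`.  A value is determined up to `z` by the action;
the sign is adjusted for the odd relators and read off a Siegel element for the others.
-/

set_option autoImplicit false
set_option maxRecDepth 10000
set_option linter.style.haveILetI false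
set_option linter.unusedSectionVars false

namespace Cfsg.Lib.Extra.SuzUnique

open Cfsg Module Cfsg.Lib.Linear.Orth Cfsg.Lib.Extra.Wide Cfsg.Lib.Extra.SuzLocal
open scoped Matrix

/-- The composite table of a word. -/
def wordTab : List ℕ → ℕ → ℕ
  | [], n => n
  | i :: l, n => (siegel i).app (wordTab l n)

/-- Conjugation of codes. -/
def conjTab (m n : ℕ) : ℕ := if Nat.beq (bV (m / 2) (n / 2)) 1 then qMul 1 n else n

/-- The product of the elements of a word. -/
def wordOf {H : Type*} [Group H] (Y : ℕ → H) : List ℕ → H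
  | [] => 1
  | i :: l => Y i * wordOf Y l

theorem wordOf_append {H : Type*} [Group H] (Y : ℕ → H) (a b : List ℕ) :
    wordOf Y (a ++ b) = wordOf Y a * wordOf Y b := by
  induction a with
  | nil => simp [wordOf]
  | cons i a ih => simp [wordOf, ih, mul_assoc]

/-- The relators with their values. -/
def relC : List (List ℕ × ℕ) := oddRel ++ evenRel.map fun e => (e.1 ++ e.1, e.2.2.2)

/-- Generators of a group with the relations of the centralizer. -/
structure CBase (H : Type*) [Group H] where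
  /-- The extraspecial part. -/
  κ : ℕ → H
  /-- The three generators. -/
  Y : ℕ → H
  map_mul : ∀ m < 128, ∀ n < 128, κ (qMul m n) = κ m * κ n
  act : ∀ i < 3, ∀ n < 128, Y i * κ n * (Y i)⁻¹ = κ ((siegel i).app n)
  sq : ∀ i < 3, Y i * Y i = κ (siegel i).sq
  rel : ∀ r ∈ relC, wordOf Y r.1 = κ r.2

theorem app_lt : ∀ i < 5, ∀ n < 128, (siegel i).app n < 128 := by decide +kernel

theorem wordTab_check : (oddRel.all fun r => (List.range 128).all fun n =>
      Nat.beq (wordTab r.1 n) (conjTab r.2 n) && Nat.blt r.2 128) = true ∧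
    (evenRel.all fun e => (List.range 128).all fun n =>
      Nat.beq (wordTab e.1 n) (conjTab e.2.1 ((siegel e.2.2.1).app n)) && Nat.blt e.2.1 128 &&
        Nat.beq e.2.2.2
          (qMul (qMul e.2.1 ((siegel e.2.2.1).app e.2.1)) (siegel e.2.2.1).sq)) = true := by
  decide +kernel

theorem sq_lt : ∀ i < 5, (siegel i).sq < 128 := by decide +kernel

theorem bV_nondeg : ∀ c < 128, (∀ n < 128, bV (c / 2) (n / 2) = 0) → c = 0 ∨ c = 1 := by
  decide +kernel

universe u

variable {G : Type u} [Group G] {ι : Type} [Fintype ι] [DecidableEq ι] {D : Data G ι}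

namespace Chart

variable (χ : Chart D)

theorem conj_table {m n : ℕ} (hm : m < 128) (hn : n < 128) :
    χ.κ m * χ.κ n * (χ.κ m)⁻¹ = χ.κ (conjTab m n) := by
  rw [mul_inv_eq_iff_eq_mul, ← χ.map_mul hm hn, qMul_comm m hm n hn, conjTab]
  rcases bV_bit (m / 2) (by omega) (n / 2) (by omega) with e | e <;> rw [e]
  · rw [if_neg (by norm_num), if_neg (by simp), χ.map_mul hn hm]
  · rw [if_pos rfl, if_pos (by rfl), χ.map_mul (by norm_num) (qMul_lt n hn m hm), χ.map_mul hn hm,
      χ.map_mul (by norm_num) hn, mul_assoc]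

theorem word_act {Y : ℕ → G} (hY : ∀ i < 3, χ.Acts (Y i) (siegel i).app) :
    ∀ {l : List ℕ}, (∀ i ∈ l, i < 3) → Commute (wordOf Y l) D.z ∧
      ∀ n < 128, wordTab l n < 128 ∧ wordOf Y l * χ.κ n * (wordOf Y l)⁻¹ = χ.κ (wordTab l n)
  | [], _ => ⟨Commute.one_left _, fun n hn => ⟨hn, by simp [wordOf, wordTab]⟩⟩
  | i :: l, h => by
    obtain ⟨h1, h2⟩ := word_act hY (l := l) fun j hj => h j (List.mem_cons_of_mem _ hj)
    have hi := h i List.mem_cons_self
    refine ⟨(hY i hi).1.mul_left h1, fun n hn => ⟨app_lt i (by omega) _ (h2 n hn).1, ?_⟩⟩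
    calc Y i * wordOf Y l * χ.κ n * (Y i * wordOf Y l)⁻¹
        = Y i * (wordOf Y l * χ.κ n * (wordOf Y l)⁻¹) * (Y i)⁻¹ := by group
      _ = _ := by rw [(h2 n hn).2, (hY i hi).2 _ (h2 n hn).1]; rfl

/-- An element of `C(z)` centralizing `Q` is a power of `z`. -/
theorem eq_pick [Finite G] {c : G} (hc : Commute c D.z) (h : ∀ n < 128, c * χ.κ n * c⁻¹ = χ.κ n) :
    ∃ e : ZMod 2, c = pick D.z e := by
  have hact : D.act c = 1 := gl_ext fun w => by
    obtain ⟨q, hq, rfl⟩ := D.cls_surj w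
    obtain ⟨n, hn, rfl⟩ := χ.surj hq
    rw [← D.act_cls c hc _ hq, h n hn, Units.val_one, Matrix.one_mulVec]
  obtain ⟨m, hm, rfl⟩ := χ.surj ((D.act_ker c hc).1 hact)
  have hall : ∀ n < 128, bV (m / 2) (n / 2) = 0 := fun n hn =>
    (bV_bit (m / 2) (by omega) (n / 2) (by omega)).resolve_right fun e => by
      have h1 := h n hn
      rw [χ.conj_table hm hn, conjTab, e, if_pos (by rfl)] at h1
      exact (show ∀ n < 128, qMul 1 n ≠ n by decide +kernel) n hn
        (χ.inj (qMul_lt 1 (by norm_num) n hn) hn h1)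
  rcases bV_nondeg m hm hall with rfl | rfl
  · exact ⟨0, by rw [χ.map_zero, pick_zero]⟩
  · exact ⟨1, by rw [χ.z_eq, pick_one]⟩

/-- Two elements with the same action differ by a power of `z`. -/
theorem eq_of_action [Finite G] {a b : G} (ha : Commute a D.z) (hb : Commute b D.z) (T : ℕ → ℕ)
    (hT : ∀ n < 128, T n < 128)
    (h : ∀ n < 128, a * χ.κ n * a⁻¹ = χ.κ (T n)) (h' : ∀ n < 128, b * χ.κ n * b⁻¹ = χ.κ (T n)) :
    ∃ e : ZMod 2, a = pick D.z e * b := by
  obtain ⟨e, he⟩ := χ.eq_pick (c := b⁻¹ * a) (hb.inv_left.mul_left ha) fun n hn => by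
    calc b⁻¹ * a * χ.κ n * (b⁻¹ * a)⁻¹ = b⁻¹ * (a * χ.κ n * a⁻¹) * b := by group
      _ = b⁻¹ * (b * χ.κ n * b⁻¹) * b := by rw [h n hn, h' n hn]
      _ = χ.κ n := by group
  refine ⟨e, ?_⟩
  have hc : Commute (pick D.z e) b := pick_comm hb.symm e
  rw [hc.eq, ← he]; group

end Chart

theorem commute_pick_z {z a : G} (h : Commute a z) (e : ZMod 2) : Commute (pick z e) a :=
  pick_comm h.symm e

theorem pick_conj {z a b : G} (ha : Commute a z) (hb : Commute b z) (e : ZMod 2) :
    pick z e * a * b * (pick z e * a)⁻¹ = a * b * a⁻¹ := by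
  calc pick z e * a * b * (pick z e * a)⁻¹ = pick z e * (a * b * a⁻¹) * (pick z e)⁻¹ := by group
    _ = a * b * a⁻¹ * pick z e * (pick z e)⁻¹ := by
      rw [(commute_pick_z ((ha.mul_left hb).mul_left ha.inv_left) e).eq]
    _ = _ := by group

/-- Signs on the generators multiply a word by the sum of its signs. -/
theorem wordOf_pick {z : G} (hz : z * z = 1) {Y : ℕ → G} (hY : ∀ i < 3, Commute (Y i) z)
    (d : ℕ → ZMod 2) : ∀ {l : List ℕ}, (∀ i ∈ l, i < 3) → Commute (wordOf Y l) z ∧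
      wordOf (fun i => pick z (d i) * Y i) l = pick z ((l.map d).sum) * wordOf Y l
  | [], _ => ⟨Commute.one_left _, by simp [wordOf]⟩
  | i :: l, h => by
    obtain ⟨h1, h2⟩ := wordOf_pick hz hY d (l := l) fun j hj => h j (List.mem_cons_of_mem _ hj)
    have hi := hY i (h i List.mem_cons_self)
    refine ⟨hi.mul_left h1, ?_⟩
    show pick z (d i) * Y i * wordOf (fun i => pick z (d i) * Y i) l = _
    rw [h2, mul_assoc, ← mul_assoc (Y i), ← (commute_pick_z hi _).eq, mul_assoc (pick z _) (Y i),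
      ← mul_assoc (pick z (d i)), pick_add hz, List.map_cons, List.sum_cons]
    rfl

theorem exists_cbase [Finite G] (χ : Chart D) :
    ∃ b : CBase G, b.κ = χ.κ ∧ ∀ i < 3, Commute (b.Y i) D.z := by
  classical
  choose y hyA hyS using fun i => χ.exists_siegel (siegel i) (siegel_ok i)
  have hY : ∀ i < 3, χ.Acts (y i) (siegel i).app := fun i _ => hyA i
  have hz : D.z * D.z = 1 := D.ctx.sq_z
  obtain ⟨c1, c2⟩ := wordTab_check
  simp only [List.all_eq_true, List.mem_range, Bool.and_eq_true, Nat.blt_eq] at c1 c2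
  have hlet : ∀ r ∈ relC, ∀ i ∈ r.1, i < 3 := by decide +kernel
  have hlet' : ∀ e ∈ evenRel, (∀ i ∈ e.1, i < 3) ∧ e.2.2.1 < 5 ∧ e.2.2.2 < 128 := by decide +kernel
  -- the odd relators up to sign
  have hodd : ∀ r ∈ oddRel, ∃ e : ZMod 2, wordOf y r.1 = pick D.z e * χ.κ r.2 := by
    intro r hr
    obtain ⟨h1, h2⟩ := χ.word_act hY (hlet r (List.mem_append_left _ hr))
    have hm : r.2 < 128 := (c1 r hr 0 (by norm_num)).2
    exact χ.eq_of_action h1 (D.ctx.central _ (χ.mem hm)).symm (wordTab r.1)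
      (fun n hn => (h2 n hn).1) (fun n hn => (h2 n hn).2) fun n hn => by
        rw [χ.conj_table hm hn, Nat.eq_of_beq_eq_true (c1 r hr n hn).1]
  have heven : ∀ e ∈ evenRel, wordOf y (e.1 ++ e.1) = χ.κ e.2.2.2 := by
    intro e he
    obtain ⟨hl, hk, -⟩ := hlet' e he
    obtain ⟨h1, h2⟩ := χ.word_act hY hl
    obtain ⟨⟨-, hq⟩, hv⟩ := c2 e he 0 (by norm_num)
    obtain ⟨w, hw⟩ : ∃ w, w = χ.κ e.2.1 * y e.2.2.1 := ⟨_, rfl⟩
    have hwz : Commute w D.z := by
      rw [hw]; exact ((D.ctx.central _ (χ.mem hq)).symm).mul_left (hyA _).1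
    obtain ⟨ε, hε⟩ := χ.eq_of_action h1 hwz (wordTab e.1) (fun n hn => (h2 n hn).1)
      (fun n hn => (h2 n hn).2) fun n hn => by
        rw [Nat.eq_of_beq_eq_true (c2 e he n hn).1.1, ← χ.conj_table hq (app_lt _ hk n hn),
          ← (hyA _).2 n hn, hw]
        group
    rw [wordOf_append, hε]
    have hpw : Commute (pick D.z ε) w := commute_pick_z hwz ε
    calc pick D.z ε * w * (pick D.z ε * w) = pick D.z ε * pick D.z ε * (w * w) := by
          rw [mul_assoc, ← mul_assoc w, ← hpw.eq]; group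
      _ = w * w := by rw [pick_add hz, bit_self, pick_zero, one_mul]
      _ = χ.κ e.2.1 * (y e.2.2.1 * χ.κ e.2.1 * (y e.2.2.1)⁻¹) * (y e.2.2.1 * y e.2.2.1) := by
          rw [hw]; group
      _ = _ := by
        rw [(hyA _).2 _ hq, hyS, ← χ.map_mul hq (app_lt _ hk _ hq),
          ← χ.map_mul (qMul_lt _ hq _ (app_lt _ hk _ hq)) (sq_lt _ hk), Nat.eq_of_beq_eq_true hv]
  -- the signs
  obtain ⟨e0, he0⟩ := hodd _ (show ([0, 1, 0, 1, 0, 1, 0, 1, 0, 1], 0) ∈ oddRel by decide)
  obtain ⟨e1, he1⟩ := hodd _ (show ([0, 1, 2, 0, 2, 1, 2, 0, 1, 2, 0, 2, 1, 2, 0, 1, 2, 0, 2, 1, 2], 0)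
    ∈ oddRel by decide)
  obtain ⟨e2, he2⟩ := hodd _ (show ([0, 1, 2, 0, 2, 0, 1, 2, 0, 2, 0, 1, 2, 0, 2, 0, 1, 2, 0, 2, 0,
    1, 2, 0, 2], 105) ∈ oddRel by decide)
  let d : ℕ → ZMod 2 := fun i => if i = 0 then e0 + e2 else if i = 1 then e2 else e1
  refine ⟨⟨χ.κ, fun i => pick D.z (d i) * y i, fun m hm n hn => χ.map_mul hm hn, fun i _ n hn => ?_,
    fun i _ => ?_, fun r hr => ?_⟩, rfl, fun i _ => (pick_comm (Commute.refl D.z) _).mul_left (hyA i).1⟩
  · rw [pick_conj (hyA i).1 (D.ctx.central _ (χ.mem hn)).symm, (hyA i).2 n hn]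
  · have hc : Commute (pick D.z (d i)) (y i) := commute_pick_z (hyA i).1 _
    rw [mul_assoc, ← mul_assoc (y i), ← hc.eq, ← mul_assoc, ← mul_assoc, pick_add hz, bit_self,
      pick_zero, one_mul, hyS]
  · obtain ⟨-, hw⟩ := wordOf_pick hz (fun i _ => (hyA i).1) d (hlet r hr)
    rw [hw]
    rcases List.mem_append.1 hr with h | h
    · simp only [oddRel, List.mem_cons, List.not_mem_nil, or_false] at h
      have key : ∀ a b c : ZMod 2,
          ([0, 1, 0, 1, 0, 1, 0, 1, 0, 1].map fun i : ℕ =>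
            if i = 0 then a + c else if i = 1 then c else b).sum = a ∧
          ([0, 1, 2, 0, 2, 1, 2, 0, 1, 2, 0, 2, 1, 2, 0, 1, 2, 0, 2, 1, 2].map fun i : ℕ =>
            if i = 0 then a + c else if i = 1 then c else b).sum = b ∧
          ([0, 1, 2, 0, 2, 0, 1, 2, 0, 2, 0, 1, 2, 0, 2, 0, 1, 2, 0, 2, 0, 1, 2, 0, 2].map fun i : ℕ =>
            if i = 0 then a + c else if i = 1 then c else b).sum = c := by decide
      obtain ⟨k0, k1, k2⟩ := key e0 e1 e2
      rcases h with rfl | rfl | rfl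
      · simp only [d, k0]; rw [he0, ← mul_assoc, pick_add hz, bit_self, pick_zero, one_mul]
      · simp only [d, k1]; rw [he1, ← mul_assoc, pick_add hz, bit_self, pick_zero, one_mul]
      · simp only [d, k2]; rw [he2, ← mul_assoc, pick_add hz, bit_self, pick_zero, one_mul]
    · obtain ⟨e, he, rfl⟩ := List.mem_map.1 h
      rw [List.map_append, List.sum_append, bit_self, pick_zero, one_mul, heven e he]

end Cfsg.Lib.Extra.SuzUnique
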