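import Cfsg.Agent.Lib.Extra.SuzUnique.Center
import Cfsg.Agent.Lib.Extra.SuzUnique.UFourTwo.Checks
import Cfsg.Agent.Lib.CosetEnum.Order

/-!
# A bound for the group of the generators and relations

The extraspecial part is normal with quotient generated by three involutions that satisfy a
presentation of `Ω⁻(6, 2)`; a coset enumeration bounds the quotient by 25920.
-/

set_option autoImplicit false
set_option maxRecDepth 20000
set_option linter.style.haveILetI false

namespace Cfsg.Lib.Extra.SuzUnique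

open Cfsg.Lib.CosetEnum

/-- The relators of the quotient. -/
def quotRel : List (List ℕ) := [[0, 0], [1, 1], [2, 2]] ++ relC.map Prod.fst

/-- The certificate of the enumeration. -/
def quotCert : StepCert :=
  ⟨UFourTwo.relWords, UFourTwo.subWords, [0, 1, 2], UFourTwo.tabF, UFourTwo.tabC, UFourTwo.tabZ,
    UFourTwo.tabP, 19643, 20550, 2592, 3⟩

theorem quotCert_valid : quotCert.Valid quotRel where
  pos := by decide +kernel
  shifts := by decide +kernel
  defs := UFourTwo.defs_all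
  steps := UFourTwo.steps_all
  closed := UFourTwo.closed_all

theorem wordVal_eq_inv {H : Type*} [Group H] {x : ℕ → H} (hx : ∀ g, x g * x g = 1) :
    ∀ {l : List ℕ}, (∀ g ∈ l, g < eps) → wordVal x l = (wordOf x l)⁻¹
  | [], _ => by simp [wordVal, wordOf]
  | g :: l, h => by
    have hg := h g List.mem_cons_self
    rw [wordVal, wordOf, mul_inv_rev, wordVal_eq_inv hx fun a ha => h a (List.mem_cons_of_mem _ ha),
      gen, if_neg (Nat.ne_of_lt hg), inv_eq_of_mul_eq_one_left (hx g)]

/-- A group generated by two involutions whose product has fifth power one. -/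
theorem card_dihedral {H : Type*} [Group H] {a b : H} (ha : a * a = 1) (hb : b * b = 1)
    (h5 : (a * b) ^ 5 = 1) :
    Finite ↥(Subgroup.closure ({a, b} : Set H)) ∧
      Nat.card ↥(Subgroup.closure ({a, b} : Set H)) ≤ 10 := by
  classical
  let S : Finset H := (Finset.range 5).image (fun k => (a * b) ^ k) ∪
    (Finset.range 5).image (fun k => (a * b) ^ k * a)
  have hmod : ∀ k : ℕ, (a * b) ^ k = (a * b) ^ (k % 5) := fun k => pow_eq_pow_mod k h5
  have hS : ∀ {y}, y ∈ S ↔ ∃ k, y = (a * b) ^ k ∨ y = (a * b) ^ k * a := by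
    intro y
    simp only [S, Finset.mem_union, Finset.mem_image, Finset.mem_range]
    constructor
    · rintro (⟨k, -, rfl⟩ | ⟨k, -, rfl⟩)
      exacts [⟨k, Or.inl rfl⟩, ⟨k, Or.inr rfl⟩]
    · rintro ⟨k, rfl | rfl⟩
      exacts [Or.inl ⟨k % 5, Nat.mod_lt _ (by norm_num), (hmod k).symm⟩,
        Or.inr ⟨k % 5, Nat.mod_lt _ (by norm_num), by rw [← hmod k]⟩]
  have hr : ∀ y ∈ S, y * a ∈ S ∧ y * b ∈ S := by
    intro y hy
    obtain ⟨k, rfl | rfl⟩ := hS.1 hy
    · refine ⟨hS.2 ⟨k, Or.inr rfl⟩, hS.2 ⟨k + 4, Or.inr ?_⟩⟩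
      have e : b = (a * b) ^ 4 * a := by
        have h4 : (a * b) ^ 4 = (a * b)⁻¹ := by
          rw [eq_inv_iff_mul_eq_one, ← pow_succ]; exact h5
        rw [h4, mul_inv_rev, inv_mul_cancel_right, inv_eq_of_mul_eq_one_left hb]
      rw [pow_add, mul_assoc, ← e]
    · refine ⟨hS.2 ⟨k, Or.inl ?_⟩, hS.2 ⟨k + 1, Or.inl ?_⟩⟩
      · rw [mul_assoc, ha, mul_one]
      · rw [pow_succ, mul_assoc]
  have hsub : (Subgroup.closure ({a, b} : Set H) : Set H) ⊆ ↑S := by
    intro y hy
    induction hy using Subgroup.closure_induction_right with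
    | one => exact hS.2 ⟨0, Or.inl (pow_zero _).symm⟩
    | mul_right x _ y hy hx =>
      rcases hy with rfl | rfl
      exacts [(hr x hx).1, (hr x hx).2]
    | mul_inv_cancel x _ y hy hx =>
      rcases hy with rfl | rfl
      · rw [inv_eq_of_mul_eq_one_left ha]; exact (hr x hx).1
      · rw [inv_eq_of_mul_eq_one_left hb]; exact (hr x hx).2
  refine ⟨Set.Finite.to_subtype (S.finite_toSet.subset hsub), ?_⟩
  rw [← SetLike.coe_sort_coe, Nat.card_coe_set_eq]
  refine (Set.ncard_le_ncard hsub).trans ?_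
  rw [Set.ncard_coe_finset]
  refine (Finset.card_union_le _ _).trans ?_
  have h1 := Finset.card_image_le (s := Finset.range 5) (f := fun k => (a * b) ^ k)
  have h2 := Finset.card_image_le (s := Finset.range 5) (f := fun k => (a * b) ^ k * a)
  rw [Finset.card_range] at h1 h2
  omega

/-- The group of a base. -/
def CBase.grp {H : Type*} [Group H] (b : CBase H) : Subgroup H :=
  Subgroup.closure ((b.κ '' {n | n < 128}) ∪ (b.Y '' {i | i < 3}))

theorem CBase.κ_zero {H : Type*} [Group H] (b : CBase H) : b.κ 0 = 1 := by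
  have e := b.map_mul 0 (by norm_num) 0 (by norm_num)
  rw [(qMul_one 0 (by norm_num)).1] at e
  exact left_eq_mul.1 e

/-- The bound. -/
theorem CBase.card_le {H : Type*} [Group H] [Finite H] (b : CBase H) :
    Nat.card b.grp ≤ 128 * 25920 := by
  classical
  have hinv : ∀ m < 128, ∃ n < 128, qMul m n = 0 := by decide +kernel
  let N : Subgroup H :=
    { carrier := b.κ '' {n | n < 128}
      one_mem' := ⟨0, by simp, b.κ_zero⟩
      mul_mem' := by
        rintro _ _ ⟨m, hm, rfl⟩ ⟨n, hn, rfl⟩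
        exact ⟨qMul m n, qMul_lt m hm n hn, b.map_mul m hm n hn⟩
      inv_mem' := by
        rintro _ ⟨m, hm, rfl⟩
        obtain ⟨n, hn, e⟩ := hinv m hm
        refine ⟨n, hn, eq_inv_of_mul_eq_one_right ?_⟩
        rw [← b.map_mul m hm n hn, e, b.κ_zero] }
  have hNK : N ≤ b.grp := fun x hx => Subgroup.subset_closure (Or.inl hx)
  have hYK : ∀ {i}, i < 3 → b.Y i ∈ b.grp := fun hi => Subgroup.subset_closure (Or.inr ⟨_, hi, rfl⟩)
  have hY : ∀ i < 3, ∀ x ∈ N, b.Y i * x * (b.Y i)⁻¹ ∈ N := by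
    rintro i hi _ ⟨n, hn, rfl⟩
    exact ⟨_, app_lt i (by omega) n hn, (b.act i hi n hn).symm⟩
  have hnorm : ∀ g ∈ b.grp, g ∈ Subgroup.normalizer (N : Set H) := by
    refine fun g hg => (Subgroup.closure_le _).2 ?_ hg
    rintro x (hx | ⟨i, hi, rfl⟩)
    · exact Subgroup.le_normalizer hx
    · exact Subgroup.mem_normalizer_fintype (hY i hi)
  let N' := N.subgroupOf b.grp
  haveI : N'.Normal := Subgroup.normal_subgroupOf_of_le_normalizer hnorm
  let q := QuotientGroup.mk' N'
  let x : ℕ → ↥b.grp ⧸ N' := fun i => if h : i < 3 then q ⟨b.Y i, hYK h⟩ else 1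
  have hxY : ∀ {i} (h : i < 3), x i = q ⟨b.Y i, hYK h⟩ := fun h => dif_pos h
  have hq : ∀ (g : ↥b.grp), (g : H) ∈ N → q g = 1 := fun g hg =>
    (QuotientGroup.eq_one_iff g).2 hg
  have hx : ∀ g, x g * x g = 1 := by
    intro g
    by_cases h : g < 3
    · rw [hxY h, ← _root_.map_mul]
      refine hq _ ?_
      rw [Subgroup.coe_mul, b.sq g h]
      exact ⟨_, sq_lt g (by omega), rfl⟩
    · simp [x, h]
  have hw : ∀ {l : List ℕ}, (∀ i ∈ l, i < 3) → ∃ hm : wordOf b.Y l ∈ b.grp,
      wordOf x l = q ⟨_, hm⟩ := by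
    intro l hl
    induction l with
    | nil => exact ⟨one_mem _, (map_one q).symm⟩
    | cons i l ih =>
      obtain ⟨hm, e⟩ := ih fun j hj => hl j (List.mem_cons_of_mem _ hj)
      refine ⟨mul_mem (hYK (hl i List.mem_cons_self)) hm, ?_⟩
      rw [wordOf, e, hxY (hl i List.mem_cons_self), ← _root_.map_mul]
      rfl
  have hlet : ∀ r ∈ relC, (∀ i ∈ r.1, i < 3) ∧ r.2 < 128 := by decide +kernel
  have h31 : (3 : ℕ) ≤ eps := by decide
  have hrel : ∀ r ∈ quotRel, wordVal x r = 1 := by
    intro r hr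
    rcases List.mem_append.1 hr with h | h
    · simp only [List.mem_cons, List.not_mem_nil, or_false] at h
      rcases h with rfl | rfl | rfl <;> simp [wordVal, gen, eps, hx]
    · obtain ⟨r', hr', rfl⟩ := List.mem_map.1 h
      obtain ⟨hl, hv⟩ := hlet r' hr'
      obtain ⟨hm, e⟩ := hw hl
      rw [wordVal_eq_inv hx fun g hg => lt_of_lt_of_le (hl g hg) h31, e, hq _ ?_, inv_one]
      show wordOf b.Y r'.1 ∈ N
      rw [b.rel r' hr']
      exact ⟨_, hv, rfl⟩
  have h01 : ∀ u ∈ quotCert.U,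
      wordVal x u ∈ Subgroup.closure ({x 0, x 1} : Set (↥b.grp ⧸ N')) := by
    intro u hu
    rcases List.mem_cons.1 hu with rfl | hu
    · exact Subgroup.subset_closure (Or.inl (by simp [wordVal, gen, eps]))
    · obtain rfl := List.mem_singleton.1 hu
      exact Subgroup.subset_closure (Or.inr (by simp [wordVal, gen, eps]))
  obtain ⟨hK0, hK0c⟩ := card_dihedral (hx 0) (hx 1) (by
    have h := hrel [0, 1, 0, 1, 0, 1, 0, 1, 0, 1] (by decide +kernel)
    rw [wordVal_eq_inv hx (by decide), inv_eq_one] at h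
    simpa [wordOf, pow_succ, mul_assoc] using h)
  obtain ⟨-, hc⟩ := quotCert_valid.card_le hx hrel h01 hK0 hK0c
  have htop : Subgroup.closure (x '' {g | g ∈ quotCert.S}) = ⊤ := by
    rw [eq_top_iff]
    rintro g -
    obtain ⟨⟨g, hg⟩, rfl⟩ := QuotientGroup.mk'_surjective N' g
    induction hg using Subgroup.closure_induction with
    | mem a ha =>
      rcases ha with ha | ⟨i, hi, rfl⟩
      · exact (hq ⟨a, _⟩ ha).symm ▸ one_mem _
      · refine Subgroup.subset_closure ⟨i, ?_, hxY hi⟩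
        have hi' : i < 3 := hi
        interval_cases i <;> decide
    | one => exact one_mem _
    | mul a c ha hc iha ihc =>
      rw [show q ⟨a * c, _⟩ = q ⟨a, ha⟩ * q ⟨c, hc⟩ from _root_.map_mul q ⟨a, ha⟩ ⟨c, hc⟩]
      exact mul_mem iha ihc
    | inv a ha iha =>
      rw [show q ⟨a⁻¹, _⟩ = (q ⟨a, ha⟩)⁻¹ from map_inv q ⟨a, ha⟩]
      exact inv_mem iha
  rw [htop, Subgroup.card_top] at hc
  have hN : Nat.card N' ≤ 128 := by
    rw [Nat.card_congr (Subgroup.subgroupOfEquivOfLe hNK).toEquiv, ← SetLike.coe_sort_coe,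
      Nat.card_coe_set_eq]
    refine (Set.ncard_image_le (Set.finite_lt_nat 128)).trans ?_
    rw [show {n : ℕ | n < 128} = ↑(Finset.range 128) by ext; simp, Set.ncard_coe_finset,
      Finset.card_range]
  have hn : quotCert.n * 10 = 25920 := rfl
  rw [hn] at hc
  rw [Subgroup.card_eq_card_quotient_mul_card_subgroup N', mul_comm 128]
  exact Nat.mul_le_mul hc hN

end Cfsg.Lib.Extra.SuzUnique
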