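import Cfsg.Agent.Lib.Extra.SuzUnique.Siegel

/-!
# The five Siegel elements and the relators of the centralizer of an involution
-/

set_option autoImplicit false
set_option maxRecDepth 10000

namespace Cfsg.Lib.Extra.SuzUnique

/-- A Siegel element. -/
def siegel0 : SiegelCode :=
  ⟨3, 24, 4, [0, 1, 2, 3, 54, 55, 52, 53, 10, 11, 8, 9, 60, 61, 62, 63, 16, 17, 18, 19, 39, 38, 37, 36, 26, 27, 24, 25, 45, 44, 47, 46, 32, 33, 34, 35, 22, 23, 20, 21, 42, 43, 40, 41, 28, 29, 30, 31, 48, 49, 50, 51, 7, 6, 5, 4, 58, 59, 56, 57, 13, 12, 15, 14, 66, 67, 64, 65, 117, 116, 119, 118, 72, 73, 74, 75, 127, 126, 125, 124, 82, 83, 80, 81, 100, 101, 102, 103, 88, 89, 90, 91, 110, 111, 108, 109, 98, 99, 96, 97, 85, 84, 87, 86, 104, 105, 106, 107, 95, 94, 93, 92, 114, 115, 112, 113, 68, 69, 70, 71, 120, 121, 122, 123, 78, 79, 76, 77]⟩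

theorem siegel0_ok : siegel0.ok = true := by decide +kernel

/-- A Siegel element. -/
def siegel1 : SiegelCode :=
  ⟨15, 26, 2, [0, 1, 54, 55, 62, 63, 9, 8, 7, 6, 48, 49, 56, 57, 14, 15, 43, 42, 29, 28, 20, 21, 35, 34, 45, 44, 26, 27, 19, 18, 37, 36, 32, 33, 22, 23, 30, 31, 41, 40, 39, 38, 16, 17, 24, 25, 46, 47, 11, 10, 61, 60, 52, 53, 3, 2, 13, 12, 58, 59, 51, 50, 5, 4, 78, 79, 120, 121, 113, 112, 70, 71, 72, 73, 127, 126, 118, 119, 64, 65, 100, 101, 82, 83, 90, 91, 109, 108, 99, 98, 84, 85, 92, 93, 106, 107, 110, 111, 88, 89, 81, 80, 102, 103, 104, 105, 95, 94, 86, 87, 96, 97, 68, 69, 114, 115, 122, 123, 77, 76, 67, 66, 116, 117, 124, 125, 74, 75]⟩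

theorem siegel1_ok : siegel1.ok = true := by decide +kernel

/-- A Siegel element. -/
def siegel2 : SiegelCode :=
  ⟨46, 34, 2, [0, 1, 105, 104, 65, 64, 40, 41, 8, 9, 96, 97, 73, 72, 33, 32, 85, 84, 60, 61, 20, 21, 125, 124, 93, 92, 53, 52, 28, 29, 116, 117, 15, 14, 103, 102, 78, 79, 38, 39, 6, 7, 111, 110, 71, 70, 46, 47, 90, 91, 50, 51, 27, 26, 115, 114, 83, 82, 58, 59, 18, 19, 123, 122, 5, 4, 108, 109, 68, 69, 45, 44, 13, 12, 101, 100, 76, 77, 36, 37, 80, 81, 57, 56, 17, 16, 120, 121, 88, 89, 48, 49, 25, 24, 113, 112, 10, 11, 98, 99, 75, 74, 35, 34, 3, 2, 106, 107, 66, 67, 43, 42, 95, 94, 55, 54, 30, 31, 118, 119, 86, 87, 63, 62, 23, 22, 126, 127]⟩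

theorem siegel2_ok : siegel2.ok = true := by decide +kernel

/-- A Siegel element. -/
def siegel3 : SiegelCode :=
  ⟨106, 24, 4, [0, 1, 2, 3, 94, 95, 92, 93, 98, 99, 96, 97, 60, 61, 62, 63, 75, 74, 73, 72, 20, 21, 22, 23, 41, 40, 43, 42, 118, 119, 116, 117, 123, 122, 121, 120, 36, 37, 38, 39, 24, 25, 26, 27, 71, 70, 69, 68, 48, 49, 50, 51, 110, 111, 108, 109, 83, 82, 81, 80, 13, 12, 15, 14, 113, 112, 115, 114, 47, 46, 45, 44, 18, 19, 16, 17, 76, 77, 78, 79, 59, 58, 57, 56, 100, 101, 102, 103, 88, 89, 90, 91, 7, 6, 5, 4, 10, 11, 8, 9, 85, 84, 87, 86, 104, 105, 106, 107, 55, 54, 53, 52, 64, 65, 66, 67, 30, 31, 28, 29, 34, 35, 32, 33, 124, 125, 126, 127]⟩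

theorem siegel3_ok : siegel3.ok = true := by decide +kernel

/-- A Siegel element. -/
def siegel4 : SiegelCode :=
  ⟨47, 13, 2, [0, 1, 54, 55, 30, 31, 41, 40, 39, 38, 16, 17, 56, 57, 14, 15, 11, 10, 61, 60, 20, 21, 35, 34, 45, 44, 26, 27, 51, 50, 5, 4, 32, 33, 22, 23, 62, 63, 9, 8, 7, 6, 48, 49, 24, 25, 46, 47, 43, 42, 29, 28, 52, 53, 3, 2, 13, 12, 58, 59, 19, 18, 37, 36, 117, 116, 66, 67, 106, 107, 92, 93, 82, 83, 100, 101, 76, 77, 123, 122, 126, 127, 73, 72, 96, 97, 86, 87, 88, 89, 110, 111, 71, 70, 112, 113, 85, 84, 98, 99, 74, 75, 124, 125, 114, 115, 68, 69, 108, 109, 91, 90, 94, 95, 105, 104, 64, 65, 118, 119, 120, 121, 78, 79, 103, 102, 80, 81]⟩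

theorem siegel4_ok : siegel4.ok = true := by decide +kernel

/-- The Siegel elements. -/
def siegel : ℕ → SiegelCode
  | 0 => siegel0
  | 1 => siegel1
  | 2 => siegel2
  | 3 => siegel3
  | _ => siegel4

theorem siegel_ok : ∀ i, (siegel i).ok = true
  | 0 => siegel0_ok
  | 1 => siegel1_ok
  | 2 => siegel2_ok
  | 3 => siegel3_ok
  | _ + 4 => siegel4_ok

/-- The relators with an odd number of one of the generators, with their values. -/
def oddRel : List (List ℕ × ℕ) :=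
  [([0, 1, 0, 1, 0, 1, 0, 1, 0, 1], 0),
    ([0, 1, 2, 0, 2, 1, 2, 0, 1, 2, 0, 2, 1, 2, 0, 1, 2, 0, 2, 1, 2], 0),
    ([0, 1, 2, 0, 2, 0, 1, 2, 0, 2, 0, 1, 2, 0, 2, 0, 1, 2, 0, 2, 0, 1, 2, 0, 2], 105)]

/-- The square roots of the other relators, with their decomposition and the values. -/
def evenRel : List (List ℕ × ℕ × ℕ × ℕ) :=
  [([0, 2, 0, 2], 104, 3, 106),
    ([1, 2, 1, 2], 59, 4, 46)]

end Cfsg.Lib.Extra.SuzUnique
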