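import Cfsg.Agent.Lib.CosetEnum.Defs

/-!
# Chaining chunks of certificate checks
-/

set_option autoImplicit false

namespace Cfsg.Lib.Extra.SuzUnique

open Cfsg.Lib.CosetEnum

theorem steps_chain {R U : List (List Nat)} {F C : Tab} {d m n t : Nat}
    (h : stepsOK R U F C d m 0 = true) (h' : stepsOK R U F C d n m = true) (e : m + n = t) :
    stepsOK R U F C d t 0 = true := by
  subst e
  exact stepsOK_append h (by rw [Nat.zero_add]; exact h')

theorem defs_chain {F : Tab} {m n t : Nat} (h : defsOK F m 0 = true) (h' : defsOK F n m = true)
    (e : m + n = t) : defsOK F t 0 = true := by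
  subst e
  exact defsOK_append h (by rw [Nat.zero_add]; exact h')

theorem closed_chain {F Z P : Tab} {bound n k : Nat} {S : List Nat} {a b t : Nat}
    (h : closedOK F Z P bound n k S a 0 = true) (h' : closedOK F Z P bound n k S b a = true)
    (e : a + b = t) : closedOK F Z P bound n k S t 0 = true := by
  subst e
  exact closedOK_append h (by rw [Nat.zero_add]; exact h')

end Cfsg.Lib.Extra.SuzUnique
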