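import Cfsg.Agent.Lib.Extra.SuzUnique.Codes
import Cfsg.Agent.Lib.Extra.SuzLocal.BType
import Cfsg.Agent.Lib.Extra.SuzLocal.Config
import Cfsg.Agent.Lib.Extra.SuzLocal.QCount

/-!
# Charts of the extraspecial subgroup

A chart numbers `Q` by the codes, the product following `qMul`, the squaring and commutator forms
of the classes following `qV` and `bV`.
-/

set_option autoImplicit false
set_option linter.style.haveILetI false
set_option linter.unusedSectionVars false

namespace Cfsg.Lib.Extra.SuzUnique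

open Cfsg Module Cfsg.Lib.Linear.Orth Cfsg.Lib.Extra.Wide Cfsg.Lib.Extra.SuzLocal
open scoped Matrix

universe u

variable {G : Type u} [Group G] {ι : Type} [Fintype ι] [DecidableEq ι] {D : Data G ι}

/-- A numbering of `Q` by codes. -/
structure Chart (D : Data G ι) where
  /-- The element of a code. -/
  κ : ℕ → G
  mem : ∀ {n}, n < 128 → κ n ∈ D.Q
  map_mul : ∀ {m n}, m < 128 → n < 128 → κ (qMul m n) = κ m * κ n
  inj : ∀ {m n}, m < 128 → n < 128 → κ m = κ n → m = n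
  surj : ∀ {q}, q ∈ D.Q → ∃ n < 128, κ n = q
  z_eq : κ 1 = D.z
  qf_eq : ∀ {n}, n < 128 → D.qf (D.cls (κ n)) = (qV (n / 2) : ZMod 2)
  B_eq : ∀ {m n}, m < 128 → n < 128 → D.B (D.cls (κ m)) (D.cls (κ n)) = (bV (m / 2) (n / 2) : ZMod 2)

/-- Two maps of codes that multiply alike agree once they agree on the generators. -/
theorem eq_of_gens {H : Type*} [Group H] {f g : ℕ → H}
    (hf : ∀ m < 128, ∀ n < 128, f (qMul m n) = f m * f n)
    (hg : ∀ m < 128, ∀ n < 128, g (qMul m n) = g m * g n)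
    (h : ∀ n ∈ gens7, f n = g n) : ∀ n < 128, f n = g n := by
  intro n
  induction n using Nat.strong_induction_on with
  | _ n ih =>
    intro hn
    rcases eq_or_ne n 0 with rfl | h0
    · have e1 := hf 0 hn 0 hn
      have e2 := hg 0 hn 0 hn
      rw [(qMul_one 0 hn).1] at e1 e2
      rw [left_eq_mul.1 e1, left_eq_mul.1 e2]
    · obtain ⟨a, ha, m, hm, e⟩ := qMul_reach n hn h0
      have ha' : a < 128 := by fin_cases ha <;> norm_num
      rw [← e, hf m (hm.trans hn) a ha', hg m (hm.trans hn) a ha', ih m hm (hm.trans hn), h a ha]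

/-- Multiplying alike on the generators is enough. -/
theorem map_mul_of_gens {H : Type*} [Group H] {f : ℕ → H} (h0 : f 0 = 1)
    (h : ∀ m < 128, ∀ g ∈ gens7, f (qMul m g) = f m * f g) :
    ∀ m < 128, ∀ n < 128, f (qMul m n) = f m * f n := by
  intro m hm n
  induction n using Nat.strong_induction_on with
  | _ n ih =>
    intro hn
    rcases eq_or_ne n 0 with rfl | hn0
    · rw [(qMul_one m hm).1, h0, mul_one]
    · obtain ⟨a, ha, k, hk, e⟩ := qMul_reach n hn hn0
      have hk' := hk.trans hn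
      have ha' : a < 128 := by fin_cases ha <;> norm_num
      have hass : qMul (qMul m k) a = qMul m (qMul k a) := by
        have h1 := qMul_assoc_gen
        rw [List.all_eq_true] at h1
        have h2 := h1 m (List.mem_range.2 hm)
        rw [List.all_eq_true] at h2
        have h3 := h2 k (List.mem_range.2 hk')
        rw [List.all_eq_true] at h3
        exact Nat.eq_of_beq_eq_true (h3 a ha)
      rw [← e, ← hass, h _ (qMul_lt m hm k hk') a ha, ih k hk hk', h k hk' a ha, mul_assoc]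

section Ordered

variable (z : G) (e0 e1 e2 e3 e4 e5 : G)

/-- The ordered product with the given exponents. -/
def ordProd (s c0 c1 c2 c3 c4 c5 : ZMod 2) : G :=
  pick z s * (pick e0 c0 * (pick e1 c1 * (pick e2 c2 * (pick e3 c3 * (pick e4 c4 * pick e5 c5)))))

/-- The ordered product of a code. -/
def codeProd (n : ℕ) : G :=
  ordProd z e0 e1 e2 e3 e4 e5 (bit2 n 0) (bit2 n 1) (bit2 n 2) (bit2 n 3) (bit2 n 4) (bit2 n 5)
    (bit2 n 6)

variable {z e0 e1 e2 e3 e4 e5}

/-- Moving an element left past a power. -/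
theorem pick_push {a e : G} {β : ZMod 2} (hz : ∀ w, Commute z w) (hz2 : z * z = 1)
    (h : a * e = pick z β * (e * a)) (c : ZMod 2) :
    pick a c * e = pick z (c * β) * (e * pick a c) := by
  rcases bit c with rfl | rfl
  · simp
  · simpa using h

theorem codeProd_mul (hz : ∀ w, Commute z w) (hz2 : z * z = 1)
    (q0 : e0 * e0 = 1) (q1 : e1 * e1 = 1) (q2 : e2 * e2 = z) (q3 : e3 * e3 = z) (q4 : e4 * e4 = 1)
    (q5 : e5 * e5 = 1)
    (p10 : e1 * e0 = z * (e0 * e1)) (p32 : e3 * e2 = z * (e2 * e3))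
    (p54 : e5 * e4 = z * (e4 * e5))
    (c20 : Commute e2 e0) (c30 : Commute e3 e0) (c40 : Commute e4 e0) (c50 : Commute e5 e0)
    (c21 : Commute e2 e1) (c31 : Commute e3 e1) (c41 : Commute e4 e1) (c51 : Commute e5 e1)
    (c42 : Commute e4 e2) (c52 : Commute e5 e2) (c43 : Commute e4 e3) (c53 : Commute e5 e3) :
    ∀ m < 128, ∀ g ∈ gens7, codeProd z e0 e1 e2 e3 e4 e5 (qMul m g) =
      codeProd z e0 e1 e2 e3 e4 e5 m * codeProd z e0 e1 e2 e3 e4 e5 g := by
  have hc : ∀ {a e : G}, Commute a e → ∀ c : ZMod 2, Commute (pick a c) e := fun h c => pick_comm h c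
  have hp : ∀ (w : G) (c : ZMod 2), Commute (pick z c) w := fun w c => hc (hz w) c
  have hzz : ∀ a b : ZMod 2, ∀ w : G, pick z a * (pick z b * w) = pick z (a + b) * w := fun a b w => by
    rw [← mul_assoc, pick_add hz2]
  -- right multiplication by each generator
  have r0 : ∀ s a0 a1 a2 a3 a4 a5 : ZMod 2, ordProd z e0 e1 e2 e3 e4 e5 s a0 a1 a2 a3 a4 a5 * e0 =
      ordProd z e0 e1 e2 e3 e4 e5 (s + a1) (a0 + 1) a1 a2 a3 a4 a5 := by
    intro s a0 a1 a2 a3 a4 a5
    have h1 : pick e1 a1 * e0 = pick z a1 * (e0 * pick e1 a1) := by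
      rw [pick_push hz hz2 (β := 1) (by rw [pick_one]; exact p10) a1, mul_one]
    simp only [ordProd, mul_assoc, (hc c50 a5).eq]
    rw [← mul_assoc (pick e4 a4) e0, (hc c40 a4).eq, mul_assoc e0,
      ← mul_assoc (pick e3 a3) e0, (hc c30 a3).eq, mul_assoc e0,
      ← mul_assoc (pick e2 a2) e0, (hc c20 a2).eq, mul_assoc e0,
      ← mul_assoc (pick e1 a1) e0, h1, mul_assoc (pick z a1), mul_assoc e0,
      ← mul_assoc (pick e0 a0) (pick z a1), ← (hp (pick e0 a0) a1).eq, mul_assoc (pick z a1),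
      hzz, ← mul_assoc (pick e0 a0) e0]
    congr 2
    nth_rewrite 2 [← pick_one e0]
    rw [pick_add q0]
  have r1 : ∀ s a0 a1 a2 a3 a4 a5 : ZMod 2, ordProd z e0 e1 e2 e3 e4 e5 s a0 a1 a2 a3 a4 a5 * e1 =
      ordProd z e0 e1 e2 e3 e4 e5 s a0 (a1 + 1) a2 a3 a4 a5 := by
    intro s a0 a1 a2 a3 a4 a5
    simp only [ordProd, mul_assoc, (hc c51 a5).eq]
    rw [← mul_assoc (pick e4 a4) e1, (hc c41 a4).eq, mul_assoc e1,
      ← mul_assoc (pick e3 a3) e1, (hc c31 a3).eq, mul_assoc e1,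
      ← mul_assoc (pick e2 a2) e1, (hc c21 a2).eq, mul_assoc e1, ← mul_assoc (pick e1 a1) e1]
    congr 3
    nth_rewrite 2 [← pick_one e1]
    rw [pick_add q1]
  have r2 : ∀ s a0 a1 a2 a3 a4 a5 : ZMod 2, ordProd z e0 e1 e2 e3 e4 e5 s a0 a1 a2 a3 a4 a5 * e2 =
      ordProd z e0 e1 e2 e3 e4 e5 (s + (a3 + a2)) a0 a1 (a2 + 1) a3 a4 a5 := by
    intro s a0 a1 a2 a3 a4 a5
    have h3 : pick e3 a3 * e2 = pick z a3 * (e2 * pick e3 a3) := by
      rw [pick_push hz hz2 (β := 1) (by rw [pick_one]; exact p32) a3, mul_one]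
    have h2 : pick e2 a2 * e2 = pick z a2 * pick e2 (a2 + 1) := by
      rcases bit a2 with rfl | rfl <;> simp [bit_self, q2]
    simp only [ordProd, mul_assoc, (hc c52 a5).eq]
    rw [← mul_assoc (pick e4 a4) e2, (hc c42 a4).eq, mul_assoc e2,
      ← mul_assoc (pick e3 a3) e2, h3, mul_assoc (pick z a3), mul_assoc e2,
      ← mul_assoc (pick e2 a2) (pick z a3), ← (hp (pick e2 a2) a3).eq, mul_assoc (pick z a3),
      ← mul_assoc (pick e2 a2) e2, h2, mul_assoc (pick z a2), hzz,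
      ← mul_assoc (pick e1 a1) (pick z _), ← (hp (pick e1 a1) _).eq, mul_assoc (pick z _),
      ← mul_assoc (pick e0 a0) (pick z _), ← (hp (pick e0 a0) _).eq, mul_assoc (pick z _), hzz]
  have r3 : ∀ s a0 a1 a2 a3 a4 a5 : ZMod 2, ordProd z e0 e1 e2 e3 e4 e5 s a0 a1 a2 a3 a4 a5 * e3 =
      ordProd z e0 e1 e2 e3 e4 e5 (s + a3) a0 a1 a2 (a3 + 1) a4 a5 := by
    intro s a0 a1 a2 a3 a4 a5
    have h3 : pick e3 a3 * e3 = pick z a3 * pick e3 (a3 + 1) := by
      rcases bit a3 with rfl | rfl <;> simp [bit_self, q3]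
    simp only [ordProd, mul_assoc, (hc c53 a5).eq]
    rw [← mul_assoc (pick e4 a4) e3, (hc c43 a4).eq, mul_assoc e3,
      ← mul_assoc (pick e3 a3) e3, h3, mul_assoc (pick z a3),
      ← mul_assoc (pick e2 a2) (pick z _), ← (hp (pick e2 a2) _).eq, mul_assoc (pick z _),
      ← mul_assoc (pick e1 a1) (pick z _), ← (hp (pick e1 a1) _).eq, mul_assoc (pick z _),
      ← mul_assoc (pick e0 a0) (pick z _), ← (hp (pick e0 a0) _).eq, mul_assoc (pick z _), hzz]
  have r4 : ∀ s a0 a1 a2 a3 a4 a5 : ZMod 2, ordProd z e0 e1 e2 e3 e4 e5 s a0 a1 a2 a3 a4 a5 * e4 =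
      ordProd z e0 e1 e2 e3 e4 e5 (s + a5) a0 a1 a2 a3 (a4 + 1) a5 := by
    intro s a0 a1 a2 a3 a4 a5
    have h5 : pick e5 a5 * e4 = pick z a5 * (e4 * pick e5 a5) := by
      rw [pick_push hz hz2 (β := 1) (by rw [pick_one]; exact p54) a5, mul_one]
    have h4 : pick e4 a4 * e4 = pick e4 (a4 + 1) := by
      nth_rewrite 2 [← pick_one e4]; rw [pick_add q4]
    simp only [ordProd, mul_assoc, h5]
    rw [← mul_assoc (pick e4 a4) (pick z _), ← (hp (pick e4 a4) _).eq, mul_assoc (pick z _),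
      ← mul_assoc (pick e4 a4) e4, h4,
      ← mul_assoc (pick e3 a3) (pick z _), ← (hp (pick e3 a3) _).eq, mul_assoc (pick z _),
      ← mul_assoc (pick e2 a2) (pick z _), ← (hp (pick e2 a2) _).eq, mul_assoc (pick z _),
      ← mul_assoc (pick e1 a1) (pick z _), ← (hp (pick e1 a1) _).eq, mul_assoc (pick z _),
      ← mul_assoc (pick e0 a0) (pick z _), ← (hp (pick e0 a0) _).eq, mul_assoc (pick z _), hzz]
  have r5 : ∀ s a0 a1 a2 a3 a4 a5 : ZMod 2, ordProd z e0 e1 e2 e3 e4 e5 s a0 a1 a2 a3 a4 a5 * e5 =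
      ordProd z e0 e1 e2 e3 e4 e5 s a0 a1 a2 a3 a4 (a5 + 1) := by
    intro s a0 a1 a2 a3 a4 a5
    have h5 : pick e5 a5 * e5 = pick e5 (a5 + 1) := by
      nth_rewrite 2 [← pick_one e5]; rw [pick_add q5]
    simp only [ordProd, mul_assoc, h5]
  have rz : ∀ s a0 a1 a2 a3 a4 a5 : ZMod 2, ordProd z e0 e1 e2 e3 e4 e5 s a0 a1 a2 a3 a4 a5 * z =
      ordProd z e0 e1 e2 e3 e4 e5 (s + 1) a0 a1 a2 a3 a4 a5 := by
    intro s a0 a1 a2 a3 a4 a5
    rw [← (hz _).eq]
    simp only [ordProd]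
    nth_rewrite 1 [← pick_one z]
    rw [hzz, add_comm]
  intro m hm g hg
  have hbits : ∀ m < 128, ∀ i < 7, bit2 m i = 0 ∨ bit2 m i = 1 := by decide +kernel
  have g1 : codeProd z e0 e1 e2 e3 e4 e5 1 = z := by simp [codeProd, ordProd, bit2]
  have g2 : codeProd z e0 e1 e2 e3 e4 e5 2 = e0 := by simp [codeProd, ordProd, bit2]
  have g4 : codeProd z e0 e1 e2 e3 e4 e5 4 = e1 := by simp [codeProd, ordProd, bit2]
  have g8 : codeProd z e0 e1 e2 e3 e4 e5 8 = e2 := by simp [codeProd, ordProd, bit2]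
  have g16 : codeProd z e0 e1 e2 e3 e4 e5 16 = e3 := by simp [codeProd, ordProd, bit2]
  have g32 : codeProd z e0 e1 e2 e3 e4 e5 32 = e4 := by simp [codeProd, ordProd, bit2]
  have g64 : codeProd z e0 e1 e2 e3 e4 e5 64 = e5 := by simp [codeProd, ordProd, bit2]
  fin_cases hg
  · obtain ⟨x0, x1, x2, x3, x4, x5, x6⟩ := bit_step1 m hm
    rw [g1]
    simp only [codeProd, x0, x1, x2, x3, x4, x5, x6, ZMod.natCast_mod, Nat.cast_add, Nat.cast_one,
      rz]
  · obtain ⟨x0, x1, x2, x3, x4, x5, x6⟩ := bit_step2 m hm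
    rw [g2]
    simp only [codeProd, x0, x1, x2, x3, x4, x5, x6, ZMod.natCast_mod, Nat.cast_add, Nat.cast_one,
      r0]
  · obtain ⟨x0, x1, x2, x3, x4, x5, x6⟩ := bit_step4 m hm
    rw [g4]
    simp only [codeProd, x0, x1, x2, x3, x4, x5, x6, ZMod.natCast_mod, Nat.cast_add, Nat.cast_one,
      r1]
  · obtain ⟨x0, x1, x2, x3, x4, x5, x6⟩ := bit_step8 m hm
    rw [g8]
    simp only [codeProd, x0, x1, x2, x3, x4, x5, x6, ZMod.natCast_mod, Nat.cast_add, Nat.cast_one,
      r2]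
  · obtain ⟨x0, x1, x2, x3, x4, x5, x6⟩ := bit_step16 m hm
    rw [g16]
    simp only [codeProd, x0, x1, x2, x3, x4, x5, x6, ZMod.natCast_mod, Nat.cast_add, Nat.cast_one,
      r3]
  · obtain ⟨x0, x1, x2, x3, x4, x5, x6⟩ := bit_step32 m hm
    rw [g32]
    simp only [codeProd, x0, x1, x2, x3, x4, x5, x6, ZMod.natCast_mod, Nat.cast_add, Nat.cast_one,
      r4]
  · obtain ⟨x0, x1, x2, x3, x4, x5, x6⟩ := bit_step64 m hm
    rw [g64]
    simp only [codeProd, x0, x1, x2, x3, x4, x5, x6, ZMod.natCast_mod, Nat.cast_add, Nat.cast_one,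
      r5]

theorem bits_inj : ∀ m < 128, ∀ n < 128, (∀ i < 7, bit2 m i = bit2 n i) → m = n := by decide +kernel

end Ordered

variable [Finite G]

/-- Six elements with the relations of the hyperbolic and anisotropic pairs give a chart. -/
theorem exists_chart_of_basis (M : Model D) (w : Fin 6 → (ι → ZMod 2))
    (hq : ∀ i, D.qf (w i) = (qV (2 ^ (i : ℕ)) : ZMod 2))
    (hB : ∀ i j, D.B (w i) (w j) = (bV (2 ^ (i : ℕ)) (2 ^ (j : ℕ)) : ZMod 2)) :
    Nonempty (Chart D) := by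
  classical
  choose e heQ hec using fun i => D.cls_surj (w i)
  have hz : ∀ q ∈ D.Q, Commute D.z q := fun q hq => D.ctx.central q hq
  have hsq : ∀ i, e i * e i = pick D.z (qV (2 ^ (i : ℕ)) : ZMod 2) := by
    intro i
    rw [← hq i, ← hec i]
    rcases bit (D.qf (D.cls (e i))) with h | h <;> rw [h]
    · rw [(D.cls_sq _ (heQ i)).2 h, pick_zero]
    · rcases D.ctx.sq _ (heQ i) with e' | e'
      · have h2 := (D.cls_sq _ (heQ i)).1 e'
        rw [h] at h2
        exact absurd h2 one_ne_zero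
      · rw [e', pick_one]
  have hsw : ∀ i j, e i * e j = pick D.z (bV (2 ^ (i : ℕ)) (2 ^ (j : ℕ)) : ZMod 2) * (e j * e i) := by
    intro i j
    rw [← hB i j, ← hec i, ← hec j]
    rcases bit (D.B (D.cls (e i)) (D.cls (e j))) with h | h <;> rw [h]
    · rw [pick_zero, one_mul, ((D.cls_comm _ (heQ i) _ (heQ j)).2 h).eq]
    · rw [pick_one, ← mul_assoc, ← mul_inv_eq_iff_eq_mul, D.q_move (heQ i) (heQ j) h]
  -- work inside `Q`
  let z' : ↥D.Q := ⟨D.z, D.ctx.mem⟩
  let f : Fin 6 → ↥D.Q := fun i => ⟨e i, heQ i⟩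
  have hz' : ∀ a : ↥D.Q, Commute z' a := fun a => Subtype.ext (hz a a.2).eq
  have hz2 : z' * z' = 1 := Subtype.ext D.ctx.sq_z
  have hcm : ∀ i j : Fin 6, bV (2 ^ (i : ℕ)) (2 ^ (j : ℕ)) = 0 → Commute (f i) (f j) := fun i j h =>
    Subtype.ext (show e i * e j = e j * e i by rw [hsw i j, h, Nat.cast_zero, pick_zero, one_mul])
  have hac : ∀ i j : Fin 6, bV (2 ^ (i : ℕ)) (2 ^ (j : ℕ)) = 1 → f i * f j = z' * (f j * f i) :=
    fun i j h => Subtype.ext (show e i * e j = D.z * (e j * e i) by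
      rw [hsw i j, h, Nat.cast_one, pick_one])
  have hs0 : ∀ i : Fin 6, qV (2 ^ (i : ℕ)) = 0 → f i * f i = 1 := fun i h =>
    Subtype.ext (show e i * e i = 1 by rw [hsq i, h, Nat.cast_zero, pick_zero])
  have hs1 : ∀ i : Fin 6, qV (2 ^ (i : ℕ)) = 1 → f i * f i = z' := fun i h =>
    Subtype.ext (show e i * e i = D.z by rw [hsq i, h, Nat.cast_one, pick_one])
  let κ' : ℕ → ↥D.Q := codeProd z' (f 0) (f 1) (f 2) (f 3) (f 4) (f 5)
  have hmul : ∀ m < 128, ∀ n < 128, κ' (qMul m n) = κ' m * κ' n :=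
    map_mul_of_gens (by simp [κ', codeProd, ordProd, bit2])
      (codeProd_mul hz' hz2 (hs0 0 (by decide)) (hs0 1 (by decide)) (hs1 2 (by decide))
        (hs1 3 (by decide)) (hs0 4 (by decide)) (hs0 5 (by decide))
        (hac 1 0 (by decide)) (hac 3 2 (by decide)) (hac 5 4 (by decide))
        (hcm 2 0 (by decide)) (hcm 3 0 (by decide)) (hcm 4 0 (by decide)) (hcm 5 0 (by decide))
        (hcm 2 1 (by decide)) (hcm 3 1 (by decide)) (hcm 4 1 (by decide)) (hcm 5 1 (by decide))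
        (hcm 4 2 (by decide)) (hcm 5 2 (by decide)) (hcm 4 3 (by decide)) (hcm 5 3 (by decide)))
  -- the classes
  have hcls : ∀ n < 128, D.cls (κ' n : G) = ∑ i : Fin 6, (bit2 n ((i : ℕ) + 1) : ZMod 2) • w i := by
    intro n _
    have hp : ∀ (i : Fin 6) (c : ZMod 2),
        pick (f i) c = ⟨pick (e i) c, by rcases bit c with rfl | rfl <;> simp [heQ i]⟩ := by
      intro i c; rcases bit c with rfl | rfl <;> exact Subtype.ext (by simp [f])
    have hpq : ∀ (i : Fin 6) (c : ZMod 2), pick (e i) c ∈ D.Q ∧ D.cls (pick (e i) c) = c • w i := by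
      intro i c; rcases bit c with rfl | rfl <;> simp [heQ i, hec i, D.cls_one]
    have hzp : ∀ c : ZMod 2, pick z' c = ⟨pick D.z c, (pick_z_mem D c).1⟩ := by
      intro c; rcases bit c with rfl | rfl <;> exact Subtype.ext (by simp [z'])
    simp only [κ', codeProd, ordProd, hp, hzp, Subgroup.coe_mul]
    have m45 := mul_mem (hpq 4 (bit2 n 5)).1 (hpq 5 (bit2 n 6)).1
    have m35 := mul_mem (hpq 3 (bit2 n 4)).1 m45
    have m25 := mul_mem (hpq 2 (bit2 n 3)).1 m35
    have m15 := mul_mem (hpq 1 (bit2 n 2)).1 m25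
    have m05 := mul_mem (hpq 0 (bit2 n 1)).1 m15
    rw [D.cls_mul _ (pick_z_mem D _).1 _ m05, (pick_z_mem D _).2, zero_add,
      D.cls_mul _ (hpq 0 _).1 _ m15, D.cls_mul _ (hpq 1 _).1 _ m25, D.cls_mul _ (hpq 2 _).1 _ m35,
      D.cls_mul _ (hpq 3 _).1 _ m45, D.cls_mul _ (hpq 4 _).1 _ (hpq 5 _).1, (hpq 0 _).2, (hpq 1 _).2,
      (hpq 2 _).2, (hpq 3 _).2, (hpq 4 _).2, (hpq 5 _).2]
    simp [Fin.sum_univ_six, add_assoc]
  have hBv : ∀ m < 128, ∀ n < 128,
      D.B (D.cls (κ' m : G)) (D.cls (κ' n : G)) = (bV (m / 2) (n / 2) : ZMod 2) := by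
    intro m hm n hn
    rw [hcls m hm, hcls n hn]
    simp only [Fin.sum_univ_six, map_add, map_smul, LinearMap.add_apply, LinearMap.smul_apply,
      smul_eq_mul, hB]
    have hb : ∀ k i : ℕ, bit2 (k / 2) i = bit2 k (i + 1) := fun k i => by
      simp [bit2, Nat.div_div_eq_div_mul, pow_succ']
    conv_rhs => simp only [bV, hb, ZMod.natCast_mod, Nat.cast_add, Nat.cast_mul]
    simp only [show bV (2 ^ ((0 : Fin 6) : ℕ)) (2 ^ ((0 : Fin 6) : ℕ)) = 0 from rfl, bV,
      show ((0 : Fin 6) : ℕ) = 0 from rfl, show ((1 : Fin 6) : ℕ) = 1 from rfl,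
      show ((2 : Fin 6) : ℕ) = 2 from rfl, show ((3 : Fin 6) : ℕ) = 3 from rfl,
      show ((4 : Fin 6) : ℕ) = 4 from rfl, show ((5 : Fin 6) : ℕ) = 5 from rfl]
    norm_num [bit2]
    ring
  have hqv : ∀ n < 128, D.qf (D.cls (κ' n : G)) = (qV (n / 2) : ZMod 2) := by
    intro n hn
    have h := hBv n hn n hn
    have hk : κ' n * κ' n = κ' (qV (n / 2)) := by rw [← hmul n hn n hn, qMul_sq n hn]
    have hz1 : κ' 1 = z' := by simp [κ', codeProd, ordProd, bit2]
    have h0 : κ' 0 = 1 := by simp [κ', codeProd, ordProd, bit2]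
    have hlt : n / 2 < 64 := by omega
    rcases qV_bit _ hlt with e' | e' <;> rw [e']
    · rw [e', h0] at hk
      rw [Nat.cast_zero, (D.cls_sq _ (κ' n).2).1 (congrArg Subtype.val hk)]
    · rw [e', hz1] at hk
      rw [Nat.cast_one]
      refine (bit _).resolve_left fun e0 => D.ctx.ne_one ?_
      have h2 := (D.cls_sq _ (κ' n).2).2 e0
      rw [← h2]
      exact (congrArg Subtype.val hk).symm
  have hinj : ∀ m < 128, ∀ n < 128, κ' m = κ' n → m = n := by
    intro m hm n hn hmn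
    have hc := congrArg (fun a : ↥D.Q => D.cls (a : G)) hmn
    -- the classes agree, so the products agree up to the centre
    have hb : ∀ j < 64, bV (m / 2) j = bV (n / 2) j := by
      intro j hj
      have e1 := hBv m hm (2 * j) (by omega)
      have e2 := hBv n hn (2 * j) (by omega)
      rw [show D.cls (κ' m : G) = D.cls (κ' n : G) from hc, e2, show 2 * j / 2 = j by omega] at e1
      rcases bV_bit (m / 2) (by omega) j hj with a | a <;>
        rcases bV_bit (n / 2) (by omega) j hj with b | b <;> rw [a, b] at e1 ⊢ <;>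
        simp at e1
    have hd : m / 2 = n / 2 := (show ∀ a < 64, ∀ b < 64, (∀ j < 64, bV a j = bV b j) → a = b by
      decide +kernel) _ (by omega) _ (by omega) hb
    by_contra hne
    have hmn' : n = qMul 1 m := by
      rw [(qMul_center m hm).1]
      exact (show ∀ a < 128, ∀ b < 128, a / 2 = b / 2 → ¬ a = b → b = Nat.xor a 1 by decide +kernel)
        m hm n hn hd hne
    have hz1 : κ' 1 = z' := by simp [κ', codeProd, ordProd, bit2]
    rw [hmn', hmul 1 (by norm_num) m hm, hz1, right_eq_mul] at hmn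
    exact D.ctx.ne_one (congrArg Subtype.val hmn)
  refine ⟨⟨fun n => (κ' n : G), fun {n} _ => (κ' n).2, fun {m n} hm hn => ?_, fun {m n} hm hn h =>
    hinj m hm n hn (Subtype.ext h), fun {q} hq => ?_, ?_, fun {n} hn => hqv n hn,
    fun {m n} hm hn => hBv m hm n hn⟩⟩
  · rw [hmul m hm n hn]; rfl
  · let φ : Fin 128 → ↥D.Q := fun n => κ' n
    have hb : Function.Bijective φ := (Nat.bijective_iff_injective_and_card φ).2
      ⟨fun a b h => Fin.ext (hinj a a.2 b b.2 h), by rw [Nat.card_fin, card_Q M]⟩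
    obtain ⟨n, hn⟩ := hb.2 ⟨q, hq⟩
    exact ⟨n, n.2, congrArg Subtype.val hn⟩
  · simp [κ', codeProd, ordProd, bit2, z']

theorem exists_chart (M : Model D) : Nonempty (Chart D) := by
  obtain ⟨x, x', h, t, q1, q2, y1, y2, v, u, r1, r2, K⟩ := exists_cfg M.six
  obtain ⟨f0, hpf, hvf, huf, hr1f, hr2f⟩ := K.coord.exists_f
  set p := D.cls t with hpdef
  have hvp : D.B v p = 0 := (D.space.symm _ _).trans K.coord.frame.vperp
  have hup : D.B u p = 0 := (D.space.symm _ _).trans K.coord.frame.uperp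
  have hr1p : D.B r1 p = 0 := (D.space.symm _ _).trans K.coord.pr
  have hr2p : D.B r2 p = 0 := (D.space.symm _ _).trans K.coord.pr'
  have hqp : D.qf p = 0 := K.coord.frame.pt.cls_sing
  set f := f0 + D.qf f0 • p with hf
  have h1 : D.B p f = 1 := by simp [hf, hpf, B_self D.space]
  have h2 : D.B v f = 0 := by simp [hf, hvf, hvp]
  have h3 : D.B u f = 0 := by simp [hf, huf, hup]
  have h4 : D.B r1 f = 0 := by simp [hf, hr1f, hr1p]
  have h5 : D.B r2 f = 0 := by simp [hf, hr2f, hr2p]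
  have h6 : D.qf f = 0 := by
    rw [hf, D.space.add, D.space.smul, hqp, map_smul, D.space.symm f0 p, hpf]
    simp [bit_self]
  have hqv := frame_qv K.coord.six K.coord.frame
  have hqu : D.qf u = 1 := K.coord.frame.qu.trans hqv
  refine exists_chart_of_basis M ![p, f, u, v, r1, r2] (fun i => ?_) (fun i j => ?_)
  · fin_cases i <;> simp [qV, bit2, hqp, h6, hqu, hqv, K.qr1, K.qr2]
  · fin_cases i <;> fin_cases j <;>
      simp [bV, bit2, B_self D.space, hvp, hup, hr1p, hr2p, h1, h2, h3, h4, h5, K.coord.uv,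
        K.coord.rr, D.space.symm f p, D.space.symm f u, D.space.symm f v, D.space.symm f r1,
        D.space.symm f r2, D.space.symm p u, D.space.symm p v, D.space.symm p r1, D.space.symm p r2,
        D.space.symm v u, D.space.symm r2 r1, D.space.symm r1 u, D.space.symm r1 v,
        D.space.symm r2 u, D.space.symm r2 v, K.coord.ur, K.coord.ur', K.coord.vr, K.coord.vr']

end Cfsg.Lib.Extra.SuzUnique
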