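import Cfsg.Agent.Lib.Extra.SuzUnique.CodeData.Data
import Cfsg.Agent.Lib.Extra.SuzUnique.PermData.Data
import Cfsg.Agent.Lib.Extra.SuzUnique.Center
import Cfsg.Agent.Lib.CosetEnum.BaseFix

/-!
# The action of the letters on the codes
-/

set_option autoImplicit false
set_option maxRecDepth 20000

namespace Cfsg.Lib.Extra.SuzUnique

open Cfsg.Lib.CosetEnum

/-- The action of a letter on the codes, from its expression. -/
def letterTab (j n : ℕ) : ℕ :=
  conjTab (PermData.letterExpr.getD j (0, [])).1 (wordTab (PermData.letterExpr.getD j (0, [])).2 n)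

theorem letterTab_ok : ∀ j < 10, ∀ n < 128, img CodeData.tabT 10 j n = letterTab j n := by
  decide +kernel

theorem tperm128_ok : permOK CodeData.tabT 10 128 [] 128 0 = true := by decide +kernel

theorem base128_ok : BaseOK CodeData.tabT 10 128 CodeData.levels := by
  refine ⟨?_, ?_, ?_, ?_, ?_, ?_, ?_, ?_, ?_, ?_, ?_, ?_, trivial⟩ <;> decide +kernel

theorem base128_size : baseSize CodeData.levels = 1658880 := by decide +kernel

theorem words_lt : (∀ L ∈ CodeData.levels, ∀ u ∈ L.U, ∀ g ∈ u, g < 10) ∧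
    ∀ L ∈ PermData.levels, ∀ u ∈ L.U, ∀ g ∈ u, g < 10 := by decide +kernel

end Cfsg.Lib.Extra.SuzUnique
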