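import Mathlib

/-!
# Codes for the extraspecial group of order 128 of minus type

A code below 128 is the central bit followed by six bits for a basis `p, f, u, v, r₁, r₂` with
hyperbolic pairs `(p, f)`, `(r₁, r₂)` and the anisotropic pair `(u, v)`.
-/

set_option autoImplicit false
set_option maxRecDepth 10000

namespace Cfsg.Lib.Extra.SuzUnique

/-- A bit of a number. -/
def bit2 (c i : ℕ) : ℕ := c / 2 ^ i % 2

/-- The quadratic form on six-bit vectors. -/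
def qV (c : ℕ) : ℕ :=
  (bit2 c 0 * bit2 c 1 + bit2 c 2 + bit2 c 3 + bit2 c 2 * bit2 c 3 + bit2 c 4 * bit2 c 5) % 2

/-- The bilinear form on six-bit vectors. -/
def bV (c d : ℕ) : ℕ :=
  (bit2 c 0 * bit2 d 1 + bit2 c 1 * bit2 d 0 + bit2 c 2 * bit2 d 3 + bit2 c 3 * bit2 d 2 +
    bit2 c 4 * bit2 d 5 + bit2 c 5 * bit2 d 4) % 2

/-- The cocycle of the ordered products. -/
def cV (c d : ℕ) : ℕ :=
  (bit2 c 1 * bit2 d 0 + bit2 c 3 * bit2 d 2 + bit2 c 5 * bit2 d 4 + bit2 c 2 * bit2 d 2 +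
    bit2 c 3 * bit2 d 3) % 2

/-- The product of two codes. -/
def qMul (m n : ℕ) : ℕ :=
  (m % 2 + n % 2 + cV (m / 2) (n / 2)) % 2 + 2 * Nat.xor (m / 2) (n / 2)

/-- The generating codes. -/
def gens7 : List ℕ := [1, 2, 4, 8, 16, 32, 64]

theorem qMul_lt : ∀ m < 128, ∀ n < 128, qMul m n < 128 := by decide +kernel

theorem qMul_one : ∀ m < 128, qMul m 0 = m ∧ qMul 0 m = m := by decide +kernel

theorem qMul_assoc_gen : (List.range 128).all (fun m => (List.range 128).all fun n =>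
    gens7.all fun g => Nat.beq (qMul (qMul m n) g) (qMul m (qMul n g))) = true := by decide +kernel

theorem qMul_reach : ∀ n < 128, n ≠ 0 → ∃ g ∈ gens7, ∃ m < n, qMul m g = n := by decide +kernel

theorem qMul_perp : ∀ n < 128, ∀ f < 128, qMul (qMul n f) f = n ∨ qMul (qMul n f) f = Nat.xor n 1 := by
  decide +kernel

theorem qMul_sq : ∀ n < 128, qMul n n = qV (n / 2) := by decide +kernel

theorem qMul_center : ∀ n < 128, qMul 1 n = Nat.xor n 1 ∧ qMul n 1 = Nat.xor n 1 := by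
  decide +kernel

theorem qMul_comm : ∀ m < 128, ∀ n < 128,
    qMul m n = if bV (m / 2) (n / 2) = 1 then qMul 1 (qMul n m) else qMul n m := by decide +kernel

theorem qMul_div : ∀ m < 128, ∀ n < 128, qMul m n / 2 = Nat.xor (m / 2) (n / 2) := by decide +kernel

theorem bit_step1 : ∀ m < 128,
    bit2 (qMul m 1) 0 = (bit2 m 0 + 1) % 2 ∧
    bit2 (qMul m 1) 1 = bit2 m 1 ∧
    bit2 (qMul m 1) 2 = bit2 m 2 ∧
    bit2 (qMul m 1) 3 = bit2 m 3 ∧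
    bit2 (qMul m 1) 4 = bit2 m 4 ∧
    bit2 (qMul m 1) 5 = bit2 m 5 ∧
    bit2 (qMul m 1) 6 = bit2 m 6 := by decide +kernel

theorem bit_step2 : ∀ m < 128,
    bit2 (qMul m 2) 0 = (bit2 m 0 + bit2 m 2) % 2 ∧
    bit2 (qMul m 2) 1 = (bit2 m 1 + 1) % 2 ∧
    bit2 (qMul m 2) 2 = bit2 m 2 ∧
    bit2 (qMul m 2) 3 = bit2 m 3 ∧
    bit2 (qMul m 2) 4 = bit2 m 4 ∧
    bit2 (qMul m 2) 5 = bit2 m 5 ∧
    bit2 (qMul m 2) 6 = bit2 m 6 := by decide +kernel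

theorem bit_step4 : ∀ m < 128,
    bit2 (qMul m 4) 0 = bit2 m 0 ∧
    bit2 (qMul m 4) 1 = bit2 m 1 ∧
    bit2 (qMul m 4) 2 = (bit2 m 2 + 1) % 2 ∧
    bit2 (qMul m 4) 3 = bit2 m 3 ∧
    bit2 (qMul m 4) 4 = bit2 m 4 ∧
    bit2 (qMul m 4) 5 = bit2 m 5 ∧
    bit2 (qMul m 4) 6 = bit2 m 6 := by decide +kernel

theorem bit_step8 : ∀ m < 128,
    bit2 (qMul m 8) 0 = (bit2 m 0 + (bit2 m 4 + bit2 m 3)) % 2 ∧
    bit2 (qMul m 8) 1 = bit2 m 1 ∧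
    bit2 (qMul m 8) 2 = bit2 m 2 ∧
    bit2 (qMul m 8) 3 = (bit2 m 3 + 1) % 2 ∧
    bit2 (qMul m 8) 4 = bit2 m 4 ∧
    bit2 (qMul m 8) 5 = bit2 m 5 ∧
    bit2 (qMul m 8) 6 = bit2 m 6 := by decide +kernel

theorem bit_step16 : ∀ m < 128,
    bit2 (qMul m 16) 0 = (bit2 m 0 + bit2 m 4) % 2 ∧
    bit2 (qMul m 16) 1 = bit2 m 1 ∧
    bit2 (qMul m 16) 2 = bit2 m 2 ∧
    bit2 (qMul m 16) 3 = bit2 m 3 ∧
    bit2 (qMul m 16) 4 = (bit2 m 4 + 1) % 2 ∧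
    bit2 (qMul m 16) 5 = bit2 m 5 ∧
    bit2 (qMul m 16) 6 = bit2 m 6 := by decide +kernel

theorem bit_step32 : ∀ m < 128,
    bit2 (qMul m 32) 0 = (bit2 m 0 + bit2 m 6) % 2 ∧
    bit2 (qMul m 32) 1 = bit2 m 1 ∧
    bit2 (qMul m 32) 2 = bit2 m 2 ∧
    bit2 (qMul m 32) 3 = bit2 m 3 ∧
    bit2 (qMul m 32) 4 = bit2 m 4 ∧
    bit2 (qMul m 32) 5 = (bit2 m 5 + 1) % 2 ∧
    bit2 (qMul m 32) 6 = bit2 m 6 := by decide +kernel

theorem bit_step64 : ∀ m < 128,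
    bit2 (qMul m 64) 0 = bit2 m 0 ∧
    bit2 (qMul m 64) 1 = bit2 m 1 ∧
    bit2 (qMul m 64) 2 = bit2 m 2 ∧
    bit2 (qMul m 64) 3 = bit2 m 3 ∧
    bit2 (qMul m 64) 4 = bit2 m 4 ∧
    bit2 (qMul m 64) 5 = bit2 m 5 ∧
    bit2 (qMul m 64) 6 = (bit2 m 6 + 1) % 2 := by decide +kernel

theorem bV_bit : ∀ c < 64, ∀ d < 64, bV c d = 0 ∨ bV c d = 1 := by decide +kernel

theorem qV_bit : ∀ c < 64, qV c = 0 ∨ qV c = 1 := by decide +kernel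

theorem bV_self : ∀ c < 64, bV c c = 0 := by decide +kernel

end Cfsg.Lib.Extra.SuzUnique
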