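import Cfsg.Agent.Lib.CosetEnum.Defs

/-! Generated data: conjugates of the seventh letter. -/

set_option autoImplicit false
set_option maxRecDepth 20000

namespace Cfsg.Lib.Extra.SuzUnique.TriData

/-- Conjugating words. -/
def conjs0 : List (List Nat) :=
  [[],
    [8, 9, 8, 0],
    [0, 2, 0],
    [9, 1, 0, 2],
    [0, 5, 2, 0],
    [9, 6, 9],
    [9, 0],
    [2, 4, 2],
    [0, 9],
    [0, 4, 2, 0],
    [2, 1, 0, 2],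
    [9, 6, 1, 0],
    [9, 1, 0],
    [0, 9, 5, 2],
    [0, 4, 0, 1],
    [1],
    [9, 0, 2],
    [9, 1, 9],
    [9, 6, 0, 2],
    [1, 9, 0],
    [9, 6, 0],
    [0, 6, 0],
    [2, 6, 8, 0],
    [0, 9, 2],
    [1, 0, 6, 0],
    [1, 0, 2, 0],
    [1, 9, 6, 0],
    [2, 0, 1, 2],
    [8, 9, 8],
    [9],
    [6, 9],
    [9, 0, 9],
    [0],
    [2, 5, 2, 0],
    [0, 9, 0],
    [6, 0],
    [8, 2, 8],
    [6, 1, 9],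
    [8, 2, 8, 2],
    [1, 9],
    [6, 9, 1],
    [2, 6, 8],
    [9, 1],
    [0, 9, 2, 0],
    [9, 0, 2, 0],
    [1, 0, 4, 2],
    [1, 0, 2],
    [6, 1, 0, 2],
    [2, 0, 2, 1],
    [6, 0, 4, 2],
    [6, 0, 2],
    [0, 4, 2]]

/-- Conjugating words. -/
def conjs1 : List (List Nat) :=
  [[0, 2],
    [0, 4, 8, 2],
    [2, 4, 8, 0],
    [9, 1, 9, 0],
    [1, 0],
    [6, 1, 0],
    [8, 4, 8, 0],
    [8, 4, 8, 1],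
    [2, 4, 8],
    [2, 4, 8, 2],
    [8, 4, 8],
    [2, 1, 0, 1],
    [0, 4, 8, 1],
    [9, 4, 2, 0],
    [2, 0, 9],
    [2, 0, 1, 0],
    [9, 2, 0],
    [9, 5, 2, 0],
    [0, 4, 8, 0],
    [2, 0, 8],
    [2, 0],
    [5, 4, 2, 0],
    [4, 2, 0],
    [5, 2, 0],
    [5, 1, 2, 0],
    [6, 0, 1, 2],
    [5, 0, 1, 2],
    [4, 0, 1, 2],
    [1, 2, 0],
    [4, 1, 2, 0],
    [0, 1, 2],
    [2, 9, 1],
    [1, 2, 1],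
    [9, 2, 1],
    [4, 1, 2, 1],
    [2, 1, 8],
    [0, 9, 1, 2],
    [0, 2, 1, 2],
    [5, 4, 2, 1],
    [2, 1],
    [9, 0, 1, 2],
    [5, 2, 1],
    [4, 2, 1],
    [1, 9, 2, 0],
    [9, 1, 2, 0],
    [4, 2],
    [9, 6, 0, 1],
    [5, 2],
    [0, 9, 1],
    [9, 0, 1],
    [2],
    [5, 4, 2]]

/-- Conjugating words. -/
def conjs2 : List (List Nat) :=
  [[9, 4, 0, 1],
    [0, 9, 1, 0],
    [9, 0, 1, 0],
    [5, 2, 0, 1],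
    [2, 4, 0, 1],
    [2, 0, 1],
    [4, 2, 0, 1],
    [5, 1, 2],
    [6, 1, 2],
    [1, 2],
    [9, 0, 2, 1],
    [1, 2, 1, 0],
    [4, 1, 2],
    [0, 2, 9, 1],
    [0, 1, 2, 1],
    [1, 2, 0, 1],
    [0, 1, 2, 0],
    [0, 2, 0, 2],
    [2, 9, 0, 2],
    [9, 2, 0, 2],
    [2, 1, 0],
    [5, 2, 1, 0],
    [4, 2, 1, 0],
    [0, 1, 0],
    [4, 0, 1, 0],
    [9, 2, 0, 1],
    [2, 0, 9, 1],
    [1, 0, 1],
    [0, 6, 1, 0],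
    [9, 2],
    [9, 5, 2],
    [9, 4, 2],
    [4, 0, 1],
    [6, 0, 1],
    [8, 2, 8, 1],
    [5, 0, 1],
    [4, 9, 2],
    [0, 1],
    [4, 2, 0, 2],
    [2, 9, 1, 0],
    [2, 0, 2],
    [5, 2, 0, 2],
    [2, 6, 0, 2],
    [0, 2, 1, 0],
    [5, 0, 2, 1],
    [0, 2, 1],
    [4, 0, 2, 1],
    [2, 0, 2, 0],
    [1, 9, 2],
    [0, 4, 2, 1],
    [2, 1, 2],
    [9, 1, 2]]

/-- Conjugating words. -/
def conjs3 : List (List Nat) :=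
  [[2, 5, 1, 2],
    [2, 1, 2, 0],
    [2, 6, 8, 1],
    [8, 4, 2, 1],
    [3, 2, 8, 2],
    [2, 8, 5, 2],
    [2, 8, 4, 2],
    [8, 1, 2, 1],
    [3, 8, 2, 1],
    [1, 8, 0, 2],
    [0, 8, 2, 1],
    [8, 6, 8],
    [4, 2, 8],
    [4, 1, 8, 0],
    [1, 8, 1, 0],
    [2, 8, 2],
    [9, 8, 2, 1],
    [6, 0, 8, 1],
    [8, 5, 2, 1],
    [8, 2, 1],
    [9, 2, 8, 2],
    [6, 1, 8, 1],
    [1, 6, 8],
    [4, 0, 8, 2],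
    [0, 4, 8],
    [2, 1, 8, 1],
    [2, 0, 8, 2],
    [2, 1, 8, 0],
    [2, 0, 8, 1],
    [2, 0, 8, 0],
    [2, 1, 8, 2],
    [2, 4, 8, 1],
    [4, 2, 8, 2],
    [6, 1, 8],
    [0, 8, 2],
    [0, 1, 8, 2],
    [3, 2, 8],
    [2, 9, 8],
    [4, 8, 2, 1],
    [1, 6, 8, 1],
    [3, 1, 8, 0],
    [1, 2, 8, 0],
    [8, 4, 1, 2],
    [3, 8, 0, 1],
    [9, 8, 0, 1],
    [8, 5, 1, 2],
    [8, 2, 0, 1],
    [5, 8, 1, 2],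
    [6, 8, 0, 1],
    [8, 9, 1, 2],
    [0, 8, 0, 1],
    [8, 4, 0, 1]]

/-- Conjugating words. -/
def conjs4 : List (List Nat) :=
  [[8, 0, 1],
    [2, 8, 1, 0],
    [0, 8, 1, 2],
    [8, 6, 0, 1],
    [8, 5, 0, 1],
    [8, 2, 1, 2],
    [1, 2, 8, 1],
    [3, 8, 1, 2],
    [8, 1, 2],
    [5, 8, 0, 1],
    [8, 6, 1, 2],
    [6, 8, 1, 2],
    [2, 8],
    [1, 0, 8, 0],
    [1, 8, 2, 0],
    [0, 8, 5, 2],
    [1, 9, 8, 0],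
    [1, 8, 9, 0],
    [1, 8, 0],
    [9, 2, 8],
    [8, 6, 8, 1],
    [3, 1, 8, 2],
    [1, 8, 2],
    [0, 2, 8],
    [1, 8, 5, 2],
    [5, 1, 8, 2],
    [1, 8, 4, 2],
    [0, 6, 8],
    [6, 0, 8],
    [4, 2, 8, 1],
    [6, 2, 8, 1],
    [4, 0, 8],
    [6, 8, 5, 2],
    [2, 8, 2, 1],
    [6, 8, 4, 2],
    [8, 5, 4, 2],
    [8, 2],
    [3, 8, 2],
    [5, 8, 4, 2],
    [8, 0, 1, 0],
    [8, 5, 2],
    [8, 4, 2],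
    [5, 8, 2],
    [9, 8, 2],
    [6, 8, 2],
    [6, 3, 8, 2],
    [8, 1, 0, 1],
    [8, 1, 0, 2],
    [6, 8, 9, 1],
    [8, 6, 0],
    [9, 6, 8, 1],
    [9, 2, 8, 0]]

/-- Conjugating words. -/
def conjs5 : List (List Nat) :=
  [[0, 6, 8, 1],
    [5, 8, 2, 0],
    [3, 8, 2, 0],
    [5, 0, 8, 0],
    [0, 8, 6, 0],
    [3, 0, 8, 0],
    [8, 4, 2, 0],
    [2, 8, 0],
    [3, 8, 0],
    [6, 8, 1],
    [6, 4, 8],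
    [4, 8, 1, 0],
    [8, 6, 8, 0],
    [7, 0, 8, 0],
    [9, 8, 2, 0],
    [0, 8, 0],
    [6, 9, 8, 1],
    [6, 3, 8, 1],
    [0, 9, 8, 0],
    [2, 8, 2, 0],
    [8, 5, 2, 0],
    [8, 2, 0],
    [0, 8, 9, 0],
    [3, 2, 8, 0],
    [8, 0],
    [8, 9, 0],
    [0, 8, 2, 0],
    [1, 2, 8],
    [9, 8, 0],
    [4, 8, 0, 2],
    [6, 8, 6, 0],
    [8, 9, 1],
    [8, 6, 9, 1],
    [1, 0, 8, 1],
    [6, 3, 8, 0],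
    [9, 3, 8, 1],
    [6, 2, 8, 0],
    [8, 1],
    [4, 8],
    [4, 8, 9],
    [6, 0, 8, 0],
    [8, 0, 1, 2],
    [6, 8, 0],
    [0, 1, 8, 1],
    [6, 8, 2, 0],
    [9, 8, 1],
    [3, 8, 1],
    [9, 8, 9, 1],
    [6, 8, 9, 0],
    [3, 8, 9, 1],
    [6, 9, 8, 0],
    [9, 4, 8]]

/-- Conjugating words. -/
def conjs6 : List (List Nat) :=
  [[4, 3, 8],
    [0, 8, 9],
    [5, 0, 8],
    [7, 0, 8],
    [8, 0, 2, 1],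
    [1, 8, 1, 2],
    [3, 2, 8, 1],
    [2, 8, 1],
    [2, 9, 8, 1],
    [4, 1, 8, 2],
    [8, 2, 1, 0],
    [8, 2, 0, 2],
    [6, 1, 8, 2],
    [7, 2, 8, 1],
    [0, 9, 8],
    [0, 8],
    [3, 0, 8],
    [0, 1, 8],
    [5, 2, 8, 1],
    [8, 0, 8],
    [6, 2, 8, 2],
    [1, 8, 9, 1],
    [6, 8, 2, 1],
    [7, 0, 8, 1],
    [0, 8, 9, 1],
    [0, 8, 1],
    [1, 8, 1],
    [8, 0, 8, 1],
    [8, 1, 8, 1],
    [4, 1, 8],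
    [3, 0, 8, 1],
    [5, 0, 8, 1],
    [0, 6, 8, 0],
    [1, 9, 8, 1],
    [3, 1, 8, 1],
    [1, 6, 8, 0],
    [0, 8, 1, 0],
    [0, 8, 0, 2],
    [4, 8, 2],
    [4, 3, 8, 2],
    [4, 8, 0, 1],
    [8, 1, 8, 2],
    [4, 8, 4, 2],
    [4, 8, 5, 2],
    [6, 0, 8, 2],
    [1, 8],
    [4, 0, 8, 1],
    [8, 1, 8],
    [4, 1, 8, 1],
    [1, 8, 9],
    [6, 2, 8],
    [6, 1, 8, 0]]

/-- Conjugating words. -/
def conjs7 : List (List Nat) :=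
  [[0, 2, 8, 1],
    [3, 1, 8],
    [1, 9, 8],
    [6, 8, 1, 0],
    [8, 9],
    [8, 6, 9],
    [4, 8, 1],
    [4, 8, 9, 1],
    [8],
    [9, 3, 8],
    [6, 8, 0, 2],
    [9, 8],
    [3, 8],
    [3, 8, 9],
    [9, 8, 9],
    [6, 4, 8, 0],
    [8, 0, 2, 0],
    [8, 0, 8, 0],
    [9, 4, 8, 1],
    [4, 3, 8, 1],
    [6, 8, 9],
    [9, 6, 8],
    [1, 2, 8, 2],
    [9, 8, 1, 0],
    [8, 0, 4, 2],
    [2, 8, 1, 2],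
    [8, 6, 0, 2],
    [8, 9, 1, 0],
    [8, 1, 0],
    [8, 1, 2, 0],
    [4, 2, 8, 0],
    [4, 3, 8, 0],
    [8, 1, 8, 0],
    [4, 8, 6, 0],
    [6, 4, 8, 1],
    [3, 8, 0, 2],
    [1, 8, 2, 1],
    [6, 8],
    [6, 9, 8],
    [6, 3, 8],
    [8, 0, 2],
    [8, 6, 1, 0],
    [9, 4, 8, 0],
    [4, 8, 2, 0],
    [4, 8, 9, 0],
    [2, 8, 0, 1],
    [8, 9, 0, 2],
    [3, 8, 1, 0],
    [4, 8, 0],
    [4, 0, 8, 0],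
    [8, 0, 8, 2],
    [4, 8, 1, 2]]

/-- All the words. -/
def conjs : List (List Nat) :=
  conjs0 ++ conjs1 ++ conjs2 ++ conjs3 ++ conjs4 ++ conjs5 ++ conjs6 ++ conjs7

end Cfsg.Lib.Extra.SuzUnique.TriData
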