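import Cfsg.Agent.Lib.Extra.SuzLocal.Order

/-!
# The conjugates of `z` centralizing `z`, and the order of the group

Outside `Q` such a conjugate fixes exactly three singular classes and lies at one lift of each, and
each lift of a singular class carries twenty of them.  So there are `55 + 360` of them, and the
counts of the dihedral groups give the order 448345497600.
-/

set_option autoImplicit false
set_option linter.style.haveILetI false
set_option linter.unusedSectionVars false

namespace Cfsg.Lib.Extra.SuzUnique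

open Cfsg Module Cfsg.Lib.Linear.Orth Cfsg.Lib.Extra.Wide Cfsg.Lib.Extra.SuzLocal
open scoped Matrix

universe u

variable {G : Type u} [Group G] {ι : Type} [Fintype ι] [DecidableEq ι] {D : Data G ι} [Finite G]

theorem count_sing_perp :
    (Finset.univ.filter fun c : Coo => qCoo c = 0 ∧ c.1.1 = 0).card = 12 := by
  decide +kernel

/-- The singular vectors perpendicular to a point. -/
theorem card_sing_perp (M : Model D) {α : G} (hα : D.Point α) :
    Nat.card {s : ι → ZMod 2 // D.qf s = 0 ∧ D.B (D.cls α) s = 0} = 12 := by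
  classical
  obtain ⟨x, x', h, t, q1, q2, y1, y2, v, u, r1, r2, K⟩ := exists_cfg M.six
  obtain ⟨vec, hbij, hvec⟩ := K.exists_coo
  obtain ⟨k, hk, -, hkt⟩ := witt_step D.space (⊥ : Submodule (ZMod 2) (ι → ZMod 2))
    (x := D.cls t) (x' := D.cls α) (by simpa using K.pt.cls_ne) (by simpa using hα.cls_ne)
    (K.pt.cls_sing.trans hα.cls_sing.symm) (by simp)
  have e : Nat.card {s : ι → ZMod 2 // D.qf s = 0 ∧ D.B (D.cls t) s = 0} =
      Nat.card {s : ι → ZMod 2 // D.qf s = 0 ∧ D.B (D.cls α) s = 0} := by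
    refine Nat.card_congr (Equiv.subtypeEquiv (Equiv.ofBijective _
      (Finite.injective_iff_bijective.1 (act_injective k))) fun s => ?_)
    simp only [Equiv.ofBijective_apply]
    rw [mem_iso.1 hk, ← hkt, D.space.B_act hk]
  rw [← e, ← Nat.card_congr (Equiv.subtypeEquiv (Equiv.ofBijective vec hbij)
      (p := fun c : Coo => qCoo c = 0 ∧ c.1.1 = 0) fun c => by
        obtain ⟨h1, h2, -⟩ := hvec c; simp [h1, h2]),
    Nat.card_eq_fintype_card, Fintype.card_subtype, count_sing_perp]

/-- The conjugates of `z` in `C(z)` outside `Q`. -/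
def Out (D : Data G ι) (p : G) : Prop := D.Cl p ∧ Commute p D.z ∧ p ∉ D.Q

/-- The line of a conjugate of `z` in `C(z)` outside `Q`. -/
theorem exists_line (hD : IsSix D) {p : G} (hp : Out D p) :
    ∃ a b : ι → ZMod 2, D.qf a = 0 ∧ D.qf b = 0 ∧ D.B a b = 0 ∧ a ≠ 0 ∧
      b ∉ Submodule.span (ZMod 2) {a} ∧
      ∀ w, (D.act p).val *ᵥ w = w + D.B a w • b + D.B b w • a := by
  obtain ⟨hcl, hpz, hpQ⟩ := hp
  have hiso := D.act_iso hpz
  have hg2 : D.act p * D.act p = 1 := by rw [← D.act_mul _ _ hpz hpz, hcl.sq D, D.act_one]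
  have hact : D.act p ≠ 1 := fun e => hpQ ((D.act_ker p hpz).1 e)
  have h4 := fix_ge_four D.space hiso hg2 D.six D.ev (D.act_mem p hpz)
  have hne6 : finrank (ZMod 2) (fixSpace (D.act p)) ≠ Fintype.card ι := fun e => hact (by
    have h0 : LinearMap.range (nMap (D.act p)) = ⊥ := Submodule.finrank_eq_zero.1 (by
      have := finrank_range_nMap (D.act p); omega)
    refine gl_ext fun w => ?_
    rw [Units.val_one, Matrix.one_mulVec, ← nMap_eq_zero]
    have hw : nMap (D.act p) w ∈ LinearMap.range (nMap (D.act p)) := ⟨w, rfl⟩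
    rwa [h0, Submodule.mem_bot] at hw)
  have hfix5 : finrank (ZMod 2) (fixSpace (D.act p)) + 2 = Fintype.card ι := by
    have h6 := hD.card
    have := finrank_range_nMap (D.act p)
    obtain ⟨m, hm⟩ := (mem_omega_iff D.space (by omega) D.ev hiso).1 (D.act_mem p hpz)
    obtain ⟨n, hn⟩ := D.ev
    omega
  obtain ⟨a, b, y0, ha, ha0, hab, hbn, hgab, hy0⟩ := rank_two D.space hiso hg2 hfix5
  have hbsp : b ∉ Submodule.span (ZMod 2) {a} := fun hm => by
    obtain ⟨γ, hγ⟩ := Submodule.mem_span_singleton.1 hm; exact hbn γ hγ.symm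
  have hqb : D.qf b = 0 := by
    obtain ⟨d, hd, hdc⟩ := D.cls_surj y0
    have hpd : p * d * p⁻¹ ∈ D.Q := D.conj_mem hpz hd
    have hpi : p⁻¹ = p := inv_eq_of_mul_eq_one_right (hcl.sq D)
    set t0 := p * d * p⁻¹ * d⁻¹ with ht0
    have ht0Q : t0 ∈ D.Q := mul_mem hpd (inv_mem hd)
    have ht0c : D.cls t0 = a := by
      rw [ht0, D.cls_mul _ hpd _ (inv_mem hd), D.cls_inv hd, D.act_cls p hpz d hd, hdc,
        ← nMap_apply, hy0]
    have ht02 : t0 * t0 = 1 := (D.cls_sq t0 ht0Q).2 (by rw [ht0c]; exact ha)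
    have hpt : D.Point t0 := ⟨ht0Q, ht02, fun e => ha0 (by rw [← ht0c, e, D.cls_one]),
      fun e => ha0 (by rw [← ht0c, e, D.cls_z])⟩
    have hpt0 : Commute p t0 := mul_inv_eq_iff_eq_mul.1 (by
      calc p * t0 * p⁻¹ = p * p * d * p⁻¹ * d⁻¹ * p⁻¹ := by rw [ht0]; group
        _ = d * p * d⁻¹ * p⁻¹ := by rw [hcl.sq D, hpi, one_mul]
        _ = t0⁻¹ := by rw [ht0]; group
        _ = t0 := inv_eq_of_mul_eq_one_right ht02)
    rcases hpt.classify hpz hpt0 (hcl.sq D) (by rw [ht0c]; exact hab) (by rw [ht0c]; exact hbsp)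
      (by rw [ht0c]; exact hgab) with h | ⟨u', F⟩
    · exact h.1
    · exact absurd hcl F.not_cl
  refine ⟨a, b, ha, hqb, hab, ha0, hbsp, fun w => ?_⟩
  rw [hgab, sGL_apply D.space ha hab, hqb, zero_mul, add_zero]

/-- The singular classes fixed by a conjugate of `z`. -/
theorem card_fixed (hD : IsSix D) {p : G} (hp : Out D p) :
    Nat.card {r : ι → ZMod 2 // (D.qf r = 0 ∧ r ≠ 0) ∧ (D.act p).val *ᵥ r = r} = 3 := by
  classical
  obtain ⟨a, b, ha, hb, hab, ha0, hbsp, happ⟩ := exists_line hD hp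
  have hba : D.B b a = 0 := (D.space.symm _ _).trans hab
  have hb0 : b ≠ 0 := fun e => hbsp (e ▸ zero_mem _)
  have hbna : b ≠ a := fun e => hbsp (e ▸ Submodule.mem_span_singleton_self _)
  have hab0 : a + b ≠ 0 := fun e => hbna (vadd_eq_zero e).symm
  have hmem : ∀ r : ι → ZMod 2, ((D.qf r = 0 ∧ r ≠ 0) ∧ (D.act p).val *ᵥ r = r) ↔
      r ∈ ({a, b, a + b} : Finset (ι → ZMod 2)) := by
    intro r
    simp only [Finset.mem_insert, Finset.mem_singleton]
    constructor
    · rintro ⟨⟨hr, hr0⟩, hfix⟩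
      have e := (happ r).symm.trans hfix
      rw [add_assoc, add_eq_left] at e
      have e1 : D.B a r = 0 := (bit _).resolve_right fun e1 => hbsp (by
        rw [e1, one_smul] at e
        rw [vadd_eq_zero e]
        exact Submodule.smul_mem _ _ (Submodule.mem_span_singleton_self _))
      rw [e1, zero_smul, zero_add] at e
      have e2 : D.B b r = 0 := (smul_eq_zero.1 e).resolve_right ha0
      by_contra hn
      simp only [not_or] at hn
      refine hD.noHalf ⟨Submodule.span (ZMod 2) {a} ⊔ Submodule.span (ZMod 2) {b} ⊔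
        Submodule.span (ZMod 2) {r}, ?_, ?_⟩
      · intro w hw
        obtain ⟨w1, hw1, w2, hw2, rfl⟩ := Submodule.mem_sup.1 hw
        obtain ⟨w3, hw3, w4, hw4, rfl⟩ := Submodule.mem_sup.1 hw1
        obtain ⟨α1, rfl⟩ := Submodule.mem_span_singleton.1 hw3
        obtain ⟨α2, rfl⟩ := Submodule.mem_span_singleton.1 hw4
        obtain ⟨α3, rfl⟩ := Submodule.mem_span_singleton.1 hw2
        simp [D.space.add, D.space.smul, ha, hb, hr, hab, e1, e2]
      · have h2 : r ∉ Submodule.span (ZMod 2) {a} ⊔ Submodule.span (ZMod 2) {b} := fun hm => by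
          obtain ⟨w3, hw3, w4, hw4, e⟩ := Submodule.mem_sup.1 hm
          obtain ⟨α1, rfl⟩ := Submodule.mem_span_singleton.1 hw3
          obtain ⟨α2, rfl⟩ := Submodule.mem_span_singleton.1 hw4
          rcases bit α1 with rfl | rfl <;> rcases bit α2 with rfl | rfl <;>
            simp only [zero_smul, one_smul, zero_add, add_zero] at e
          exacts [hr0 e.symm, hn.2.1 e.symm, hn.1 e.symm, hn.2.2 e.symm]
        have e3 := finrank_sup_one h2
        have e4 := Submodule.finrank_add_le_finrank_add_finrank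
          (Submodule.span (ZMod 2) {a} ⊔ Submodule.span (ZMod 2) {b}) (Submodule.span (ZMod 2) {r})
        have e5 := finrank_sup_one hbsp
        have e6 := Submodule.finrank_add_le_finrank_add_finrank
          (Submodule.span (ZMod 2) {a}) (Submodule.span (ZMod 2) {b})
        rw [finrank_span_singleton ha0] at e5 e6
        rw [finrank_span_singleton hb0] at e6
        rw [finrank_span_singleton hr0] at e4
        have := hD.card
        omega
    · rintro (rfl | rfl | rfl)
      · exact ⟨⟨ha, ha0⟩, by rw [happ, B_self D.space, hba, zero_smul, zero_smul, add_zero, add_zero]⟩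
      · exact ⟨⟨hb, hb0⟩, by rw [happ, hab, B_self D.space, zero_smul, zero_smul, add_zero, add_zero]⟩
      · refine ⟨⟨by rw [D.space.add, ha, hb, hab]; simp, hab0⟩, ?_⟩
        rw [happ]
        simp [B_self D.space, hab, hba]
  rw [Nat.card_congr (Equiv.subtypeEquivRight hmem), Nat.card_eq_finsetCard,
    Finset.card_insert_of_notMem, Finset.card_insert_of_notMem, Finset.card_singleton]
  · simp only [Finset.mem_singleton]
    intro e
    exact ha0 (by simpa using e)
  · simp only [Finset.mem_insert, Finset.mem_singleton, not_or]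
    exact ⟨hbna.symm, fun e => hb0 (by simpa using e)⟩

theorem card_inA {α : G} (hα : D.Point α) : Nat.card {a : G // D.InA α a} = 4 := by
  classical
  let f : ZMod 2 × ZMod 2 → {a : G // D.InA α a} := fun e => ⟨D.zt α e.1 e.2, hα.zt_A _ _⟩
  have hf : Function.Bijective f := by
    refine ⟨?_, fun a => ?_⟩
    · rintro ⟨i, j⟩ ⟨i', j'⟩ e
      have e' : D.zt α i j = D.zt α i' j' := congrArg Subtype.val e
      have h0 : D.zt α (i + i') (j + j') = 1 := by
        rw [← hα.zt_add, e', hα.zt_add, bit_self, bit_self]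
        simp [Data.zt]
      obtain ⟨h1, h2⟩ := hα.zt_eq_one h0
      exact Prod.ext (bit_eq_of_add h1) (bit_eq_of_add h2)
    · obtain ⟨i, j, e⟩ := hα.inA_zt a.2
      exact ⟨(i, j), Subtype.ext e.symm⟩
  rw [← Nat.card_eq_of_bijective f hf, Nat.card_prod, Nat.card_zmod]

theorem label_span {α y : G} {v : ι → ZMod 2} (hα : D.Point α) (hy : D.InPQ α y)
    (hv : D.B (D.cls α) v = 0) (hyv : D.act y = sGL D.qf D.B (D.cls α) v) :
    y ∈ D.Q ↔ v ∈ Submodule.span (ZMod 2) {D.cls α} := by
  refine ⟨fun h => ?_, fun hm => ?_⟩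
  · have e := (D.act_q h).symm.trans hyv
    rw [← siegel_zero D.space hα.cls_sing 0] at e
    obtain ⟨γ, hγ⟩ := siegel_eq D.space hα.cls_sing hα.cls_ne (by rw [zero_smul, map_zero]) hv e
    rw [hγ, zero_smul, zero_add]
    exact Submodule.smul_mem _ _ (Submodule.mem_span_singleton_self _)
  · obtain ⟨γ, rfl⟩ := Submodule.mem_span_singleton.1 hm
    exact (D.act_ker y hy.2).1 (hyv.trans (siegel_zero D.space hα.cls_sing γ))

/-- A lift of a singular class carries twenty conjugates of `z`. -/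
theorem card_at_point (M : Model D) {α : G} (hα : D.Point α) :
    Nat.card {p : G // Out D p ∧ p ∈ D.Qof α} = 20 := by
  classical
  set r := D.cls α with hr
  let V := {v : ι → ZMod 2 // (D.qf v = 0 ∧ D.B r v = 0) ∧ v ∉ Submodule.span (ZMod 2) {r}}
  have hV : Nat.card V = 10 := by
    have e : Nat.card {v : ι → ZMod 2 // (D.qf v = 0 ∧ D.B r v = 0) ∧
        v ∈ Submodule.span (ZMod 2) {r}} = 2 := by
      have hmem : ∀ v : ι → ZMod 2, ((D.qf v = 0 ∧ D.B r v = 0) ∧
          v ∈ Submodule.span (ZMod 2) {r}) ↔ v ∈ ({0, r} : Finset (ι → ZMod 2)) := fun v => by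
        simp only [Finset.mem_insert, Finset.mem_singleton]
        constructor
        · rintro ⟨-, hm⟩
          obtain ⟨γ, rfl⟩ := Submodule.mem_span_singleton.1 hm
          rcases bit γ with rfl | rfl <;> simp
        · rintro (rfl | rfl)
          · exact ⟨⟨by simpa using D.space.smul (0 : ZMod 2) r, map_zero _⟩, zero_mem _⟩
          · exact ⟨⟨hα.cls_sing, B_self D.space r⟩, Submodule.mem_span_singleton_self _⟩
      rw [Nat.card_congr (Equiv.subtypeEquivRight hmem), Nat.card_eq_finsetCard,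
        Finset.card_pair hα.cls_ne.symm]
    have h12 := card_sing_perp M hα
    have hs := Nat.card_congr (Equiv.sumCompl fun v : {v : ι → ZMod 2 // D.qf v = 0 ∧ D.B r v = 0} =>
      (v : ι → ZMod 2) ∈ Submodule.span (ZMod 2) {r})
    rw [Nat.card_sum] at hs
    rw [Nat.card_congr (Equiv.subtypeSubtypeEquivSubtypeInter _ fun v : ι → ZMod 2 =>
      v ∈ Submodule.span (ZMod 2) {r}), Nat.card_congr (Equiv.subtypeSubtypeEquivSubtypeInter _
        fun v : ι → ZMod 2 => v ∉ Submodule.span (ZMod 2) {r}), e] at hs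
    change 2 + Nat.card V = _ at hs
    show Nat.card V = 10
    rw [h12] at hs
    omega
  choose sec hsec hsecv using fun v : V => hα.exists_label v.2.1.2
  let P := {p : G // Out D p ∧ p ∈ D.Qof α}
  letI : Fintype P := Fintype.ofFinite _
  let S := {e : P × V // D.act (e.1 : G) = sGL D.qf D.B r (e.2 : ι → ZMod 2)}
  have h1 : Nat.card S = 10 * 4 := by
    let f : V × {a : G // D.InA α a} → S := fun e => by
      refine ⟨(⟨e.2.1 * sec e.1, ⟨?_, ?_, ?_⟩, ?_⟩, e.1), ?_⟩
      · have hm : e.2.1 * sec e.1 ∈ D.Qof α := mul_mem (hα.inA_mem e.2.2).2 (hsec e.1).1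
        refine D.cl_of_Qof hα.cl hm ?_ fun e1 => ?_
        · rw [(hα.A_commute_pq e.2.2 (hsec e.1)).symm.mul_mul_mul_comm,
            hα.sq_pq (hsec e.1) e.1.2.1.2 (hsecv e.1), e.1.2.1.1]
          obtain ⟨i, j, hij⟩ := hα.inA_zt e.2.2
          rw [hij, hα.zt_add, bit_self, bit_self]
          simp [Data.zt]
        · refine e.1.2.2 ((label_span hα (hsec e.1) e.1.2.1.2 (hsecv e.1)).1 ?_)
          rw [eq_inv_of_mul_eq_one_right e1]
          exact inv_mem (hα.inA_mem e.2.2).1
      · exact (D.ctx.central _ (hα.inA_mem e.2.2).1).symm.mul_left (hsec e.1).2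
      · intro h
        exact e.1.2.2 ((label_span hα (hsec e.1) e.1.2.1.2 (hsecv e.1)).1 (by
          simpa using mul_mem (inv_mem (hα.inA_mem e.2.2).1) h))
      · exact mul_mem (hα.inA_mem e.2.2).2 (hsec e.1).1
      · show D.act (e.2.1 * sec e.1) = _
        rw [D.act_mul _ _ (D.ctx.central _ (hα.inA_mem e.2.2).1).symm (hsec e.1).2,
          D.act_q (hα.inA_mem e.2.2).1, one_mul, hsecv]
    have hf : Function.Bijective f := by
      refine ⟨?_, ?_⟩
      · rintro ⟨v, a, ha⟩ ⟨v', a', ha'⟩ e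
        have ev : v = v' := congrArg (fun s : S => s.1.2) e
        subst ev
        have ea : a * sec v = a' * sec v := congrArg (fun s : S => (s.1.1 : G)) e
        exact Prod.ext rfl (Subtype.ext (mul_right_cancel ea))
      · rintro ⟨⟨⟨p, hp, hpα⟩, v⟩, hpv⟩
        obtain ⟨a, ha, e⟩ := hα.same_label (hsec v) ⟨hpα, hp.2.1⟩ ((hsecv v).trans hpv.symm)
        exact ⟨(v, ⟨a, ha⟩), Subtype.ext (Prod.ext (Subtype.ext e.symm) rfl)⟩
    rw [← Nat.card_eq_of_bijective f hf, Nat.card_prod, hV, card_inA hα]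
  have h2 : Nat.card S = Nat.card P * 2 := by
    rw [Nat.card_congr (Equiv.subtypeProdEquivSigmaSubtype (fun (p : P) (v : V) =>
      D.act (p : G) = sGL D.qf D.B r (v : ι → ZMod 2))), Nat.card_sigma,
      Finset.sum_const_nat (m := 2), Finset.card_univ, Nat.card_eq_fintype_card]
    rintro ⟨p, hp, hpα⟩ -
    have hy : D.InPQ α p := ⟨hpα, hp.2.1⟩
    obtain ⟨v, hv, hpv⟩ := hα.label hy
    have hvn : v ∉ Submodule.span (ZMod 2) {r} := fun hm =>
      hp.2.2 ((label_span hα hy hv hpv).2 hm)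
    have hq : D.qf v = 0 := (hα.zt_eq_one ((hα.sq_pq hy hv hpv).symm.trans (hp.1.sq D))).2
    have hv' : (D.qf (v + r) = 0 ∧ D.B r (v + r) = 0) ∧ v + r ∉ Submodule.span (ZMod 2) {r} := by
      refine ⟨⟨?_, by rw [map_add, hv, B_self D.space, add_zero]⟩, fun hm => hvn ?_⟩
      · rw [D.space.add, hq, show D.qf r = 0 from hα.cls_sing, D.space.symm, hv]; simp
      · simpa using sub_mem hm (Submodule.mem_span_singleton_self r)
    let w1 : V := ⟨v, ⟨hq, hv⟩, hvn⟩
    let w2 : V := ⟨v + r, hv'⟩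
    have hs : sGL D.qf D.B r (v + r) = sGL D.qf D.B r v := by
      have h0 := sGL_mul D.space hα.cls_sing hv (B_self D.space r : D.B r r = 0)
      have h1 : sGL D.qf D.B r r = 1 := by
        have := siegel_zero D.space hα.cls_sing (1 : ZMod 2)
        rwa [one_smul] at this
      rw [← h0, h1, mul_one]
    rw [Nat.card_congr (Equiv.subtypeEquivRight (q := fun w : V => w ∈ ({w1, w2} : Finset V))
      fun w => ?_), Nat.card_eq_finsetCard, Finset.card_pair fun e => hα.cls_ne ?_]
    · have e' : v = v + r := congrArg Subtype.val e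
      exact (left_eq_add.1 e')
    · simp only [Finset.mem_insert, Finset.mem_singleton]
      constructor
      · intro hw
        obtain ⟨γ, hγ⟩ := siegel_eq D.space hα.cls_sing hα.cls_ne hv w.2.1.2 (hpv.symm.trans hw)
        rcases bit γ with rfl | rfl
        · exact Or.inl (Subtype.ext (by simpa using hγ))
        · exact Or.inr (Subtype.ext (by simpa using hγ))
      · rintro (rfl | rfl)
        · exact hpv
        · exact hpv.trans hs.symm
  show Nat.card P = 20
  omega

/-- A conjugate of `z` outside `Q` lies at exactly one lift of a class. -/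
theorem not_both {p α : G} (hα : D.Point α) (hp : Out D p) (h1 : p ∈ D.Qof α)
    (h2 : p ∈ D.Qof (D.z * α)) : False := by
  obtain ⟨k, hk⟩ := hα.cl
  have hQ : (D.conj k).Q = D.Qof α := (D.Qof_eq hk).symm
  have hne : D.z * α ≠ α := fun e => D.ctx.ne_one (mul_eq_right.1 e)
  have hpt : (D.conj k).Point (D.z * α) :=
    ⟨hQ ▸ mul_mem hα.mem_snd ((D.ctx_Qof hα.cl).mem), hα.z_mul.sq, hα.z_mul.ne_one,
      fun e => hne (e.trans hk)⟩
  have hA := hpt.inter (a := p) (hQ ▸ h1) (by rw [D.conj_Qof k hα.z_mul.cl]; exact h2)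
  have hzα := hα.z_mul.mem
  have hkz : (D.conj k).z = α := hk
  rcases hA with rfl | rfl | rfl | rfl
  · exact hp.2.2 (one_mem _)
  · exact hp.2.2 (hkz.symm ▸ hα.mem)
  · exact hp.2.2 hzα
  · exact hp.2.2 (mul_mem (hkz.symm ▸ hα.mem) hzα)

/-- The number of conjugates of `z` centralizing `z` outside `Q`. -/
theorem card_out (M : Model D) : Nat.card {p : G // Out D p} = 360 := by
  classical
  let R := {r : ι → ZMod 2 // D.qf r = 0 ∧ r ≠ 0}
  have hR : Nat.card R = 27 := by
    have hs := Nat.card_congr (Equiv.sumCompl fun w : {w : ι → ZMod 2 // D.qf w = 0} =>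
      (w : ι → ZMod 2) = 0)
    rw [Nat.card_sum] at hs
    haveI : Unique {w : {w : ι → ZMod 2 // D.qf w = 0} // (w : ι → ZMod 2) = 0} :=
      { default := ⟨⟨0, by simpa using D.space.smul (0 : ZMod 2) 0⟩, rfl⟩
        uniq := fun w => Subtype.ext (Subtype.ext w.2) }
    rw [Nat.card_unique, Nat.card_congr (Equiv.subtypeSubtypeEquivSubtypeInter _
      fun w : ι → ZMod 2 => w ≠ 0), M.sing] at hs
    change 1 + Nat.card R = 28 at hs
    show Nat.card R = 27
    omega
  let P := {p : G // Out D p}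
  letI : Fintype P := Fintype.ofFinite _
  let S := {e : P × R // (D.act (e.1 : G)).val *ᵥ (e.2 : ι → ZMod 2) = (e.2 : ι → ZMod 2)}
  have h1 : Nat.card S = Nat.card P * 3 := by
    rw [Nat.card_congr (Equiv.subtypeProdEquivSigmaSubtype (fun (p : P) (r : R) =>
      (D.act (p : G)).val *ᵥ (r : ι → ZMod 2) = (r : ι → ZMod 2))), Nat.card_sigma,
      Finset.sum_const_nat (m := 3), Finset.card_univ, Nat.card_eq_fintype_card]
    rintro ⟨p, hp⟩ -
    rw [← card_fixed M.six hp]
    exact Nat.card_congr (Equiv.subtypeSubtypeEquivSubtypeInter _ fun r : ι → ZMod 2 =>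
      (D.act p).val *ᵥ r = r)
  have h2 : Nat.card S = 27 * 40 := by
    rw [show Nat.card S = Nat.card {e : R × P //
        (D.act (e.2 : G)).val *ᵥ (e.1 : ι → ZMod 2) = (e.1 : ι → ZMod 2)} from
        Nat.card_congr (Equiv.subtypeEquiv (Equiv.prodComm P R) fun e => Iff.rfl),
      Nat.card_congr (Equiv.subtypeProdEquivSigmaSubtype (fun (r : R) (p : P) =>
        (D.act (p : G)).val *ᵥ (r : ι → ZMod 2) = (r : ι → ZMod 2))), Nat.card_sigma,
      Finset.sum_const_nat (m := 40), Finset.card_univ, ← Nat.card_eq_fintype_card, hR]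
    rintro ⟨r, hr, hr0⟩ -
    obtain ⟨α, hα, rfl⟩ := D.exists_point_of hr hr0
    have hiff : ∀ p : G, (Out D p ∧ (D.act p).val *ᵥ D.cls α = D.cls α) ↔
        ((Out D p ∧ p ∈ D.Qof α) ∨ (Out D p ∧ p ∈ D.Qof (D.z * α))) := by
      intro p
      constructor
      · rintro ⟨hp, hf⟩
        rcases (root_point M.six hp.1 hp.2.1 hp.2.2 hα hf).2 with h | h
        · exact Or.inl ⟨hp, h⟩
        · exact Or.inr ⟨hp, h⟩
      · rintro (⟨hp, h⟩ | ⟨hp, h⟩)
        · exact ⟨hp, hα.act_fix hp.2.1 (hα.pq_commute_t ⟨h, hp.2.1⟩)⟩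
        · have := hα.z_mul.act_fix hp.2.1 (hα.z_mul.pq_commute_t ⟨h, hp.2.1⟩)
          rw [hα.cls_zt] at this
          exact ⟨hp, this⟩
    rw [Nat.card_congr ((Equiv.subtypeSubtypeEquivSubtypeInter _ fun p : G =>
      (D.act p).val *ᵥ D.cls α = D.cls α).trans ((Equiv.subtypeEquivRight hiff).trans
        (subtypeOrEquiv (fun p => Out D p ∧ p ∈ D.Qof α)
          (fun p => Out D p ∧ p ∈ D.Qof (D.z * α))
          (Pi.disjoint_iff.2 fun p => Prop.disjoint_iff.2
            (not_and.2 fun a b => not_both hα a.1 a.2 b.2))))),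
      Nat.card_sum, card_at_point M hα, card_at_point M hα.z_mul]
  show Nat.card P = 360
  omega

/-- The conjugates of `z` centralizing `z`. -/
theorem card_cl_cz (M : Model D) : Nat.card {p : G // D.Cl p ∧ Commute p D.z} = 415 := by
  classical
  have hs := Nat.card_congr (Equiv.sumCompl fun p : {p : G // D.Cl p ∧ Commute p D.z} => (p : G) ∈ D.Q)
  rw [Nat.card_sum] at hs
  rw [← hs]
  have h55 : Nat.card {p : {p : G // D.Cl p ∧ Commute p D.z} // (p : G) ∈ D.Q} = 55 := by
    have h56 : Nat.card {p : G // p ∈ D.Q ∧ D.qf (D.cls p) = 0} = 56 := by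
      rw [card_Q_sub fun s => D.qf s = 0, M.sing]
    have hs1 := Nat.card_congr (Equiv.sumCompl
      fun p : {p : G // p ∈ D.Q ∧ D.qf (D.cls p) = 0} => (p : G) = 1)
    rw [Nat.card_sum] at hs1
    haveI : Unique {p : {p : G // p ∈ D.Q ∧ D.qf (D.cls p) = 0} // (p : G) = 1} :=
      { default := ⟨⟨1, one_mem _, by rw [D.cls_one]; simpa using D.space.smul (0 : ZMod 2) 0⟩, rfl⟩
        uniq := fun w => Subtype.ext (Subtype.ext w.2) }
    rw [Nat.card_unique, h56, Nat.card_congr (Equiv.subtypeSubtypeEquivSubtypeInter _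
      fun p : G => p ≠ 1)] at hs1
    rw [Nat.card_congr ((Equiv.subtypeSubtypeEquivSubtypeInter _ fun p : G => p ∈ D.Q).trans
      (Equiv.subtypeEquivRight (q := fun p : G => (p ∈ D.Q ∧ D.qf (D.cls p) = 0) ∧ p ≠ 1)
        fun p => ?_))]
    · omega
    · constructor
      · rintro ⟨⟨hc, -⟩, hQ⟩
        exact ⟨⟨hQ, (D.cls_sq p hQ).1 (hc.sq D)⟩, hc.ne_one D⟩
      · rintro ⟨⟨hQ, h0⟩, h1⟩
        exact ⟨⟨D.cl_of_mem hQ ((D.cls_sq p hQ).2 h0) h1, (D.ctx.central p hQ).symm⟩, hQ⟩
  have h360 : Nat.card {p : {p : G // D.Cl p ∧ Commute p D.z} // (p : G) ∉ D.Q} = 360 := by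
    rw [← card_out M]
    exact Nat.card_congr ((Equiv.subtypeSubtypeEquivSubtypeInter _ fun p : G => p ∉ D.Q).trans
      (Equiv.subtypeEquivRight fun p => and_assoc))
  rw [h55, h360]

/-- The order of a group of Suzuki sporadic type. -/
theorem card_G (M : Model D) : Nat.card G = 448345497600 := by
  obtain ⟨x, x', h, t, q1, q2, y1, y2, v, u, r1, r2, K⟩ := exists_cfg M.six
  have hJ := K.card_odd_T
  rw [← K.card_S_xz] at hJ
  have hN := K.card_cz_split
  rw [card_cl_cz M] at hN
  have h := card_orbit (⊤ : Subgroup G) D.z (P := D.Cl) fun w =>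
    ⟨fun ⟨k, hk⟩ => ⟨k, Subgroup.mem_top k, hk⟩, fun ⟨k, _, hk⟩ => ⟨k, hk⟩⟩
  rw [inf_top_eq, card_cz M, Subgroup.card_top, K.card_cl_split,
    show Nat.card (K.Sset D.z) = 236 by omega,
    show Nat.card (K.Sset (x * D.z)) = 193 by omega] at h
  omega

end Cfsg.Lib.Extra.SuzUnique
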