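import Cfsg.Agent.Lib.Extra.SuzUnique.Rewrite
import Cfsg.Agent.Lib.Extra.SuzUnique.RelData.Data

/-!
# Loops inside the sixteen commuting involutions

An element that centralizes the generators of the centralizer of the sixteen elements in `C(z)` is
one of the sixteen, because their group has a base of two points. This decides the pentagons and,
with a cube, the quadrangle.
-/

set_option autoImplicit false
set_option maxRecDepth 20000
set_option linter.unusedSectionVars false

namespace Cfsg.Lib.Extra.SuzUnique

open Cfsg Cfsg.Lib.CosetEnum Cfsg.Lib.Extra.Wide Cfsg.Lib.Extra.SuzLocal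

universe u

/-- A product of listed words and their inverses. -/
def flatW (gs : List (List Nat)) (ix : List (Nat × Bool)) : List Nat :=
  ix.flatMap fun p => cond p.2 (gs.getD p.1 []) (gs.getD p.1 []).reverse

/-- Follow a conjugation through a word, with hints at the swaps. -/
noncomputable def conjOK : List Nat → List (List Nat) → List Nat → List Nat → Bool
  | [], _, cur, tgt => inC cur && inC tgt && fixB (cur ++ tgt.reverse)
  | g :: L, hs, cur, tgt => match Nat.beq g 10, hs with
    | true, v' :: rest => moveOK cur v' && conjOK L rest v' tgt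
    | true, [] => false
    | false, hs => Nat.blt g 10 && conjOK L hs (g :: cur ++ [g]) tgt

/-- The mask is invariant under the eight letters. -/
noncomputable def maskOK : Nat → Nat → Bool
  | 0, _ => true
  | m + 1, i => force i fun i =>
      ((List.range 8).all fun g => cond (RelData.orbMask.testBit i)
        (RelData.orbMask.testBit (img PermData.tabL 11 g i)) true) && maskOK m (i + 1)

/-- The stabilizing product. -/
def stabW : List Nat := flatW RelData.tGens RelData.stabProd

/-- The moving product. -/
def moveW : List Nat := flatW RelData.tGens RelData.moveProd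

/-- The images of the first point under the sixteen elements. -/
noncomputable def ePts : List Nat :=
  RelData.eWords.map fun e => twalk PermData.tabL 11 e 35

/-- Only these points of the mask are fixed. -/
noncomputable def fixedOK : Nat → Nat → Bool
  | 0, _ => true
  | m + 1, i => force i fun i =>
      cond (RelData.orbMask.testBit i && Nat.beq (twalk PermData.tabL 11 stabW i) i)
        (ePts.any fun p => Nat.beq p i) true && fixedOK m (i + 1)

theorem mask_ok : maskOK 1782 0 = true := by decide +kernel
theorem fixed_ok : fixedOK 1782 0 = true := by decide +kernel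
theorem rlevels_ok : BaseOK PermData.tabL 11 1782 RelData.levels := by
  refine ⟨?_, ?_, ?_, ?_, trivial⟩ <;> decide +kernel

theorem rlevels_size : baseSize RelData.levels = 61440 ∧ basePts RelData.levels = [35, 54] ∧
    ∀ L ∈ RelData.levels, ∀ u ∈ L.U, ∀ g ∈ u, g < 8 := by decide +kernel

theorem maskOK_get : ∀ {m i : ℕ}, maskOK m i = true → ∀ j, i ≤ j → j < i + m →
    ∀ g < 8, RelData.orbMask.testBit j = true →
      RelData.orbMask.testBit (img PermData.tabL 11 g j) = true
  | 0, i, _, j, h1, h2 => by omega
  | m + 1, i, hc, j, h1, h2 => by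
    rw [maskOK, force_eq, Bool.and_eq_true] at hc
    rcases Nat.eq_or_lt_of_le h1 with h | h
    · subst h
      intro g hg hb
      have h3 := List.all_eq_true.1 hc.1 g (List.mem_range.2 hg)
      rwa [hb] at h3
    · exact maskOK_get hc.2 j h (by omega)

theorem fixedOK_get : ∀ {m i : ℕ}, fixedOK m i = true → ∀ j, i ≤ j → j < i + m →
    RelData.orbMask.testBit j = true → twalk PermData.tabL 11 stabW j = j → j ∈ ePts
  | 0, i, _, j, h1, h2 => by omega
  | m + 1, i, hc, j, h1, h2 => by
    rw [fixedOK, force_eq, Bool.and_eq_true] at hc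
    rcases Nat.eq_or_lt_of_le h1 with h | h
    · subst h
      intro hb hf
      have h3 := hc.1
      rw [hb, Bool.true_and, show Nat.beq (twalk PermData.tabL 11 stabW i) i = true by
        rw [Nat.beq_eq]; exact hf, cond_true, List.any_eq_true] at h3
      obtain ⟨p, hp, e⟩ := h3
      exact Nat.eq_of_beq_eq_true e ▸ hp
    · exact fixedOK_get hc.2 j h (by omega)

theorem gens_ok : (∀ w ∈ RelData.tGens, inC w = true ∧ fixB (w ++ 3 :: w.reverse ++ [3]) = true) ∧
    [3] ∈ RelData.tGens ∧ (∃ w ∈ RelData.tGens, fixB (w ++ cwL 1) = true) ∧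
    (∀ g ∈ cwL 1, g < 10) ∧ RelData.orbMask.testBit 35 = true ∧
    twalk PermData.tabL 11 stabW 35 = 35 ∧ twalk PermData.tabL 11 moveW 35 = 54 ∧
    inC stabW = true ∧ inC moveW = true := by
  decide +kernel

theorem eWords_ok : ∀ e ∈ RelData.eWords, inC e = true ∧ fixB (e ++ 3 :: e.reverse ++ [3]) = true ∧
    fixB (e ++ e) = true ∧
    ∀ w ∈ RelData.tGens, fixB (e ++ w ++ e.reverse ++ w.reverse) = true := by decide +kernel

theorem wordVal_rev_wordOf {H : Type*} [Group H] (x : ℕ → H) : ∀ {w : List ℕ}, (∀ g ∈ w, g < 31) →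
    wordVal x w.reverse = wordOf x w
  | [], _ => rfl
  | g :: w, h => by
    rw [List.reverse_cons, wordVal_append, wordVal_rev_wordOf x fun a ha => h a (List.mem_cons_of_mem _ ha),
      wordVal, wordVal, one_mul, gen, if_neg (show g ≠ eps from Nat.ne_of_lt (h g List.mem_cons_self)), wordOf]

theorem inC_rev {w : List ℕ} (h : inC w = true) : inC w.reverse = true := by
  simpa [inC] using h

theorem inC_append {a b : List ℕ} (ha : inC a = true) (hb : inC b = true) : inC (a ++ b) = true := by
  simp only [inC, List.all_append, Bool.and_eq_true] at ha hb ⊢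
  exact ⟨ha, hb⟩

/-- Whatever commutes with the listed words commutes with their products. -/
theorem commute_flatW {H : Type*} [Group H] {x : ℕ → H} (hx : ∀ g, x g * x g = 1) {d : H}
    {gs : List (List ℕ)} (h : ∀ w ∈ gs, Commute d (wordVal x w)) : ∀ ix : List (ℕ × Bool),
    Commute d (wordVal x (flatW gs ix))
  | [] => Commute.one_right d
  | (i, b) :: l => by
    rw [flatW, List.flatMap_cons, wordVal_append]
    refine (commute_flatW hx h l).mul_right ?_
    have hi : Commute d (wordVal x (gs.getD i [])) := by
      rcases lt_or_ge i gs.length with hi | hi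
      · rw [List.getD_eq_getElem _ _ hi]; exact h _ (List.getElem_mem hi)
      · rw [List.getD_eq_default _ _ hi]; exact Commute.one_right d
    cases b
    · show Commute d (wordVal x (gs.getD i []).reverse)
      rw [wordVal_reverse hx]; exact hi.inv_right
    · exact hi

variable {G : Type u} [Group G] [Finite G] {ι : Type} [Fintype ι] [DecidableEq ι] {D : Data G ι}
  {χ : Chart D} (M : Model D) {I : LIso χ} {r : G} (S : SwapElt I r)

include M S

theorem commute_of_fix {a b : List ℕ} (ha : inC a = true) (hb : inC b = true)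
    (h : fixB (a ++ b ++ a.reverse ++ b.reverse) = true) :
    Commute (wordVal lP a) (wordVal lP b) := by
  have e := I.base_trivial M (word_mem_CS (inC_append (inC_append (inC_append ha hb) (inC_rev ha))
    (inC_rev hb))) (fixB_spec h)
  simp only [wordVal_append, wordVal_reverse lP_sq] at e
  rw [inv_mul_eq_one, eq_inv_mul_iff_mul_eq] at e
  exact e

theorem conjOK_valid : ∀ {L : List ℕ} {hs : List (List ℕ)} {cur tgt : List ℕ},
    conjOK L hs cur tgt = true → wordVal (I.lG r) L * wordVal (I.lG r) cur *
      (wordVal (I.lG r) L)⁻¹ = wordVal (I.lG r) tgt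
  | [], hs, cur, tgt, h => by
    simp only [conjOK, Bool.and_eq_true] at h
    have e := C_valid (I := I) (r := r) M (inC_append h.1.1 (inC_rev h.1.2)) h.2
    rw [wordVal_append, wordVal_reverse S.lG_sq, inv_mul_eq_one] at e
    simp [wordVal, e]
  | g :: L, hs, cur, tgt, h => by
    have hg2 : gen (I.lG r) g * gen (I.lG r) g = 1 := gen_mul_self S.lG_sq g
    by_cases hg : g = 10
    · subst hg
      rcases hs with _ | ⟨v', rest⟩
      · simp [conjOK] at h
      simp only [conjOK, Nat.beq_refl, Bool.and_eq_true] at h
      have ih := conjOK_valid h.2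
      have e := moveOK_spec M S h.1
      rw [wordVal_append, wordVal, wordVal, wordVal, one_mul] at e
      rw [← ih, wordVal, ← e, mul_inv_rev, inv_eq_of_mul_eq_one_right hg2]
      group
    · have hb : Nat.beq g 10 = false := by
        rw [← Bool.not_eq_true, Nat.beq_eq]; exact hg
      simp only [conjOK, hb, Bool.and_eq_true, Nat.blt_eq] at h
      have ih := conjOK_valid h.2
      rw [wordVal_append, wordVal, wordVal, wordVal, one_mul] at ih
      rw [← ih, wordVal, mul_inv_rev, inv_eq_of_mul_eq_one_right hg2]
      group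

theorem lG_mem_DS {w : List ℕ} (hw : inC w = true) (h : fixB (w ++ 3 :: w.reverse ++ [3]) = true) :
    ∃ d : ↥DS, (d : Equiv.Perm (Fin 1782)) = wordVal lP w ∧ I.σ d = wordVal (I.lG r) w := by
  have hc : Commute (wordVal lP w) (κP 2) := by
    have e := commute_of_fix M S hw (b := [3]) (by decide) (by simpa using h)
    simpa [wordVal, gen, eps, lP_three] using e
  refine ⟨⟨_, I.mem_DS M (word_mem_CS hw) hc⟩, rfl, ?_⟩
  rw [lG_val hw]
  exact congrArg I.ρ (Subtype.ext (lC_val hw).symm)

theorem eWord_of_comm {v : G} (hw : ∀ w ∈ RelData.tGens, Commute v (wordVal (I.lG r) w)) :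
    ∃ e ∈ RelData.eWords, v = wordVal (I.lG r) e := by
  classical
  obtain ⟨hgen, h3, ⟨wz, hwz, hzfix⟩, hcw, hbit, hst, hmv, -, -⟩ := gens_ok
  have ht : Commute v (χ.κ 2) := by
    obtain ⟨d, hd, e⟩ := lG_mem_DS M S (hgen _ h3).1 (hgen _ h3).2
    have : d = cD 2 := Subtype.ext (by
      rw [hd, cD_val (by norm_num) (by norm_num)]; simp [wordVal, gen, eps, lP_three])
    rw [this, I.σ_cD (by norm_num) (by norm_num)] at e
    exact e ▸ hw _ h3
  have hz : Commute v D.z := by
    obtain ⟨d, hd, e⟩ := lG_mem_DS M S (hgen _ hwz).1 (hgen _ hwz).2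
    have hC : inC (cwL 1) = true := List.all_eq_true.2 fun g hg => by
      rw [Nat.blt_eq]; exact hcw g hg
    have h1 : d = cD 1 := Subtype.ext (by
      have e' := I.base_trivial M (word_mem_CS (inC_append (hgen _ hwz).1 hC)) (fixB_spec hzfix)
      rw [wordVal_append, mul_eq_one_iff_inv_eq, ← wordVal_reverse lP_sq,
        wordVal_rev_wordOf lP (fun g hg => by have := hcw g hg; omega), wordOf_cwL] at e'
      rw [hd, cD_val (by norm_num) (by norm_num), e'])
    rw [h1, I.σ_cD (by norm_num) (by norm_num), χ.z_eq] at e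
    exact e ▸ hw _ hwz
  obtain ⟨d, rfl⟩ := I.exists_σ M hz ht
  have hdw : ∀ w ∈ RelData.tGens, Commute (d : Equiv.Perm (Fin 1782)) (wordVal lP w) := by
    intro w hw'
    obtain ⟨d', hd', e⟩ := lG_mem_DS M S (hgen _ hw').1 (hgen _ hw').2
    have h := hw _ hw'
    rw [← e] at h
    have hd : d * d' = d' * d := I.σ_inj (by rw [map_mul, map_mul]; exact h.eq)
    rw [← hd']
    exact congrArg Subtype.val hd
  have hinv : ∀ x ∈ DS, ∀ i : Fin 1782,
      RelData.orbMask.testBit (x i).1 = RelData.orbMask.testBit i.1 := by
    intro x hx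
    induction hx using Subgroup.closure_induction with
    | mem a ha =>
      obtain ⟨g, hg, rfl⟩ := ha
      intro i
      have hg' : g < 8 := hg
      have hi : ∀ j : Fin 1782, RelData.orbMask.testBit j.1 = true →
          RelData.orbMask.testBit (lP g j).1 = true := fun j hj => by
        rw [lP_apply (by omega)]; exact maskOK_get mask_ok _ (Nat.zero_le _) (by omega) g hg' hj
      refine Bool.eq_iff_iff.2 ⟨fun h => ?_, hi i⟩
      have := hi _ h
      rwa [← Equiv.Perm.mul_apply, lP_sq] at this
    | one => intro i; rfl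
    | mul a b _ _ iha ihb => intro i; rw [Equiv.Perm.mul_apply, iha, ihb]
    | inv a _ iha => intro i; rw [← iha, ← Equiv.Perm.mul_apply, mul_inv_cancel]; rfl
  set p35 : Fin 1782 := ⟨35, by norm_num⟩
  set y : Fin 1782 := (d : Equiv.Perm (Fin 1782)) p35 with hy
  have hyb : RelData.orbMask.testBit y.1 = true := (hinv _ d.2 p35).trans hbit
  have hval : ∀ (w : List ℕ), inC w = true → ∀ i : Fin 1782,
      (wordVal lP w i).1 = twalk PermData.tabL 11 w i.1 := fun w hw' i => by
    show (wordVal (tperm PermData.tabL 11 1782) w i).1 = _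
    exact wordVal_tperm lperm_ok (by decide) w (fun g hg => by
      have := List.all_eq_true.1 hw' g hg; rw [Nat.blt_eq] at this; omega) i
  obtain ⟨-, -, -, -, -, -, -, hsC, hmC⟩ := gens_ok
  have hyf : twalk PermData.tabL 11 stabW y.1 = y.1 := by
    rw [← hval _ hsC]
    have hc := (commute_flatW lP_sq hdw RelData.stabProd).eq
    have h35 : wordVal lP stabW p35 = p35 := Fin.ext ((hval _ hsC _).trans hst)
    have := congrArg (fun q : Equiv.Perm (Fin 1782) => q p35) hc
    simp only [Equiv.Perm.mul_apply] at this
    exact congrArg Fin.val (by rw [hy]; exact this.symm.trans (congrArg _ h35))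
  obtain ⟨e, he, hey⟩ := List.mem_map.1 (fixedOK_get fixed_ok _ (Nat.zero_le _) (by omega) hyb hyf)
  obtain ⟨heC, het, -, hec⟩ := eWords_ok e he
  obtain ⟨de, hde, hσe⟩ := lG_mem_DS M S heC het
  refine ⟨e, he, ?_⟩
  suffices d = de by rw [this, hσe]
  let x : Equiv.Perm (Fin 1782) := (de : Equiv.Perm (Fin 1782))⁻¹ * d
  have hxc : ∀ w ∈ RelData.tGens, Commute x (wordVal lP w) := fun w hw' =>
    (by rw [hde]; exact (commute_of_fix M S heC (hgen _ hw').1 (hec w hw')).inv_left :
      Commute (de : Equiv.Perm (Fin 1782))⁻¹ (wordVal lP w)).mul_left (hdw w hw')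
  have hx35 : x p35 = p35 := by
    show (de : Equiv.Perm (Fin 1782))⁻¹ y = p35
    rw [Equiv.Perm.inv_eq_iff_eq, hde]
    exact Fin.ext (by rw [hval _ heC]; exact hey.symm)
  set p54 : Fin 1782 := ⟨54, by norm_num⟩
  have hx54 : x p54 = p54 := by
    have hm54 : wordVal lP moveW p35 = p54 := Fin.ext ((hval _ hmC _).trans hmv)
    have := congrArg (fun q : Equiv.Perm (Fin 1782) => q p35)
      (commute_flatW lP_sq hxc RelData.moveProd).eq
    simp only [Equiv.Perm.mul_apply] at this
    rw [hx35] at this
    rw [← hm54]; exact this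
  have hx : x ∈ DS := mul_mem (inv_mem de.2) d.2
  have h := base_mul_le lP (MonoidHom.id _) lperm_ok (by decide) (fun g _ => rfl) rlevels_ok DS
    (Subgroup.zpowers x) (Subgroup.zpowers_le.2 hx) (fun u hu => by
      refine wordVal_mem fun g hg => ?_
      simp only [RelData.levels, List.head?_cons, Option.map_some, Option.getD_some] at hu
      have := rlevels_size.2.2 _ List.mem_cons_self u hu g hg
      exact ⟨by show g < 31; omega, lP_mem_DS this⟩) (by
      intro t ht p hp
      obtain ⟨i, rfl⟩ := Subgroup.mem_zpowers_iff.1 ht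
      refine Equiv.Perm.zpow_apply_eq_self_of_apply_eq_self ?_ i
      rw [rlevels_size.2.1] at hp
      rcases List.mem_pair.1 hp with e1 | e1
      · rwa [show p = p35 from Fin.ext e1]
      · rwa [show p = p54 from Fin.ext e1])
  rw [rlevels_size.1] at h
  have h' := h.trans (I.card_DS_le M)
  have h3' : Nat.card (Subgroup.zpowers x) ≤ 1 := by omega
  have hx1 : x = 1 := Subgroup.zpowers_eq_bot.1 (Subgroup.eq_bot_of_card_le _ h3')
  exact (Subtype.ext (inv_mul_eq_one.1 hx1)).symm

end Cfsg.Lib.Extra.SuzUnique
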