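import Cfsg.Agent.Lib.Extra.SuzUnique.PermChecks

/-!
# The generators and relations among the permutations
-/

set_option autoImplicit false
set_option maxRecDepth 20000
set_option linter.style.haveILetI false

namespace Cfsg.Lib.Extra.SuzUnique

open Cfsg.Lib.CosetEnum Cfsg.Lib.Extra.Wide

/-- The letters as permutations. -/
noncomputable def lP (g : ℕ) : Equiv.Perm (Fin 1782) := tperm PermData.tabL 11 1782 g

theorem lP_sq (g : ℕ) : lP g * lP g = 1 := tperm_mul_self _ _ _ g

theorem lP_apply {g : ℕ} (hg : g < 11) (i : Fin 1782) :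
    (lP g i).1 = img PermData.tabL 11 g i.1 := tperm_apply lperm_ok hg i

theorem twalk_snoc (Z : Tab) (k g : ℕ) : ∀ (l : List ℕ) (j : ℕ),
    twalk Z k (l ++ [g]) j = img Z k g (twalk Z k l j)
  | [], j => by rw [List.nil_append, twalk_cons, twalk_nil, twalk_nil]
  | a :: l, j => by rw [List.cons_append, twalk_cons, twalk_cons]; exact twalk_snoc Z k g l _

theorem wordOf_lP : ∀ {w : List ℕ}, (∀ g ∈ w, g < 11) → ∀ i : Fin 1782,
    (wordOf lP w i).1 = twalk PermData.tabL 11 w.reverse i.1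
  | [], _, i => rfl
  | g :: w, hw, i => by
    rw [wordOf, Equiv.Perm.mul_apply, List.reverse_cons, lP_apply (hw g List.mem_cons_self),
      wordOf_lP (fun a ha => hw a (List.mem_cons_of_mem _ ha))]
    rw [twalk_snoc]

theorem sideOK_get : ∀ {m i : ℕ}, sideOK m i = true → ∀ j, i ≤ j → j < i + m →
    (∀ e ∈ colEqsRev, twalk PermData.tabE 10 e.1 j = twalk PermData.tabE 10 e.2 j) ∧
    (∀ d ∈ colDefs, twalk PermData.tabL 11 d.2 j = img PermData.tabE 10 d.1 j) ∧
    (∀ d ∈ letterDefs, twalk PermData.tabE 10 d.2 j = img PermData.tabL 11 d.1 j)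
  | 0, i, _, j, h1, h2 => by omega
  | m + 1, i, hc, j, h1, h2 => by
    rw [sideOK, force_eq, Bool.and_eq_true] at hc
    rcases Nat.eq_or_lt_of_le h1 with h | h
    · subst h
      have h3 := hc.1
      simp only [Bool.and_eq_true, List.all_eq_true, Nat.beq_eq, and_assoc] at h3
      exact h3
    · exact sideOK_get hc.2 j h (by omega)

theorem side_get (i : Fin 1782) :
    (∀ e ∈ colEqsRev, twalk PermData.tabE 10 e.1 i = twalk PermData.tabE 10 e.2 i) ∧
    (∀ d ∈ colDefs, twalk PermData.tabL 11 d.2 i = img PermData.tabE 10 d.1 i) ∧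
    (∀ d ∈ letterDefs, twalk PermData.tabE 10 d.2 i = img PermData.tabL 11 d.1 i) := by
  have hi := i.2
  rcases lt_or_ge i.1 300 with h | h
  · exact sideOK_get side0 _ (Nat.zero_le _) (by omega)
  rcases lt_or_ge i.1 600 with h' | h'
  · exact sideOK_get side1 _ h (by omega)
  rcases lt_or_ge i.1 900 with h'' | h''
  · exact sideOK_get side2 _ h' (by omega)
  rcases lt_or_ge i.1 1200 with h3 | h3
  · exact sideOK_get side3 _ h'' (by omega)
  rcases lt_or_ge i.1 1500 with h4 | h4
  · exact sideOK_get side4 _ h3 (by omega)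
  · exact sideOK_get side5 _ h4 (by omega)

/-- The columns as permutations. -/
noncomputable def eP (j : ℕ) : Equiv.Perm (Fin 1782) := wordOf lP (PermData.colWords.getD j [])

theorem col_lt : ∀ j < 10, ∀ g ∈ PermData.colWords.getD j [], g < 11 := by decide +kernel

theorem eP_apply {j : ℕ} (hj : j < 10) (i : Fin 1782) : (eP j i).1 = img PermData.tabE 10 j i.1 := by
  rw [eP, wordOf_lP (col_lt j hj)]
  exact (side_get i).2.1 (j, _) (List.mem_map.2 ⟨j, List.mem_range.2 hj, rfl⟩)

theorem wordOf_eP : ∀ {w : List ℕ}, (∀ g ∈ w, g < 10) → ∀ i : Fin 1782,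
    (wordOf eP w i).1 = twalk PermData.tabE 10 w.reverse i.1
  | [], _, i => rfl
  | g :: w, hw, i => by
    rw [wordOf, Equiv.Perm.mul_apply, List.reverse_cons, eP_apply (hw g List.mem_cons_self),
      wordOf_eP (fun a ha => hw a (List.mem_cons_of_mem _ ha)), twalk_snoc]

theorem eqs_lt : ∀ e ∈ colEqs, (∀ g ∈ e.1, g < 10) ∧ (∀ g ∈ e.2, g < 10) := by decide +kernel

theorem eP_eq {a b : List ℕ} (h : (a, b) ∈ colEqs) : wordOf eP a = wordOf eP b := by
  ext i
  obtain ⟨ha, hb⟩ := eqs_lt _ h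
  rw [wordOf_eP ha, wordOf_eP hb]
  exact (side_get i).1 (a.reverse, b.reverse) (List.mem_map.2 ⟨_, h, rfl⟩)

/-- The product of the columns of a code. -/
noncomputable def κP (n : ℕ) : Equiv.Perm (Fin 1782) := wordOf eP (cw n)

theorem κP_eq (n : ℕ) : κP n = codeProd (eP 0) (eP 1) (eP 2) (eP 3) (eP 4) (eP 5) (eP 6) n := by
  have hb : ∀ i, bit2 n i = 0 ∨ bit2 n i = 1 := fun i => Nat.mod_two_eq_zero_or_one _
  have h7 : List.range 7 = [0, 1, 2, 3, 4, 5, 6] := rfl
  simp only [κP, cw, codeProd, ordProd, h7]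
  rcases hb 0 with a | a <;> rcases hb 1 with b | b <;> rcases hb 2 with c | c <;>
    rcases hb 3 with d | d <;> rcases hb 4 with e | e <;> rcases hb 5 with f | f <;>
    rcases hb 6 with g | g <;>
    simp [List.filter_cons, a, b, c, d, e, f, g, wordOf]

theorem eq_zz : ([0, 0], []) ∈ colEqs := by decide +kernel

theorem eq_zj : ∀ j < 10, j ≠ 0 → ([0, j], [j, 0]) ∈ colEqs := by decide +kernel

theorem eq_sq : ∀ i < 6, ([i + 1, i + 1], cw (qV (2 ^ i))) ∈ colEqs := by decide +kernel

theorem eq_comm : ∀ j < 6, ∀ i < j, ([j + 1, i + 1], cw (bV (2 ^ j) (2 ^ i)) ++ [i + 1, j + 1]) ∈ colEqs := by decide +kernel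

theorem eq_act : ∀ i < 3, ∀ g ∈ gens7, ((7 + i) :: cw g, cw ((siegel i).app g) ++ [7 + i]) ∈ colEqs := by decide +kernel

theorem eq_ysq : ∀ i < 3, ([7 + i, 7 + i], cw (siegel i).sq) ∈ colEqs := by decide +kernel

theorem eq_rel : ∀ r ∈ relC, (r.1.map (7 + ·), cw r.2) ∈ colEqs := by decide +kernel

theorem app_hom : ∀ i < 3, ∀ m < 128, ∀ g ∈ gens7,
    (siegel i).app (qMul m g) = qMul ((siegel i).app m) ((siegel i).app g) := by decide +kernel

theorem app_zero : ∀ i < 3, (siegel i).app 0 = 0 := by decide +kernel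

theorem cw_zero : cw 0 = [] := by decide +kernel

theorem cw_one : cw 1 = [0] := by decide +kernel

theorem eP_comm_z {j : ℕ} (hj : j < 10) : Commute (eP 0) (eP j) := by
  rcases eq_or_ne j 0 with rfl | h0
  · exact Commute.refl _
  · have h := eP_eq (eq_zj j hj h0)
    show eP 0 * eP j = eP j * eP 0
    simpa [wordOf] using h

theorem wordOf_map_succ {H : Type*} [Group H] (x : ℕ → H) (k : ℕ) : ∀ l : List ℕ,
    wordOf x (l.map (k + ·)) = wordOf (fun i => x (k + i)) l
  | [] => rfl
  | a :: l => by rw [List.map_cons, wordOf, wordOf, wordOf_map_succ x k l]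

theorem κP_mul : ∀ m < 128, ∀ n < 128, κP (qMul m n) = κP m * κP n := by
  classical
  let H := Subgroup.centralizer ({eP 0} : Set (Equiv.Perm (Fin 1782)))
  have hmem : ∀ j, j < 10 → eP j ∈ H := fun j hj =>
    Subgroup.mem_centralizer_singleton_iff.2 (eP_comm_z hj).eq.symm
  let z : ↥H := ⟨eP 0, hmem 0 (by norm_num)⟩
  let f : Fin 6 → ↥H := fun i => ⟨eP (i + 1), hmem _ (by omega)⟩
  have hz : ∀ w : ↥H, Commute z w := fun w =>
    Subtype.ext (Subgroup.mem_centralizer_singleton_iff.1 w.2).symm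
  have hz2 : z * z = 1 := Subtype.ext (by simpa [wordOf] using eP_eq eq_zz)
  have hs0 : ∀ i : Fin 6, qV (2 ^ (i : ℕ)) = 0 → f i * f i = 1 := fun i h => Subtype.ext (by
    have e := eP_eq (eq_sq i i.2)
    rw [h, cw_zero] at e
    simpa [wordOf, f] using e)
  have hs1 : ∀ i : Fin 6, qV (2 ^ (i : ℕ)) = 1 → f i * f i = z := fun i h => Subtype.ext (by
    have e := eP_eq (eq_sq i i.2)
    rw [h, cw_one] at e
    simpa [wordOf, f, z] using e)
  have hcm : ∀ j i : Fin 6, i < j → bV (2 ^ (j : ℕ)) (2 ^ (i : ℕ)) = 0 → Commute (f j) (f i) :=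
    fun j i hij h => Subtype.ext (by
      have e := eP_eq (eq_comm j j.2 i hij)
      rw [h, cw_zero] at e
      show eP (j + 1) * eP (i + 1) = eP (i + 1) * eP (j + 1)
      simpa [wordOf] using e)
  have hac : ∀ j i : Fin 6, i < j → bV (2 ^ (j : ℕ)) (2 ^ (i : ℕ)) = 1 → f j * f i = z * (f i * f j) :=
    fun j i hij h => Subtype.ext (by
      have e := eP_eq (eq_comm j j.2 i hij)
      rw [h, cw_one] at e
      simpa [wordOf, f, z] using e)
  have hmul := map_mul_of_gens (f := codeProd z (f 0) (f 1) (f 2) (f 3) (f 4) (f 5))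
    (by simp [codeProd, ordProd, bit2])
    (codeProd_mul hz hz2 (hs0 0 (by decide)) (hs0 1 (by decide)) (hs1 2 (by decide))
      (hs1 3 (by decide)) (hs0 4 (by decide)) (hs0 5 (by decide))
      (hac 1 0 (by decide) (by decide)) (hac 3 2 (by decide) (by decide)) (hac 5 4 (by decide) (by decide))
      (hcm 2 0 (by decide) (by decide)) (hcm 3 0 (by decide) (by decide)) (hcm 4 0 (by decide) (by decide))
      (hcm 5 0 (by decide) (by decide)) (hcm 2 1 (by decide) (by decide)) (hcm 3 1 (by decide) (by decide))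
      (hcm 4 1 (by decide) (by decide)) (hcm 5 1 (by decide) (by decide)) (hcm 4 2 (by decide) (by decide))
      (hcm 5 2 (by decide) (by decide)) (hcm 4 3 (by decide) (by decide)) (hcm 5 3 (by decide) (by decide)))
  have hκ : ∀ n, ((codeProd z (f 0) (f 1) (f 2) (f 3) (f 4) (f 5) n : ↥H) : Equiv.Perm (Fin 1782)) =
      κP n := by
    intro n
    have hp : ∀ (a : ↥H) (c : ZMod 2),
        ((pick a c : ↥H) : Equiv.Perm (Fin 1782)) = pick (a : Equiv.Perm (Fin 1782)) c := by
      intro a c; rcases bit c with rfl | rfl <;> simp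
    rw [κP_eq]
    simp [codeProd, ordProd, hp, z, f]
  intro m hm n hn
  rw [← hκ, ← hκ, ← hκ, hmul m hm n hn, Subgroup.coe_mul]

theorem κP_act : ∀ i < 3, ∀ n < 128,
    eP (7 + i) * κP n * (eP (7 + i))⁻¹ = κP ((siegel i).app n) := by
  intro i hi
  have h0 : κP 0 = 1 := by rw [κP, cw_zero]; rfl
  refine eq_of_gens (f := fun n => eP (7 + i) * κP n * (eP (7 + i))⁻¹)
    (g := fun n => κP ((siegel i).app n)) (fun m hm n hn => by rw [κP_mul m hm n hn]; group)
    (map_mul_of_gens (f := fun n => κP ((siegel i).app n))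
      (by show κP _ = 1; rw [app_zero i hi, h0]) fun m hm g hg => ?_) fun g hg => ?_
  · show κP _ = κP _ * κP _
    rw [app_hom i hi m hm g hg]
    exact κP_mul _ (app_lt i (by omega) m hm) _ (app_lt i (by omega) g (by fin_cases hg <;> norm_num))
  · have e := eP_eq (eq_act i hi g hg)
    rw [wordOf, wordOf_append, wordOf, wordOf, mul_one] at e
    show eP (7 + i) * κP g * (eP (7 + i))⁻¹ = _
    rw [mul_inv_eq_iff_eq_mul]
    exact e

/-- The permutations as a base. -/
noncomputable def permBase : CBase (Equiv.Perm (Fin 1782)) where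
  κ := κP
  Y i := eP (7 + i)
  map_mul := κP_mul
  act := κP_act
  sq i hi := by
    have e := eP_eq (eq_ysq i hi)
    show eP (7 + i) * eP (7 + i) = κP _
    simpa [wordOf, κP] using e
  rel r hr := by
    have e := eP_eq (eq_rel r hr)
    rw [wordOf_map_succ] at e
    exact e

theorem letter_lt : ∀ j < 10, (PermData.letterExpr.getD j (0, [])).1 < 128 ∧
    ∀ g ∈ (PermData.letterExpr.getD j (0, [])).2, g < 3 := by decide +kernel

theorem letter_eq {j : ℕ} (hj : j < 10) :
    lP j = κP (PermData.letterExpr.getD j (0, [])).1 *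
      wordOf permBase.Y (PermData.letterExpr.getD j (0, [])).2 := by
  obtain ⟨-, hg⟩ := letter_lt j hj
  ext i
  have hlt : ∀ g ∈ cw (PermData.letterExpr.getD j (0, [])).1 ++
      (PermData.letterExpr.getD j (0, [])).2.map (7 + ·), g < 10 := by
    intro g hg'
    rcases List.mem_append.1 hg' with h | h
    · have := List.mem_range.1 (List.mem_of_mem_filter h); omega
    · obtain ⟨a, ha, rfl⟩ := List.mem_map.1 h
      have := hg a ha; omega
  show (lP j i).1 = _
  rw [lP_apply (by omega), κP, show permBase.Y = fun i => eP (7 + i) from rfl, ← wordOf_map_succ,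
    ← wordOf_append, wordOf_eP hlt]
  exact ((side_get i).2.2 (j, _) (List.mem_map.2 ⟨j, List.mem_range.2 hj, rfl⟩)).symm

end Cfsg.Lib.Extra.SuzUnique
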