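import Cfsg.Agent.Lib.Extra.SuzUnique.CenterBound
import Cfsg.Agent.Lib.Extra.SuzUnique.CodeChecks
import Cfsg.Agent.Lib.Extra.SuzUnique.PermSide

/-!
# The centralizer of the involution is the permutation group

The pairs of corresponding generators generate a group of order at most 3317760.  It has that many
images among the permutations of 1782 points, and 1658880 among the permutations of the codes, so
both projections are injective and `C(z)` is generated by ten involutions that satisfy every
relation of the ten permutations.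
-/

set_option autoImplicit false
set_option maxRecDepth 20000
set_option linter.style.haveILetI false

namespace Cfsg.Lib.Extra.SuzUnique

open Cfsg Cfsg.Lib.CosetEnum Cfsg.Lib.Extra.Wide Cfsg.Lib.Extra.SuzLocal

universe u

variable {G : Type u} [Group G] {ι : Type} [Fintype ι] [DecidableEq ι] {D : Data G ι}

/-- The group of the ten permutations. -/
noncomputable def CS : Subgroup (Equiv.Perm (Fin 1782)) :=
  Subgroup.closure (lP '' {i | i < 10})

theorem lP_mem {i : ℕ} (hi : i < 10) : lP i ∈ CS := Subgroup.subset_closure ⟨i, hi, rfl⟩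

theorem wordVal_mem {H : Type*} [Group H] {A : Subgroup H} {x : ℕ → H} : ∀ {w : List ℕ},
    (∀ g ∈ w, g < eps ∧ x g ∈ A) → wordVal x w ∈ A
  | [], _ => one_mem _
  | g :: w, h => by
    obtain ⟨h1, h2⟩ := h g List.mem_cons_self
    rw [wordVal, gen, if_neg (Nat.ne_of_lt h1)]
    exact mul_mem (wordVal_mem fun a ha => h a (List.mem_cons_of_mem _ ha)) h2

theorem tperm_congr {Z : Tab} {k n g : ℕ} {R : List (List ℕ)} (h : permOK Z k n R n 0 = true)
    (hg : g < k) (σ : Equiv.Perm (Fin n)) (hσ : ∀ i, (σ i).1 = img Z k g i.1) :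
    σ = tperm Z k n g :=
  Equiv.ext fun i => Fin.ext ((hσ i).trans (tperm_apply h hg i).symm)

theorem permBase_z : κP 1 = eP 0 := by
  rw [κP, cw_one]; simp [wordOf]

variable [Finite G]

/-- The ten involutions of `C(z)` and the isomorphism with the ten permutations. -/
theorem exists_iso (M : Model D) : ∃ (χ : Chart D) (ρ : ↥CS →* G), Function.Injective ρ ∧
    ρ.range = Subgroup.centralizer ({D.z} : Set G) ∧
    ∀ n < 128, ∃ h : κP n ∈ CS, ρ ⟨κP n, h⟩ = χ.κ n := by
  classical
  obtain ⟨χ⟩ := exists_chart M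
  obtain ⟨b, hbκ, hbY⟩ := exists_cbase χ
  let pb : CBase (G × Equiv.Perm (Fin 1782)) :=
    { κ := fun n => (b.κ n, permBase.κ n)
      Y := fun i => (b.Y i, permBase.Y i)
      map_mul := fun m hm n hn => Prod.ext (b.map_mul m hm n hn) (permBase.map_mul m hm n hn)
      act := fun i hi n hn => Prod.ext (b.act i hi n hn) (permBase.act i hi n hn)
      sq := fun i hi => Prod.ext (b.sq i hi) (permBase.sq i hi)
      rel := fun r hr => by
        have h : ∀ l, wordOf (fun i => ((b.Y i, permBase.Y i) : G × Equiv.Perm (Fin 1782))) l =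
            (wordOf b.Y l, wordOf permBase.Y l) := fun l => by
          induction l with
          | nil => rfl
          | cons a l ih => simp [wordOf, ih]
        rw [h, b.rel r hr, permBase.rel r hr] }
  have hK : Nat.card pb.grp ≤ 128 * 25920 := pb.card_le
  set K := pb.grp with hKdef
  have hκK : ∀ {n}, n < 128 → pb.κ n ∈ K := fun hn => Subgroup.subset_closure (Or.inl ⟨_, hn, rfl⟩)
  have hYK : ∀ {i}, i < 3 → pb.Y i ∈ K := fun hi => Subgroup.subset_closure (Or.inr ⟨_, hi, rfl⟩)
  have hwK : ∀ {l : List ℕ}, (∀ i ∈ l, i < 3) → wordOf pb.Y l ∈ K := by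
    intro l hl
    induction l with
    | nil => exact one_mem _
    | cons a l ih =>
      exact mul_mem (hYK (hl a List.mem_cons_self)) (ih fun j hj => hl j (List.mem_cons_of_mem _ hj))
  -- the letters in the group of pairs
  let le : ℕ → ℕ × List ℕ := fun j => PermData.letterExpr.getD j (0, [])
  let x : ℕ → ↥K := fun j => if h : j < 10 then
    ⟨pb.κ (le j).1 * wordOf pb.Y (le j).2,
      mul_mem (hκK (letter_lt j h).1) (hwK (letter_lt j h).2)⟩ else 1
  let f : ↥K →* Equiv.Perm (Fin 1782) := (MonoidHom.snd _ _).comp K.subtype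
  have hpw : ∀ l, wordOf pb.Y l = (wordOf b.Y l, wordOf permBase.Y l) := fun l => by
    induction l with
    | nil => rfl
    | cons a l ih => simp [wordOf, ih, pb]
  have hfx : ∀ j < 10, f (x j) = lP j := by
    intro j hj
    simp only [x, dif_pos hj, f, MonoidHom.coe_comp, Subgroup.coe_subtype, Function.comp_apply,
      MonoidHom.coe_snd, hpw]
    rw [letter_eq hj]
    rfl
  let x' : ℕ → ↥K := fun g => if g < 10 then x g else 1
  -- the lower bound among the permutations
  have hb0 := base_ok
  have hcardP : baseSize PermData.levels ≤ Nat.card ((Subgroup.closure (x '' {i | i < 10})).map f) := by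
    let A := (Subgroup.closure (x '' {i | i < 10})).map f
    let y : ℕ → Equiv.Perm (Fin 1782) := fun g => tperm PermData.tabL 11 1782 g
    refine (base_le y (MonoidHom.id _) lperm_ok (by decide) (fun g _ => rfl) hb0).trans ?_
    rw [Subgroup.map_id]
    refine Subgroup.card_le_of_le ((Subgroup.closure_le _).2 ?_)
    rintro _ ⟨u, hu, rfl⟩
    have hL : ∀ g ∈ u, g < 10 := by
      simp only [PermData.levels, List.head?_cons, Option.map_some, Option.getD_some] at hu
      exact words_lt.2 _ List.mem_cons_self u hu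
    exact wordVal_mem fun g hg => ⟨by have := hL g hg; show g < 31; omega,
      x g, Subgroup.subset_closure ⟨g, hL g hg, rfl⟩, hfx g (hL g hg)⟩
  rw [base_size] at hcardP
  have hrange : Nat.card ((Subgroup.closure (x '' {i | i < 10})).map f) ≤ Nat.card f.range :=
    Subgroup.card_le_of_le (by rintro _ ⟨a, -, rfl⟩; exact ⟨a, rfl⟩)
  have hKcard : Nat.card K = 3317760 ∧ Function.Injective f := by
    have h1 : Nat.card f.range ≤ Nat.card K :=
      Nat.card_le_card_of_surjective _ f.rangeRestrict_surjective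
    have hbij := (Nat.bijective_iff_surjective_and_card f.rangeRestrict).2
      ⟨f.rangeRestrict_surjective, le_antisymm (by omega) h1⟩
    exact ⟨by omega, fun a c hac => hbij.1 (Subtype.ext hac)⟩
  obtain ⟨hKc, hinj⟩ := hKcard
  have htop : Subgroup.closure (x '' {i | i < 10}) = ⊤ := by
    refine Subgroup.eq_top_of_le_card _ ?_
    rw [hKc, Nat.card_congr (Subgroup.equivMapOfInjective _ f hinj).toEquiv]
    exact hcardP
  have hfrange : f.range = CS := by
    rw [MonoidHom.range_eq_map, ← htop, MonoidHom.map_closure, CS]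
    congr 1
    ext σ
    constructor
    · rintro ⟨_, ⟨i, hi, rfl⟩, rfl⟩; exact ⟨i, hi, (hfx i hi).symm⟩
    · rintro ⟨i, hi, rfl⟩; exact ⟨x i, ⟨i, hi, rfl⟩, hfx i hi⟩
  -- the action on the codes
  have hκinj : ∀ {m n}, m < 128 → n < 128 → pb.κ m = pb.κ n → m = n := fun hm hn h =>
    χ.inj hm hn (by rw [← hbκ]; exact congrArg Prod.fst h)
  have hact : ∀ k ∈ K, ∃ σ : Equiv.Perm (Fin 128), ∀ n : Fin 128,
      k * pb.κ n * k⁻¹ = pb.κ (σ n) := by
    have mk : ∀ (k : G × Equiv.Perm (Fin 1782)) (T : ℕ → ℕ),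
        (∀ n < 128, T n < 128 ∧ k * pb.κ n * k⁻¹ = pb.κ (T n)) →
        ∃ σ : Equiv.Perm (Fin 128), ∀ n : Fin 128, k * pb.κ n * k⁻¹ = pb.κ (σ n) := by
      intro k T h
      have hi : Function.Injective fun n : Fin 128 => (⟨T n, (h n n.2).1⟩ : Fin 128) := by
        intro m n e
        have e' : T m = T n := congrArg Fin.val e
        have e2 : k * pb.κ m * k⁻¹ = k * pb.κ n * k⁻¹ := by rw [(h m m.2).2, (h n n.2).2, e']
        exact Fin.ext (hκinj m.2 n.2 (mul_left_cancel (mul_right_cancel e2)))
      exact ⟨Equiv.ofBijective _ (Finite.injective_iff_bijective.1 hi), fun n => (h n n.2).2⟩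
    intro k hk
    induction hk using Subgroup.closure_induction with
    | mem a ha =>
      rcases ha with ⟨m, hm, rfl⟩ | ⟨i, hi, rfl⟩
      · refine mk _ (conjTab m) fun n hn => ?_
        have hlt : conjTab m n < 128 := by
          unfold conjTab; split
          exacts [qMul_lt 1 (by norm_num) n hn, hn]
        refine ⟨hlt, ?_⟩
        rw [mul_inv_eq_iff_eq_mul, ← pb.map_mul m hm n hn, ← pb.map_mul _ hlt m hm]
        congr 1
        exact (show ∀ m < 128, ∀ n < 128, qMul m n = qMul (conjTab m n) m by decide +kernel) m hm n hn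
      · exact mk _ ((siegel i).app) fun n hn =>
          ⟨app_lt i (by have : i < 3 := hi; omega) n hn, pb.act i hi n hn⟩
    | one => exact ⟨1, fun n => by simp⟩
    | mul a c ha hc iha ihc =>
      obtain ⟨σ, hσ⟩ := iha
      obtain ⟨τ, hτ⟩ := ihc
      refine ⟨σ * τ, fun n => ?_⟩
      calc a * c * pb.κ n * (a * c)⁻¹ = a * (c * pb.κ n * c⁻¹) * a⁻¹ := by group
        _ = _ := by rw [hτ, hσ]; rfl
    | inv a ha iha =>
      obtain ⟨σ, hσ⟩ := iha
      refine ⟨σ⁻¹, fun n => ?_⟩
      have h := hσ (σ⁻¹ n)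
      rw [show σ (σ⁻¹ n) = n from σ.apply_symm_apply n] at h
      rw [← h]; group
  choose act hact' using hact
  let φ : ↥K →* Equiv.Perm (Fin 128) := MonoidHom.mk' (fun k => act k.1 k.2) fun a c => by
    refine Equiv.ext fun n => Fin.ext (hκinj (act _ _ n).2 ((act _ _ * act _ _) n).2 ?_)
    rw [← hact' _ (a * c).2 n, Equiv.Perm.mul_apply, ← hact' _ a.2, ← hact' _ c.2, Subgroup.coe_mul]
    group
  have hφx : ∀ j < 10, φ (x j) = tperm CodeData.tabT 10 128 j := by
    intro j hj
    refine tperm_congr tperm128_ok hj _ fun n => ?_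
    rw [letterTab_ok j hj n n.2]
    have hlt : ∀ l : List ℕ, (∀ i ∈ l, i < 3) → ∀ m < 128, wordTab l m < 128 ∧
        wordOf pb.Y l * pb.κ m * (wordOf pb.Y l)⁻¹ = pb.κ (wordTab l m) := by
      intro l
      induction l with
      | nil => intro _ m hm; exact ⟨hm, by simp [wordOf, wordTab]⟩
      | cons a l ih =>
        intro h m hm
        obtain ⟨h1, h2⟩ := ih (fun i hi => h i (List.mem_cons_of_mem _ hi)) m hm
        have ha := h a List.mem_cons_self
        refine ⟨app_lt a (by omega) _ h1, ?_⟩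
        calc pb.Y a * wordOf pb.Y l * pb.κ m * (pb.Y a * wordOf pb.Y l)⁻¹
            = pb.Y a * (wordOf pb.Y l * pb.κ m * (wordOf pb.Y l)⁻¹) * (pb.Y a)⁻¹ := by group
          _ = _ := by rw [h2, pb.act a ha _ h1]; rfl
    obtain ⟨hc, hw⟩ := letter_lt j hj
    obtain ⟨hl, he⟩ := hlt _ hw n n.2
    have hT : letterTab j n < 128 := by
      simp only [letterTab, conjTab]; split
      exacts [qMul_lt 1 (by norm_num) _ hl, hl]
    refine hκinj (φ (x j) n).2 hT ?_
    show pb.κ (act (x j).1 (x j).2 n).1 = _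
    rw [← hact' _ (x j).2 n]
    simp only [x, dif_pos hj]
    calc pb.κ (le j).1 * wordOf pb.Y (le j).2 * pb.κ n * (pb.κ (le j).1 * wordOf pb.Y (le j).2)⁻¹
        = pb.κ (le j).1 * (wordOf pb.Y (le j).2 * pb.κ n * (wordOf pb.Y (le j).2)⁻¹) *
            (pb.κ (le j).1)⁻¹ := by group
      _ = _ := by
        rw [he, mul_inv_eq_iff_eq_mul, ← pb.map_mul _ hc _ hl, ← pb.map_mul _ hT _ hc]
        congr 1
        exact (show ∀ m < 128, ∀ n < 128, qMul m n = qMul (conjTab m n) m by decide +kernel) _ hc _ hl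
  have hφ : 1658880 ≤ Nat.card φ.range := by
    let y : ℕ → Equiv.Perm (Fin 128) := fun g => tperm CodeData.tabT 10 128 g
    rw [← base128_size]
    refine (base_le y (MonoidHom.id _) tperm128_ok (by decide) (fun g _ => rfl) base128_ok).trans ?_
    rw [Subgroup.map_id]
    refine Subgroup.card_le_of_le ((Subgroup.closure_le _).2 ?_)
    rintro _ ⟨u, hu, rfl⟩
    have hL : ∀ g ∈ u, g < 10 := by
      simp only [CodeData.levels, List.head?_cons, Option.map_some, Option.getD_some] at hu
      exact words_lt.1 _ List.mem_cons_self u hu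
    exact wordVal_mem fun g hg => ⟨by have := hL g hg; show g < 31; omega, x g, hφx g (hL g hg)⟩
  have hker : Nat.card φ.ker ≤ 2 := by
    have h := φ.ker.card_mul_index
    rw [Subgroup.index_ker, hKc] at h
    have h2 : Nat.card φ.ker * 1658880 ≤ 3317760 :=
      (Nat.mul_le_mul_left _ hφ).trans_eq h
    omega
  -- the central pair
  have h1K : pb.κ 1 ∈ K := hκK (by norm_num)
  have hzk : (⟨pb.κ 1, h1K⟩ : ↥K) ∈ φ.ker := by
    refine Equiv.ext fun n => Fin.ext (hκinj (φ _ n).2 n.2 ?_)
    show pb.κ (act (pb.κ 1) h1K n).1 = pb.κ n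
    rw [← hact' (pb.κ 1) h1K n, mul_inv_eq_iff_eq_mul, ← pb.map_mul 1 (by norm_num) n n.2,
      ← pb.map_mul n n.2 1 (by norm_num), (qMul_center n n.2).1, (qMul_center n n.2).2]
  have hz1 : (⟨pb.κ 1, h1K⟩ : ↥K) ≠ 1 := fun e => absurd
    (hκinj (by norm_num) (by norm_num) ((congrArg Subtype.val e).trans pb.κ_zero.symm) : 1 = 0)
    (by norm_num)
  have hker' : ∀ k ∈ φ.ker, k = 1 ∨ k = ⟨pb.κ 1, h1K⟩ := by
    intro k hk
    by_contra hc
    push Not at hc
    let g : Fin 3 → ↥φ.ker := ![⟨1, one_mem _⟩, ⟨_, hzk⟩, ⟨k, hk⟩]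
    have hg : Function.Injective g := by
      intro a c e
      have e' := congrArg Subtype.val e
      fin_cases a <;> fin_cases c <;> first
        | rfl
        | exact absurd e' (by simpa [g] using hz1)
        | exact absurd e'.symm (by simpa [g] using hz1)
        | exact absurd e' (by simpa [g] using hc.1)
        | exact absurd e'.symm (by simpa [g] using hc.1)
        | exact absurd e' (by simpa [g] using hc.2)
        | exact absurd e'.symm (by simpa [g] using hc.2)
    have h3 := Nat.card_le_card_of_injective g hg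
    rw [Nat.card_fin] at h3
    omega
  -- the first projection
  let p : ↥K →* G := (MonoidHom.fst _ _).comp K.subtype
  have hpκ : ∀ n, (pb.κ n).1 = χ.κ n := fun n => congrFun hbκ n
  have hpinj : Function.Injective p := by
    rw [injective_iff_map_eq_one]
    intro k hk
    have hk' : (k : G × Equiv.Perm (Fin 1782)).1 = 1 := hk
    have hkk : k ∈ φ.ker := by
      refine Equiv.ext fun n => Fin.ext ?_
      have h := congrArg Prod.fst (hact' k.1 k.2 n)
      rw [Prod.fst_mul, Prod.fst_mul, Prod.fst_inv, hk', one_mul, inv_one, mul_one, hpκ, hpκ] at h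
      exact χ.inj (act k.1 k.2 n).2 n.2 h.symm
    rcases hker' k hkk with e | e
    · exact e
    · subst e
      refine absurd ?_ D.ctx.ne_one
      have : (pb.κ 1).1 = 1 := hk'
      rwa [hpκ, χ.z_eq] at this
  have hprange : p.range = Subgroup.centralizer ({D.z} : Set G) := by
    refine Subgroup.eq_of_le_of_card_ge ?_ ?_
    · rw [MonoidHom.range_eq_map, Subgroup.map_le_iff_le_comap]
      rintro ⟨k, hk⟩ -
      show k.1 ∈ Subgroup.centralizer ({D.z} : Set G)
      induction hk using Subgroup.closure_induction with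
      | mem a ha =>
        rcases ha with ⟨m, hm, rfl⟩ | ⟨i, hi, rfl⟩
        · rw [hpκ]
          exact Subgroup.mem_centralizer_singleton_iff.2 (D.ctx.central _ (χ.mem hm)).symm.eq
        · exact Subgroup.mem_centralizer_singleton_iff.2 (hbY i hi).eq
      | one => exact one_mem _
      | mul a c _ _ ha hc => exact mul_mem ha hc
      | inv a _ ha => exact inv_mem ha
    · rw [card_cz M, ← Nat.card_congr (MonoidHom.ofInjective hpinj).toEquiv, hKc]
  -- the isomorphism
  let e : ↥K ≃* ↥CS := (MonoidHom.ofInjective hinj).trans (MulEquiv.subgroupCongr hfrange)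
  refine ⟨χ, p.comp e.symm.toMonoidHom, hpinj.comp e.symm.injective, ?_, fun n hn => ?_⟩
  · rw [← hprange]
    ext g
    constructor
    · rintro ⟨a, rfl⟩; exact ⟨_, rfl⟩
    · rintro ⟨a, rfl⟩; exact ⟨e a, by simp⟩
  · have hk : pb.κ n ∈ K := hκK hn
    have h : κP n ∈ CS := hfrange ▸ ⟨⟨_, hk⟩, rfl⟩
    refine ⟨h, ?_⟩
    have he : e ⟨_, hk⟩ = ⟨κP n, h⟩ := Subtype.ext rfl
    rw [← he]
    simp [p, hpκ]

end Cfsg.Lib.Extra.SuzUnique
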