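import Cfsg.Agent.Lib.Extra.SuzUnique.PermData.Data
import Cfsg.Agent.Lib.Extra.SuzUnique.Center
import Cfsg.Agent.Lib.CosetEnum.BaseFix

/-!
# The checks on the permutations of 1782 points

The first table holds the letters, which are involutions; the second holds `z`, the six basis
elements of the extraspecial subgroup and the three generators.
-/

set_option autoImplicit false
set_option maxRecDepth 20000

namespace Cfsg.Lib.Extra.SuzUnique

open Cfsg.Lib.CosetEnum

/-- The columns of a code. -/
def cw (n : ℕ) : List ℕ := ((List.range 7).filter fun i => Nat.beq (bit2 n i) 1)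

/-- The equations between the columns. -/
def colEqs : List (List ℕ × List ℕ) :=
  [([0, 0], [])] ++
  ((List.range 9).map fun j => ([0, j + 1], [j + 1, 0])) ++
  ((List.range 6).map fun i => ([i + 1, i + 1], cw (qV (2 ^ i)))) ++
  ((List.range 6).flatMap fun j => (List.range j).map fun i =>
    ([j + 1, i + 1], cw (bV (2 ^ j) (2 ^ i)) ++ [i + 1, j + 1])) ++
  ((List.range 3).flatMap fun i => gens7.map fun g =>
    ((7 + i) :: cw g, cw ((siegel i).app g) ++ [7 + i])) ++
  ((List.range 3).map fun i => ([7 + i, 7 + i], cw (siegel i).sq)) ++
  relC.map fun r => (r.1.map (7 + ·), cw r.2)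

/-- The equations, as reversed words. -/
def colEqsRev : List (List ℕ × List ℕ) := colEqs.map fun e => (e.1.reverse, e.2.reverse)

/-- The definitions of the columns, reversed. -/
def colDefs : List (ℕ × List ℕ) :=
  (List.range 10).map fun j => (j, (PermData.colWords.getD j []).reverse)

/-- The words of the letters in the columns, reversed. -/
def letterDefs : List (ℕ × List ℕ) :=
  (List.range 10).map fun j =>
    (j, (cw (PermData.letterExpr.getD j (0, [])).1 ++
      (PermData.letterExpr.getD j (0, [])).2.map (7 + ·)).reverse)

/-- The checks at a range of points. -/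
noncomputable def sideOK : Nat → Nat → Bool
  | 0, _ => true
  | m + 1, i => force i fun i =>
      (colEqsRev.all fun e =>
        Nat.beq (twalk PermData.tabE 10 e.1 i) (twalk PermData.tabE 10 e.2 i)) &&
      (colDefs.all fun d => Nat.beq (twalk PermData.tabL 11 d.2 i) (img PermData.tabE 10 d.1 i)) &&
      (letterDefs.all fun d =>
        Nat.beq (twalk PermData.tabE 10 d.2 i) (img PermData.tabL 11 d.1 i)) &&
      sideOK m (i + 1)

theorem side0 : sideOK 300 0 = true := by decide +kernel
theorem side1 : sideOK 300 300 = true := by decide +kernel
theorem side2 : sideOK 300 600 = true := by decide +kernel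
theorem side3 : sideOK 300 900 = true := by decide +kernel
theorem side4 : sideOK 300 1200 = true := by decide +kernel
theorem side5 : sideOK 282 1500 = true := by decide +kernel

theorem lperm_ok : permOK PermData.tabL 11 1782 [] 1782 0 = true := by decide +kernel

theorem base_ok : BaseOK PermData.tabL 11 1782 PermData.levels := by
  refine ⟨?_, ?_, ?_, ?_, ?_, ?_, ?_, ?_, ?_, ?_, trivial⟩ <;> decide +kernel

theorem base_size : baseSize PermData.levels = 3317760 := by decide +kernel

end Cfsg.Lib.Extra.SuzUnique
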