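import Cfsg.Agent.Lib.Extra.SuzUnique.TriCases
import Cfsg.Agent.Lib.Extra.SuzUnique.Count
import Cfsg.Agent.Lib.Extra.SuzLocal.Outer

/-!
# The triangle

Four conjugates of `z` centralizing an involution outside the class, with the relations of the end
of the diagram, satisfy `(g b)^3 = 1`: modulo the four-group the centralizer is `PSL(3, 4)`, whose
element orders are at most seven, and a central involution in a dihedral product is excluded.
-/

set_option autoImplicit false
set_option linter.unusedSectionVars false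
set_option linter.style.haveILetI false

namespace Cfsg.Lib.Extra.SuzUnique

open Cfsg Cfsg.Lib.CosetEnum Cfsg.Lib.Extra.Wide Cfsg.Lib.Extra.SuzLocal

universe u

variable {G : Type u} [Group G] [Finite G] {ι : Type} [Fintype ι] [DecidableEq ι] {D : Data G ι}

theorem psl34_order {F : Type} [Field F] [Fintype F] (hF : Fintype.card F = 4)
    (h : Matrix.ProjectiveSpecialLinearGroup (Fin 3) F) : orderOf h ∈ [1, 2, 3, 4, 5, 7] := by
  haveI : Fact (Nat.Prime 2) := ⟨Nat.prime_two⟩
  haveI : CharP F 2 := charP_of_card_eq_prime_pow (R := F) (p := 2) (f := 2) (by simpa using hF)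
  have hk : orderOf h ∈ Set.range (orderOf : Matrix.ProjectiveSpecialLinearGroup (Fin 3) F → ℕ) :=
    ⟨h, rfl⟩
  rw [Cfsg.Agent.S2476.result 2, hF] at hk
  norm_num at hk
  rcases hk with e | e | e | e | e <;> have hle := Nat.le_of_dvd (by norm_num) e <;>
    interval_cases hn : orderOf h <;> simp_all

/-- The triangle relation. -/
theorem triangle (M : Model D) {y : ℕ → G} (hy : ∀ g, y g * y g = 1)
    (hrel : ∀ r ∈ triBase, wordVal y r = 1) (hcl : ∀ i < 4, D.Cl (y i)) {x0 : G}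
    (h2 : x0 * x0 = 1) (h1 : x0 ≠ 1) (hn : ¬ D.Cl x0) (hc : ∀ i < 4, Commute (y i) x0)
    (hne : y 0 ≠ y 1) : (y 3 * y 1) ^ 3 = 1 := by
  obtain ⟨x, x', h, t, q1, q2, y1, y2, v, u, r1, r2, K⟩ := exists_cfg M.six
  obtain ⟨g, hgz, hgx⟩ := to_pair K.coord.six K.fr (hcl 1 (by norm_num)) h2 h1 hn
    (hc 1 (by norm_num))
  let c : G →* G := (MulAut.conj g).toMonoidHom
  have hcap : ∀ a, c a = g * a * g⁻¹ := fun a => rfl
  have hmem : ∀ i < 4, c (y i) ∈ K.Kgrp := fun i hi => by
    refine K.cl_K ((hcl i hi).conj D g) ?_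
    rw [hcap, ← hgx]
    exact (Commute.conj_iff g).2 (hc i hi)
  let w : ℕ → ↥K.Kgrp := fun i => if hi : i < 4 then ⟨c (y i), hmem i hi⟩ else 1
  have hw : ∀ i < 4, (w i : G) = c (y i) := fun i hi => by simp [w, hi]
  have hwsq : ∀ i, w i * w i = 1 := fun i => by
    by_cases hi : i < 4
    · exact Subtype.ext (by rw [Subgroup.coe_mul, hw i hi, ← map_mul, hy, map_one]; rfl)
    · simp [w, hi]
  have hwval : ∀ r : List ℕ, (∀ i ∈ r, i < 4) → ((wordVal w r : ↥K.Kgrp) : G) = c (wordVal y r) := by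
    intro r
    induction r with
    | nil => intro _; exact (map_one c).symm
    | cons i r ih =>
      intro hr
      have hi := hr i List.mem_cons_self
      rw [wordVal, wordVal, map_mul, Subgroup.coe_mul, ih fun a ha => hr a (List.mem_cons_of_mem _ ha),
        gen, gen, if_neg (by simp [eps]; omega), if_neg (by simp [eps]; omega), hw i hi]
  have hlt : ∀ r ∈ triBase, ∀ i ∈ r, i < 4 := by decide +kernel
  have hwrel : ∀ r ∈ triBase, wordVal w r = 1 := fun r hr => Subtype.ext (by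
    rw [hwval r (hlt r hr), hrel r hr, map_one]; rfl)
  have hzb : (w 1 : G) = D.z := by rw [hw 1 (by norm_num), hcap, hgz]
  have hVsq : ∀ {a : G}, K.InV a → a * a = 1 := by
    rintro a (rfl | rfl | rfl | rfl)
    exacts [one_mul 1, K.x_sq, K.x'_sq, by
      rw [K.xx'.symm.mul_mul_mul_comm, K.x_sq, K.x'_sq, one_mul]]
  obtain ⟨F, i1, i2, hF, ⟨e⟩⟩ := K.lthree
  have ho : ∀ q : K.Lq, orderOf q ∈ [1, 2, 3, 4, 5, 7] := fun q => by
    rw [← MulEquiv.orderOf_eq e q]
    exact psl34_order hF _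
  have hneL : K.Lmk (w 0) ≠ K.Lmk (w 1) := by
    intro heq
    have hV : K.InV ((w 0 : G)⁻¹ * w 1) := (K.lmk_eq (w 0).2 (w 1).2).1 heq
    rw [inv_eq_of_mul_eq_one_right (a := (w 0 : G)) (by
      rw [← Subgroup.coe_mul, hwsq]; rfl)] at hV
    have h5 : (w 0 * w 1) ^ 5 = 1 := by
      have := hwrel _ (show ([0, 1, 0, 1, 0, 1, 0, 1, 0, 1] : List ℕ) ∈ triBase by decide)
      rw [show ([0, 1, 0, 1, 0, 1, 0, 1, 0, 1] : List ℕ) = (List.replicate 5 [0, 1]).flatten from rfl,
        wordVal_replicate w 1 0 (by decide) (by decide)] at this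
      have e' : w 0 * w 1 = (w 1 * w 0)⁻¹ := by
        rw [mul_inv_rev, inv_eq_of_mul_eq_one_right (hwsq 0), inv_eq_of_mul_eq_one_right (hwsq 1)]
      rw [e', inv_pow, this, inv_one]
    have h22 : (w 0 * w 1) ^ 2 = 1 := Subtype.ext (by
      rw [pow_two, Subgroup.coe_mul, Subgroup.coe_mul, hVsq hV]; rfl)
    have he : w 0 * w 1 = 1 := by
      rw [← pow_one (w 0 * w 1), show (1 : ℕ) = Nat.gcd 5 2 by norm_num]
      exact pow_gcd_eq_one.2 ⟨h5, h22⟩
    rw [mul_eq_one_iff_eq_inv, inv_eq_of_mul_eq_one_right (hwsq 1)] at he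
    exact hne ((MulAut.conj g).injective (by
      have := congrArg Subtype.val he
      rwa [hw 0 (by norm_num), hw 1 (by norm_num)] at this))
  have h3 := tri_quot (y := fun i => K.Lmk (w i)) (fun i => by rw [← map_mul, hwsq, map_one])
    (fun r hr => by rw [← map_wordVal, hwrel r hr, map_one]) ho hneL
  rw [← map_mul, ← map_pow, K.lmk_one] at h3
  have hv : K.InV ((c (y 3) * c (y 1)) ^ 3) := by
    rwa [Subgroup.coe_pow, Subgroup.coe_mul, hw 3 (by norm_num), hw 1 (by norm_num)] at h3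
  have hsq1 : c (y 1) * c (y 1) = 1 := by rw [← map_mul, hy, map_one]
  have hsq3 : c (y 3) * c (y 3) = 1 := by rw [← map_mul, hy, map_one]
  have hcl3 : D.Cl ((c (y 3) * c (y 1)) ^ 3 * D.z) := by
    have e1 : D.z = c (y 1) := by rw [← hzb, hw 1 (by norm_num)]
    rw [e1]
    have hd := (((hcl 3 (by norm_num)).conj D g).conj D (c (y 3) * c (y 1)))
    convert hd using 1
    rw [← hcap, mul_inv_rev, inv_eq_of_mul_eq_one_right hsq1, inv_eq_of_mul_eq_one_right hsq3]
    simp only [pow_succ, pow_zero, one_mul, mul_assoc, hsq1, mul_one]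
  suffices hone : (c (y 3) * c (y 1)) ^ 3 = 1 by
    rw [← map_mul, ← map_pow, ← map_one c] at hone
    exact (MulAut.conj g).injective hone
  obtain ⟨n1, n2, n3⟩ := K.ax_not_cl (Or.inr (Or.inl rfl) : D.InA t D.z)
  rcases hv with e1 | e1 | e1 | e1 <;> rw [e1] at hcl3 ⊢
  · exact absurd (by rwa [← K.xz.eq] : D.Cl (D.z * x)) n1
  · exact absurd (by rwa [← K.x'z.eq] : D.Cl (D.z * x')) n2
  · exact absurd (by rwa [← (K.xz.mul_left K.x'z).eq] : D.Cl (D.z * (x * x'))) n3

end Cfsg.Lib.Extra.SuzUnique
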