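import Cfsg.Agent.Lib.Extra.SuzUnique.Bases
import Cfsg.Agent.Lib.Extra.SuzUnique.Triangle
import Cfsg.Agent.Lib.Extra.SuzUnique.ConjData
import Cfsg.Agent.Lib.Extra.SuzUnique.RelData.Commute

/-!
# The seven generators and their relations
-/

set_option autoImplicit false
set_option maxRecDepth 20000
set_option linter.unusedSectionVars false
set_option linter.style.haveILetI false

namespace Cfsg.Lib.Extra.SuzUnique

open Cfsg Cfsg.Lib.CosetEnum Cfsg.Lib.Extra.Wide Cfsg.Lib.Extra.SuzLocal

universe u

/-- The seven generators as words in the letters. -/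
def genWords : List (List Nat) :=
  [[4],
    [4, 5, 8, 2, 4, 8, 0, 10, 1, 8, 2, 3, 4, 9, 8, 0, 4],
    [5],
    [1, 0, 8, 4, 2, 8, 4, 2, 9, 5, 8, 10, 0, 2, 0, 2, 3, 8, 4, 9, 6, 10, 0, 7, 8, 6, 0, 1, 2, 4, 8, 6, 2],
    [6],
    [7],
    [6, 8, 4, 5, 0, 1, 8, 4, 6, 10, 4, 6, 8, 2, 4, 8, 9, 0, 2, 10, 1, 8, 4, 6, 2, 1, 5, 8, 1]]

/-- The generators, their reversed words and two further elements. -/
def altWords : List (List Nat) :=
  genWords ++ genWords.map List.reverse ++ [[9], [0, 4, 0]]

/-- The relations, one for each position in `RelData.localAt`. -/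
def relSpec : List (List Nat) :=
  [[0, 0],
    [1, 1],
    [2, 2],
    [3, 3],
    [4, 4],
    [5, 5],
    [6, 6],
    [0, 1, 0, 1, 0, 1, 0, 1, 0, 1],
    [0, 2, 0, 2],
    [0, 3, 0, 3],
    [0, 4, 0, 4],
    [0, 5, 0, 5],
    [0, 6, 0, 6],
    [1, 2, 1, 2, 1, 2],
    [1, 4, 1, 4],
    [1, 5, 1, 5, 1, 5],
    [2, 3, 2, 3, 2, 3, 2, 3, 2, 3, 2, 3, 2, 3, 2, 3],
    [2, 4, 2, 4],
    [2, 5, 2, 5],
    [2, 6, 2, 6],
    [3, 4, 3, 4, 3, 4],
    [3, 5, 3, 5],
    [3, 6, 3, 6],
    [4, 5, 4, 5],
    [4, 6, 4, 6],
    [5, 6, 5, 6, 5, 6, 5, 6],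
    [0, 10, 9, 10, 9, 10, 9, 10, 9],
    [0, 13, 12, 13, 12],
    [0, 1, 2, 5, 0, 1, 2, 5, 0, 1, 2, 5, 0, 1, 2, 5, 0, 1, 2, 5],
    [0, 1, 0, 1, 0, 5, 1, 6, 0, 1, 0, 1, 0, 5, 1, 6],
    [6, 14, 6, 14, 6, 14, 6, 14, 6, 14],
    [6, 15, 6, 15, 6, 15]]

/-- Substitute words for symbols. -/
def flatOf (ws : List (List Nat)) (w : List Nat) : List Nat := w.flatMap fun g => ws.getD g []

/-- The listed relations are the derived ones. -/
noncomputable def specOK : Bool :=
  let recs := RelData.localRecs.map Rec.word
  (relSpec.zip RelData.localAt).all fun p =>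
    beqW (redW (flatOf altWords p.1)) (recs.getD p.2 []) && p.1.all fun g => Nat.blt g 16

theorem spec_checks : specOK = true := by decide +kernel

theorem spec_at : relSpec.length = RelData.localAt.length := by decide +kernel

theorem hexagon_word :
    beqW (redW (flatOf altWords [1, 6, 1, 6, 1, 6])) (redW RelData.hexagon) = true := by
  decide +kernel

theorem commute_word : beqW (redW (flatOf altWords [1, 3, 1, 3]))
    (redW ((RelData.commuteRecs.map Rec.word).getD RelData.commuteAt [])) = true := by decide +kernel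

theorem commute_checks :
    recsOK [RelData.line, RelData.pentA, RelData.hexagon, RelData.pentB, RelData.quad]
      RelData.commuteRecs [] = true := by decide +kernel

/-- Relations known before the triangle. -/
def localRels : List (List Nat) := (relSpec.take 30).map fun w => w.map (· % 7)

/-- The relations of the seven generators. -/
def allRels : List (List Nat) := localRels ++ [[1, 6, 1, 6, 1, 6], [1, 3, 1, 3]]

/-- The numbering of the four involutions of the triangle. -/
def triMap (i : Nat) : Nat := [0, 1, 5, 6].getD i 0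

theorem tri_shifts : shiftsOK localRels (triBase.map fun w => w.map triMap) = true := by decide +kernel

/-- The key of a word: its images of the five base points. -/
noncomputable def keyW (w : List Nat) : Nat :=
  basePts5.foldl (fun acc p => acc * 1782 + twalk PermData.tabL 11 w p) 0

/-- The conjugate of the seventh letter. -/
def conjW (u : List Nat) : List Nat := u ++ [6] ++ u.reverse

/-- The keys increase. -/
noncomputable def incOK : List (List Nat) → Nat → Bool
  | [], _ => true
  | u :: l, prev =>
    force (keyW (conjW u) + 1) fun k => inC u && Nat.blt prev k && incOK l k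

theorem conj_checks : incOK TriData.conjs 0 = true := by decide +kernel

theorem conj_length : TriData.conjs.length = 416 := by decide +kernel

theorem incOK_spec : ∀ {l : List (List ℕ)} {prev : ℕ}, incOK l prev = true →
    (∀ u ∈ l, inC u = true ∧ prev < keyW (conjW u) + 1) ∧
      (l.map fun u => keyW (conjW u)).Nodup
  | [], prev, _ => ⟨by simp, List.nodup_nil⟩
  | u :: l, prev, h => by
    rw [incOK, force_eq] at h
    simp only [Bool.and_eq_true, Nat.blt_eq] at h
    obtain ⟨⟨hu, hlt⟩, hrest⟩ := h
    obtain ⟨h1, h2⟩ := incOK_spec hrest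
    refine ⟨fun v hv => ?_, ?_⟩
    · rcases List.mem_cons.1 hv with rfl | hv
      · exact ⟨hu, hlt⟩
      · exact ⟨(h1 v hv).1, lt_trans hlt (h1 v hv).2⟩
    · rw [List.map_cons, List.nodup_cons]
      refine ⟨fun hm => ?_, h2⟩
      obtain ⟨v, hv, e⟩ := List.mem_map.1 hm
      have := (h1 v hv).2
      rw [e] at this
      exact lt_irrefl _ this

theorem wordVal_flatOf {H : Type*} [Group H] (x : ℕ → H) (ws : List (List ℕ)) :
    ∀ {w : List ℕ}, (∀ g ∈ w, g < eps) →
      wordVal x (flatOf ws w) = wordVal (fun i => wordVal x (ws.getD i [])) w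
  | [], _ => rfl
  | g :: w, h => by
    rw [flatOf, List.flatMap_cons, wordVal_append, wordVal]
    have ih := wordVal_flatOf x ws (w := w) fun a ha => h a (List.mem_cons_of_mem _ ha)
    rw [flatOf] at ih
    rw [ih, gen, if_neg (Nat.ne_of_lt (h g List.mem_cons_self))]

theorem wordVal_map {H : Type*} [Group H] (x : ℕ → H) (σ : ℕ → ℕ) :
    ∀ {w : List ℕ}, (∀ g ∈ w, g < eps ∧ σ g < eps) →
      wordVal x (w.map σ) = wordVal (fun i => x (σ i)) w
  | [], _ => rfl
  | g :: w, h => by
    obtain ⟨h1, h2⟩ := h g List.mem_cons_self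
    rw [List.map_cons, wordVal, wordVal, wordVal_map x σ fun a ha => h a (List.mem_cons_of_mem _ ha),
      gen, gen, if_neg (Nat.ne_of_lt h1), if_neg (Nat.ne_of_lt h2)]

theorem wordVal_congr {H : Type*} [Group H] {x y : ℕ → H} :
    ∀ {w : List ℕ}, (∀ g ∈ w, x g = y g) → wordVal x w = wordVal y w
  | [], _ => rfl
  | g :: w, h => by
    rw [wordVal, wordVal, wordVal_congr fun a ha => h a (List.mem_cons_of_mem _ ha), gen, gen,
      h g List.mem_cons_self]

variable {G : Type u} [Group G] [Finite G] {ι : Type} [Fintype ι] [DecidableEq ι] {D : Data G ι}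
  {χ : Chart D}

/-- The seven generators in `G`. -/
noncomputable def LIso.sevenGens (I : LIso χ) (r : G) (i : ℕ) : G :=
  wordVal (I.lG r) (genWords.getD i [])

variable (M : Model D) {I : LIso χ} {r : G} (S : SwapElt I r)

include M S

/-- A listed relation. -/
theorem spec_valid {w : List ℕ} (hw : w ∈ relSpec) :
    wordVal (fun i => wordVal (I.lG r) (altWords.getD i [])) w = 1 := by
  obtain ⟨i, hi, rfl⟩ := List.getElem_of_mem hw
  have hi' : i < RelData.localAt.length := spec_at ▸ hi
  have h := List.all_eq_true.1 spec_checks (relSpec[i], RelData.localAt[i])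
    (List.mem_iff_getElem.2 ⟨i, by simp [spec_at, hi'], List.getElem_zip⟩)
  simp only [Bool.and_eq_true, List.all_eq_true, Nat.blt_eq] at h
  have e : wordVal (I.lG r) (flatOf altWords relSpec[i]) = 1 := by
    rw [← wordVal_redW S.lG_sq, beqW_eq h.1]
    exact local_valid M S _
  refine Eq.trans ?_ e
  exact (wordVal_flatOf (I.lG r) altWords (w := relSpec[i])
    (fun g hg => lt_trans (h.2 g hg) (by decide))).symm

theorem seven_sq (i : ℕ) : I.sevenGens r i * I.sevenGens r i = 1 := by
  rcases lt_or_ge i 7 with hi | hi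
  · have hmem : [i, i] ∈ relSpec ∧ altWords.getD i [] = genWords.getD i [] := by
      revert hi; revert i; decide +kernel
    have h := spec_valid M S hmem.1
    simp only [wordVal, gen, one_mul, if_neg (show i ≠ eps by simp [eps]; omega), hmem.2] at h
    exact h
  · rw [LIso.sevenGens, List.getD_eq_default _ _ (by exact hi)]
    exact one_mul 1

theorem alt_value : ∀ i < 14, wordVal (I.lG r) (altWords.getD i []) = I.sevenGens r (i % 7) := by
  intro i hi
  have hc : altWords.getD i [] = genWords.getD (i % 7) [] ∨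
      altWords.getD i [] = (genWords.getD (i % 7) []).reverse := by
    revert hi; revert i; decide +kernel
  rcases hc with e | e <;> rw [e]
  · rfl
  · rw [wordVal_reverse S.lG_sq]
    exact inv_eq_of_mul_eq_one_right (seven_sq M S _)

theorem localRels_valid : ∀ w ∈ localRels, wordVal (I.sevenGens r) w = 1 := by
  intro w hw
  obtain ⟨v, hv, rfl⟩ := List.mem_map.1 hw
  have hlt : ∀ g ∈ v, g < 14 := (show ∀ v ∈ relSpec.take 30, ∀ g ∈ v, g < 14 by decide +kernel) v hv
  rw [wordVal_map _ _ (fun g hg => by have := hlt g hg; simp [eps]; omega),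
    ← spec_valid M S (List.mem_of_mem_take hv)]
  exact wordVal_congr fun g hg => (alt_value M S g (hlt g hg)).symm

theorem seven_single {i l : ℕ} (h : genWords.getD i [] = [l]) (hl : l < 10) :
    I.sevenGens r i = I.ρ (lC l) := by
  rw [LIso.sevenGens, h]
  simp [wordVal, gen, eps, show l ≠ 31 by omega, LIso.lG, hl]

theorem seven_rel {a b m : ℕ} (ha : a < eps) (hb : b < eps)
    (h : (List.replicate m [b, a]).flatten ∈ localRels) :
    (I.sevenGens r a * I.sevenGens r b) ^ m = 1 := by
  rw [← wordVal_replicate _ a b (Nat.ne_of_lt ha) (Nat.ne_of_lt hb)]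
  exact localRels_valid M S _ h

/-- The four involutions of the triangle are conjugates of `z`. -/
theorem tri_cl : ∀ i < 4, D.Cl (I.sevenGens r (triMap i)) := by
  have hn : D.Cl (wordVal (I.lG r) (altWords.getD 14 [])) := by
    have e : wordVal (I.lG r) (altWords.getD 14 []) = χ.κ 4 := by
      rw [show altWords.getD 14 [] = [9] by decide +kernel]
      simp only [wordVal, gen, eps, one_mul, if_neg (show (9 : ℕ) ≠ 31 by norm_num)]
      rw [LIso.lG, if_pos (by norm_num)]
      exact I.ρ_code (n := 4) (by norm_num) _ (by rw [lC, dif_pos (by norm_num)]; exact lP_nine)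
    rw [e]
    exact (χ.point (al := 4) (by norm_num) (by norm_num) (by decide +kernel)).cl
  have hpair : ∀ {a b : ℕ}, a < eps → b < eps → ∀ m,
      (List.replicate m [b, a]).flatten ∈ relSpec →
      (wordVal (I.lG r) (altWords.getD a []) * wordVal (I.lG r) (altWords.getD b [])) ^ m = 1 := by
    intro a b ha hb m h
    rw [← wordVal_replicate (fun i => wordVal (I.lG r) (altWords.getD i [])) a b (Nat.ne_of_lt ha)
      (Nat.ne_of_lt hb)]
    exact spec_valid M S h
  have hsq14 := hn.sq D
  have h6 : wordVal (I.lG r) (altWords.getD 6 []) = I.sevenGens r 6 := alt_value M S 6 (by norm_num)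
  have hg : D.Cl (I.sevenGens r 6) := by
    obtain ⟨k, hk⟩ := conj_of_odd hsq14 (seven_sq M S 6) (n := 5) (by decide)
      (by rw [← h6]; exact hpair (by decide) (by decide) 5 (by decide +kernel))
    exact hk ▸ hn.conj D k
  have ha : D.Cl (I.sevenGens r 0) := by
    have e : wordVal (I.lG r) (altWords.getD 15 []) =
        I.lG r 0 * I.sevenGens r 0 * (I.lG r 0)⁻¹ := by
      rw [show altWords.getD 15 [] = [0] ++ genWords.getD 0 [] ++ [0] by decide +kernel,
        wordVal_append, wordVal_append, inv_eq_of_mul_eq_one_right (S.lG_sq 0)]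
      simp [wordVal, gen, eps, LIso.sevenGens, mul_assoc]
    have hp : (wordVal (I.lG r) (altWords.getD 15 []) * wordVal (I.lG r) (altWords.getD 6 [])) ^ 3 = 1 :=
      hpair (by decide) (by decide) 3 (by decide +kernel)
    have hsq15 : wordVal (I.lG r) (altWords.getD 15 []) * wordVal (I.lG r) (altWords.getD 15 []) = 1 := by
      rw [e, conj_mul, seven_sq M S 0, mul_one, mul_inv_cancel]
    rw [h6] at hp
    have hp' : (I.sevenGens r 6 * wordVal (I.lG r) (altWords.getD 15 [])) ^ 3 = 1 := by
      rw [show I.sevenGens r 6 * wordVal (I.lG r) (altWords.getD 15 []) =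
        (wordVal (I.lG r) (altWords.getD 15 []) * I.sevenGens r 6)⁻¹ by
          rw [mul_inv_rev, inv_eq_of_mul_eq_one_right hsq15,
            inv_eq_of_mul_eq_one_right (seven_sq M S 6)], inv_pow, hp, inv_one]
    obtain ⟨k, hk⟩ := conj_of_odd (seven_sq M S 6) hsq15 (n := 3) (by decide) hp'
    have h1 := (hk ▸ hg.conj D k : D.Cl (wordVal (I.lG r) (altWords.getD 15 []))).conj D (I.lG r 0)⁻¹
    rw [e] at h1
    simpa [mul_assoc] using h1
  have hb : D.Cl (I.sevenGens r 1) := by
    obtain ⟨k, hk⟩ := conj_of_odd (seven_sq M S 0) (seven_sq M S 1) (n := 5) (by decide) (by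
      have := seven_rel M S (a := 1) (b := 0) (m := 5) (by decide) (by decide) (by decide +kernel)
      rw [show I.sevenGens r 0 * I.sevenGens r 1 = (I.sevenGens r 1 * I.sevenGens r 0)⁻¹ by
        rw [mul_inv_rev, inv_eq_of_mul_eq_one_right (seven_sq M S 0),
          inv_eq_of_mul_eq_one_right (seven_sq M S 1)], inv_pow, this, inv_one])
    exact hk ▸ ha.conj D k
  have hf : D.Cl (I.sevenGens r 5) := by
    obtain ⟨k, hk⟩ := conj_of_odd (seven_sq M S 1) (seven_sq M S 5) (n := 3) (by decide) (by
      have := seven_rel M S (a := 5) (b := 1) (m := 3) (by decide) (by decide) (by decide +kernel)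
      rw [show I.sevenGens r 1 * I.sevenGens r 5 = (I.sevenGens r 5 * I.sevenGens r 1)⁻¹ by
        rw [mul_inv_rev, inv_eq_of_mul_eq_one_right (seven_sq M S 1),
          inv_eq_of_mul_eq_one_right (seven_sq M S 5)], inv_pow, this, inv_one])
    exact hk ▸ hb.conj D k
  intro i hi
  interval_cases i
  exacts [ha, hb, hf, hg]

/-- The letter of `e` is not conjugate to `z`. -/
theorem e_not_cl : ¬ D.Cl (I.sevenGens r 4) := by
  classical
  intro hcl
  obtain ⟨hspec, hnd⟩ := incOK_spec conj_checks
  have hinC : ∀ u ∈ TriData.conjs, inC (conjW u) = true := fun u hu =>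
    inC_append (inC_append (hspec u hu).1 (by decide)) (inC_rev (hspec u hu).1)
  have h6 : I.sevenGens r 4 = I.lG r 6 := by
    simp [LIso.sevenGens, genWords, wordVal, gen, eps]
  let f : Fin TriData.conjs.length → {p : G // D.Cl p ∧ Commute p D.z} := fun i =>
    ⟨wordVal (I.lG r) (conjW TriData.conjs[i.1]), by
      constructor
      · have e : wordVal (I.lG r) (conjW TriData.conjs[i.1]) =
            (wordVal (I.lG r) TriData.conjs[i.1])⁻¹ * I.lG r 6 * wordVal (I.lG r) TriData.conjs[i.1] := by
          rw [conjW, wordVal_append, wordVal_append, wordVal_reverse S.lG_sq]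
          simp [wordVal, gen, eps, mul_assoc]
        rw [e]
        have := (h6 ▸ hcl).conj D (wordVal (I.lG r) TriData.conjs[i.1])⁻¹
        rwa [inv_inv] at this
      · have hm : wordVal (I.lG r) (conjW TriData.conjs[i.1]) ∈ I.ρ.range := by
          rw [lG_val (hinC _ (List.getElem_mem i.2))]
          exact ⟨_, rfl⟩
        rw [I.range_eq, Subgroup.mem_centralizer_singleton_iff] at hm
        exact hm⟩
  have hf : Function.Injective f := by
    intro i j hij
    have e := congrArg Subtype.val hij
    simp only [f] at e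
    have hi := hinC _ (List.getElem_mem i.2)
    have hj := hinC _ (List.getElem_mem j.2)
    rw [lG_val hi, lG_val hj] at e
    have e' := congrArg Subtype.val (I.inj e)
    rw [lC_val hi, lC_val hj] at e'
    have hkey : ∀ (a b : List ℕ), inC a = true → inC b = true → wordVal lP a = wordVal lP b →
        keyW a = keyW b := by
      intro a b ha hb hab
      have hv : ∀ (c : List ℕ), inC c = true → ∀ p : Fin 1782,
          (wordVal lP c p).1 = twalk PermData.tabL 11 c p.1 := fun c hc p => by
        show (wordVal (tperm PermData.tabL 11 1782) c p).1 = _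
        exact wordVal_tperm lperm_ok (by decide) c (fun g hg => by
          have := List.all_eq_true.1 hc g hg; rw [Nat.blt_eq] at this; omega) p
      simp only [keyW, basePts5, List.foldl_cons, List.foldl_nil]
      rw [← hv a ha ⟨0, by norm_num⟩, ← hv a ha ⟨2, by norm_num⟩, ← hv a ha ⟨15, by norm_num⟩,
        ← hv a ha ⟨6, by norm_num⟩, ← hv a ha ⟨46, by norm_num⟩, ← hv b hb ⟨0, by norm_num⟩,
        ← hv b hb ⟨2, by norm_num⟩, ← hv b hb ⟨15, by norm_num⟩, ← hv b hb ⟨6, by norm_num⟩,
        ← hv b hb ⟨46, by norm_num⟩, hab]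
    have hk := hkey _ _ hi hj e'
    exact Fin.ext ((hnd.getElem_inj_iff (i := i.1) (hi := by simp) (j := j.1) (hj := by simp)).1
      (by simpa using hk))
  have h := Nat.card_le_card_of_injective f hf
  rw [Nat.card_fin, card_cl_cz M, conj_length] at h
  omega

theorem seven_ne {i j l l' : ℕ} (hi : genWords.getD i [] = [l]) (hj : genWords.getD j [] = [l'])
    (hl : l < 10) (hl' : l' < 10) (hne : lP l ≠ lP l') : I.sevenGens r i ≠ I.sevenGens r j := by
  rw [seven_single M S hi hl, seven_single M S hj hl']
  intro e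
  apply hne
  have := congrArg Subtype.val (I.inj e)
  simpa [lC, dif_pos hl, dif_pos hl'] using this

theorem img_differ : img PermData.tabL 11 4 0 ≠ img PermData.tabL 11 7 0 ∨
    img PermData.tabL 11 4 1 ≠ img PermData.tabL 11 7 1 ∨
    img PermData.tabL 11 4 2 ≠ img PermData.tabL 11 7 2 := by decide +kernel

theorem a_ne_f : I.sevenGens r 0 ≠ I.sevenGens r 5 := by
  refine seven_ne M S (l := 4) (l' := 7) rfl rfl (by norm_num) (by norm_num) fun e => ?_
  have h : ∀ p : Fin 1782, img PermData.tabL 11 4 p.1 = img PermData.tabL 11 7 p.1 := fun p => by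
    rw [← lP_apply (by norm_num), ← lP_apply (by norm_num), e]
  rcases img_differ M S with h' | h' | h'
  exacts [h' (h ⟨0, by norm_num⟩), h' (h ⟨1, by norm_num⟩), h' (h ⟨2, by norm_num⟩)]

theorem triangle_valid : wordVal (I.sevenGens r) [1, 6, 1, 6, 1, 6] = 1 := by
  have hsq := seven_sq (I := I) (r := r) M S
  set X := I.sevenGens r with hX
  have hcomm : ∀ i < 4, Commute (X (triMap i)) (X 4) := by
    intro i hi
    have hm : triMap i < eps ∧ ((List.replicate 2 [triMap i, 4]).flatten ∈ localRels ∨
        (List.replicate 2 [4, triMap i]).flatten ∈ localRels) := by revert hi; revert i; decide +kernel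
    rcases hm.2 with h | h
    · exact (commute_of_mul_sq (hsq 4) (hsq _) (seven_rel M S (by decide) hm.1 h)).symm
    · exact commute_of_mul_sq (hsq _) (hsq 4) (seven_rel M S hm.1 (by decide) h)
  have hrel : ∀ w ∈ triBase, wordVal (fun i => X (triMap i)) w = 1 := by
    intro w hw
    rw [← wordVal_map X triMap (fun g hg => ?_)]
    · exact shift_eq_one hsq tri_shifts (localRels_valid M S) _ (List.mem_map_of_mem hw)
    · exact (show ∀ w ∈ triBase, ∀ g ∈ w, g < eps ∧ triMap g < eps by decide +kernel) w hw g hg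
  have hne : X 0 ≠ X 1 := by
    intro e
    have h2 := seven_rel M S (a := 5) (b := 0) (m := 2) (by decide) (by decide) (by decide +kernel)
    have h3 := seven_rel M S (a := 5) (b := 1) (m := 3) (by decide) (by decide) (by decide +kernel)
    rw [← hX, ← e] at h3
    rw [← hX] at h2
    have h1 : X 5 * X 0 = 1 := by
      rw [← pow_one (X 5 * X 0), show (1 : ℕ) = Nat.gcd 2 3 by norm_num]
      exact pow_gcd_eq_one.2 ⟨h2, h3⟩
    rw [mul_eq_one_iff_eq_inv, inv_eq_of_mul_eq_one_right (hsq 0)] at h1
    exact a_ne_f M S h1.symm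
  have hne1 : X 4 ≠ 1 := by
    intro e
    have h := seven_single M S (i := 4) (l := 6) rfl (by norm_num)
    rw [← hX, e, ← map_one I.ρ] at h
    have e' := congrArg Subtype.val (I.inj h)
    simp [lC] at e'
    have h' : ∀ p : Fin 1782, img PermData.tabL 11 6 p.1 = p.1 := fun p => by
      rw [← lP_apply (by norm_num), ← e']; rfl
    exact (show ¬ ((List.range 20).all fun p => Nat.beq (img PermData.tabL 11 6 p) p) = true by
      decide +kernel) (List.all_eq_true.2 fun p hp => by
        rw [Nat.beq_eq]; exact h' ⟨p, by have := List.mem_range.1 hp; omega⟩)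
  have h := triangle M (y := fun i => X (triMap i)) (fun g => hsq _) hrel (tri_cl M S)
    (hsq 4) hne1 (e_not_cl M S) hcomm hne
  have h' : (X 6 * X 1) ^ 3 = 1 := h
  rw [show ([1, 6, 1, 6, 1, 6] : List ℕ) = (List.replicate 3 [1, 6]).flatten from rfl,
    wordVal_replicate X 6 1 (by decide) (by decide), h']

theorem hexagon_valid : wordVal (I.lG r) RelData.hexagon = 1 := by
  rw [← wordVal_redW S.lG_sq, ← beqW_eq hexagon_word, wordVal_redW S.lG_sq,
    wordVal_flatOf _ _ (by decide), ← triangle_valid M S]
  exact wordVal_congr fun g hg => by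
    have := (show ∀ g ∈ [1, 6, 1, 6, 1, 6], g < 14 ∧ g % 7 = g by decide) g hg
    rw [alt_value M S g this.1, this.2]

theorem bd_valid : wordVal (I.sevenGens r) [1, 3, 1, 3] = 1 := by
  have hb : ∀ w ∈ [RelData.line, RelData.pentA, RelData.hexagon, RelData.pentB, RelData.quad],
      wordVal (I.lG r) w = 1 := by
    intro w hw
    have hB := baseB_valid M S
    simp only [baseB, baseA, List.cons_append, List.nil_append, List.mem_cons, List.not_mem_nil,
      or_false] at hB hw
    rcases hw with rfl | rfl | rfl | rfl | rfl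
    · exact hB _ (by simp)
    · exact hB _ (by simp)
    · exact hexagon_valid M S
    · exact hB _ (by simp)
    · exact hB _ (by simp)
  have h : wordVal (I.lG r) ((RelData.commuteRecs.map Rec.word).getD RelData.commuteAt []) = 1 :=
    getD_valid (fun w hw =>
      recsOK_valid M S hb (acc := []) (by simp) commute_checks w (by simpa using hw)) _
  rw [← wordVal_redW S.lG_sq, ← beqW_eq commute_word, wordVal_redW S.lG_sq,
    wordVal_flatOf _ _ (by decide)] at h
  rw [← h]
  exact wordVal_congr fun g hg => by
    have := (show ∀ g ∈ [1, 3, 1, 3], g < 14 ∧ g % 7 = g by decide) g hg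
    rw [alt_value M S g this.1, this.2]

theorem allRels_valid : ∀ w ∈ allRels, wordVal (I.sevenGens r) w = 1 := by
  intro w hw
  rcases List.mem_append.1 hw with h | h
  · exact localRels_valid M S w h
  · simp only [List.mem_cons, List.not_mem_nil, or_false] at h
    rcases h with rfl | rfl
    exacts [triangle_valid M S, bd_valid M S]

end Cfsg.Lib.Extra.SuzUnique
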