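import Cfsg.Agent.Lib.Extra.SuzUnique.Swap
import Cfsg.Agent.Lib.CosetEnum.BaseFix

/-!
# Relations among the eleven letters

A word in the ten letters of `C(z)` is a relation when it fixes the five base points, and a word
`r v r` with `v` commuting with the second involution is a word of `C(z)`. A certificate derives a
relation from known ones by these moves, free reductions, conjugations and products.
-/

set_option autoImplicit false
set_option maxRecDepth 20000
set_option linter.unusedSectionVars false

namespace Cfsg.Lib.Extra.SuzUnique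

open Cfsg Cfsg.Lib.CosetEnum Cfsg.Lib.Extra.Wide Cfsg.Lib.Extra.SuzLocal

universe u

/-- A derived relation. -/
inductive Rec
  | norm (w : List Nat) (base : Option (Nat × Nat × Bool × List Nat))
      (mv : List (Nat × Nat × List Nat))
  | prod (w : List Nat) (items : List (List Nat × Nat × Bool))

/-- The relation of a record. -/
def Rec.word : Rec → List Nat
  | .norm w _ _ => w
  | .prod w _ => w

/-- Cancel a letter against the head. -/
def pushW (g : Nat) : List Nat → List Nat
  | [] => [g]
  | h :: t => cond (Nat.beq g h) t (g :: h :: t)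

/-- Free reduction among involutions. -/
def redW : List Nat → List Nat
  | [] => []
  | g :: w => pushW g (redW w)

/-- The five base points of the ten letters. -/
def basePts5 : List Nat := [0, 2, 15, 6, 46]

/-- A word fixes the base. -/
noncomputable def fixB (w : List Nat) : Bool :=
  (w.all fun g => Nat.blt g 11) &&
    basePts5.all fun p => Nat.beq (twalk PermData.tabL 11 w p) p

/-- The letters of a word are among the ten. -/
def inC (w : List Nat) : Bool := w.all fun g => Nat.blt g 10

/-- A word of `C(z)` commutes with the second involution, and its conjugate by the swap is given. -/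
noncomputable def moveOK (v v' : List Nat) : Bool :=
  inC v && inC v' && fixB (v ++ 3 :: v.reverse ++ [3]) && fixB (10 :: v ++ 10 :: v'.reverse)

/-- Apply moves; the end must be a relation of the ten letters. -/
noncomputable def movesOK : List (Nat × Nat × List Nat) → List Nat → Bool
  | [], w => inC w && fixB w
  | (i, n, v') :: ms, w =>
    let v := (w.drop (i + 1)).take n
    beqW w (w.take i ++ 10 :: v ++ 10 :: w.drop (i + n + 2)) && moveOK v v' &&
      movesOK ms (w.take i ++ v' ++ w.drop (i + n + 2))

/-- The chosen conjugate of a known relation. -/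
def baseWord (bases : List (List Nat)) : Option (Nat × Nat × Bool × List Nat) → List Nat
  | none => []
  | some (k, rot, fl, c) =>
    let b := cond fl (bases.getD k []).reverse (bases.getD k [])
    c ++ (b.drop rot ++ b.take rot) ++ c.reverse

/-- The product of conjugates of known relations. -/
def itemsWord (acc : List (List Nat)) : List (List Nat × Nat × Bool) → List Nat
  | [] => []
  | (u, i, s) :: l =>
    u ++ (cond s (acc.getD i []) (acc.getD i []).reverse) ++ u.reverse ++ itemsWord acc l

/-- Check one record. -/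
noncomputable def recOK (bases acc : List (List Nat)) : Rec → Bool
  | .norm w base mv => movesOK mv (redW (w ++ (baseWord bases base).reverse))
  | .prod w items => beqW (redW (itemsWord acc items)) (redW w)

/-- Check the records in order. -/
noncomputable def recsOK (bases : List (List Nat)) : List Rec → List (List Nat) → Bool
  | [], _ => true
  | r :: rs, acc => recOK bases acc r && recsOK bases rs (acc ++ [r.word])

variable {G : Type u} [Group G]

theorem wordVal_pushW {x : ℕ → G} (hx : ∀ g, x g * x g = 1) (g : ℕ) : ∀ w : List ℕ,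
    wordVal x (pushW g w) = wordVal x (g :: w)
  | [] => rfl
  | h :: t => by
    rw [pushW]
    rcases hb : Nat.beq g h with _ | _
    · rfl
    · obtain rfl : g = h := Nat.eq_of_beq_eq_true hb
      show wordVal x t = wordVal x t * gen x g * gen x g
      rw [mul_assoc, gen_mul_self hx, mul_one]

theorem wordVal_redW {x : ℕ → G} (hx : ∀ g, x g * x g = 1) : ∀ w : List ℕ,
    wordVal x (redW w) = wordVal x w
  | [] => rfl
  | g :: w => by
    rw [redW, wordVal_pushW hx, wordVal, wordVal_redW hx w, wordVal]

theorem wordVal_conj_word {x : ℕ → G} (hx : ∀ g, x g * x g = 1) {w : List ℕ} (u : List ℕ)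
    (h : wordVal x w = 1) : wordVal x (u ++ w ++ u.reverse) = 1 := by
  rw [wordVal_append, wordVal_append, h, one_mul, wordVal_reverse hx, inv_mul_cancel]

theorem wordVal_rot {x : ℕ → G} {w : List ℕ} (i : ℕ) (h : wordVal x w = 1) :
    wordVal x (w.drop i ++ w.take i) = 1 := by
  rw [← List.take_append_drop i w, wordVal_append] at h
  rw [wordVal_append, mul_eq_one_comm.1 h]

theorem getD_valid {x : ℕ → G} {acc : List (List ℕ)} (h : ∀ w ∈ acc, wordVal x w = 1) (i : ℕ) :
    wordVal x (acc.getD i []) = 1 := by
  rcases lt_or_ge i acc.length with hi | hi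
  · rw [List.getD_eq_getElem _ _ hi]; exact h _ (List.getElem_mem hi)
  · rw [List.getD_eq_default _ _ hi]; rfl

theorem baseWord_valid {x : ℕ → G} (hx : ∀ g, x g * x g = 1) {bases : List (List ℕ)}
    (h : ∀ w ∈ bases, wordVal x w = 1) :
    ∀ o, wordVal x (baseWord bases o) = 1
  | none => rfl
  | some (k, rot, fl, c) => by
    refine wordVal_conj_word hx c (wordVal_rot rot ?_)
    cases fl
    · exact getD_valid h k
    · show wordVal x (bases.getD k []).reverse = 1
      rw [wordVal_reverse hx, getD_valid h k, inv_one]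

theorem itemsWord_valid {x : ℕ → G} (hx : ∀ g, x g * x g = 1) {acc : List (List ℕ)}
    (h : ∀ w ∈ acc, wordVal x w = 1) : ∀ l, wordVal x (itemsWord acc l) = 1
  | [] => rfl
  | (u, i, s) :: l => by
    rw [itemsWord, wordVal_append, itemsWord_valid hx h l, one_mul]
    refine wordVal_conj_word hx u ?_
    cases s
    · show wordVal x (acc.getD i []).reverse = 1
      rw [wordVal_reverse hx, getD_valid h i, inv_one]
    · exact getD_valid h i

variable {ι : Type} [Fintype ι] [DecidableEq ι] {D : Data G ι} {χ : Chart D}

/-- The swap in `G`. -/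
structure SwapElt (I : LIso χ) (r : G) : Prop where
  sq : r * r = 1
  conj : ∀ d, r * I.σ d * r⁻¹ = I.σ (dR d)
  cube : ∀ d : ↥DS, (d : Equiv.Perm (Fin 1782)) = wordOf lP SwapData.rnWord →
    r * χ.κ 4 * (r * χ.κ 4) * (r * χ.κ 4) = I.σ d

theorem LIso.exists_swapElt [Finite G] (M : Model D) (I : LIso χ) :
    ∃ r, SwapElt I r := by
  obtain ⟨r, h1, -, -, h2, h3⟩ := I.exists_rG M
  exact ⟨r, h1, h2, h3⟩

/-- The ten letters in their group. -/
noncomputable def lC (g : ℕ) : ↥CS := if h : g < 10 then ⟨lP g, lP_mem h⟩ else 1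

theorem lC_sq (g : ℕ) : lC g * lC g = 1 := by
  unfold lC
  split
  · exact Subtype.ext (lP_sq g)
  · exact mul_one 1

theorem lC_val : ∀ {w : List ℕ}, inC w = true →
    ((wordVal lC w : ↥CS) : Equiv.Perm (Fin 1782)) = wordVal lP w
  | [], _ => rfl
  | g :: w, hw => by
    obtain ⟨hg, hw'⟩ : g < 10 ∧ inC w = true := by
      simpa [inC, List.all_cons, Bool.and_eq_true] using hw
    rw [wordVal, wordVal, Subgroup.coe_mul, lC_val hw', gen, gen, if_neg (by simp [eps]; omega),
      if_neg (by simp [eps]; omega), lC, dif_pos hg]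

theorem word_mem_CS {w : List ℕ} (hw : inC w = true) : wordVal lP w ∈ CS :=
  lC_val hw ▸ (wordVal lC w).2

theorem fixB_spec {w : List ℕ} (h : fixB w = true) :
    ∀ p : Fin 1782, p.1 ∈ basePts5 → wordVal lP w p = p := by
  simp only [fixB, Bool.and_eq_true, List.all_eq_true, Nat.blt_eq, Nat.beq_eq] at h
  intro p hp
  refine Fin.ext ?_
  rw [show wordVal lP w = wordVal (tperm PermData.tabL 11 1782) w from rfl,
    wordVal_tperm lperm_ok (by decide) w h.1]
  exact h.2 _ hp

variable [Finite G] (M : Model D) (I : LIso χ)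

/-- The letters in `G`. -/
noncomputable def LIso.lG (r : G) (g : ℕ) : G := if g < 10 then I.ρ (lC g) else r

include M I in
theorem LIso.base_trivial {x : Equiv.Perm (Fin 1782)} (hx : x ∈ CS)
    (hfix : ∀ p : Fin 1782, p.1 ∈ basePts5 → x p = p) : x = 1 := by
  classical
  have hpts : basePts PermData.levels = basePts5 := by decide +kernel
  have h := base_mul_le lP (MonoidHom.id _) lperm_ok (by decide) (fun g _ => rfl) base_ok CS
    (Subgroup.zpowers x) (Subgroup.zpowers_le.2 hx) (fun u hu => by
      refine word_mem_CS (List.all_eq_true.2 fun g hg => ?_)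
      rw [Nat.blt_eq]
      simp only [PermData.levels, List.head?_cons, Option.map_some, Option.getD_some] at hu
      exact words_lt.2 _ List.mem_cons_self u hu g hg) (by
      intro t ht p hp
      obtain ⟨i, rfl⟩ := Subgroup.mem_zpowers_iff.1 ht
      exact Equiv.Perm.zpow_apply_eq_self_of_apply_eq_self (hfix p (hpts ▸ hp)) i)
  rw [base_size, I.card_CS M] at h
  have h3 : Nat.card (Subgroup.zpowers x) ≤ 1 := by omega
  exact Subgroup.zpowers_eq_bot.1 (Subgroup.eq_bot_of_card_le _ h3)

variable {I} {r : G}

theorem SwapElt.lG_sq (S : SwapElt I r) (g : ℕ) : I.lG r g * I.lG r g = 1 := by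
  unfold LIso.lG
  split
  · rw [← map_mul, lC_sq, map_one]
  · exact S.sq

theorem lG_val : ∀ {w : List ℕ}, inC w = true → wordVal (I.lG r) w = I.ρ (wordVal lC w)
  | [], _ => (map_one I.ρ).symm
  | g :: w, hw => by
    obtain ⟨hg, hw'⟩ : g < 10 ∧ inC w = true := by
      simpa [inC, List.all_cons, Bool.and_eq_true] using hw
    rw [wordVal, wordVal, map_mul, lG_val hw', gen, gen, if_neg (by simp [eps]; omega),
      if_neg (by simp [eps]; omega), LIso.lG, if_pos hg]

theorem lP_three : lP 3 = κP 2 := by
  rw [letter_eq (by norm_num),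
    show PermData.letterExpr.getD 3 (0, []) = (2, []) by decide +kernel]
  simp [wordOf]

include M

theorem C_valid {w : List ℕ} (h1 : inC w = true) (h2 : fixB w = true) :
    wordVal (I.lG r) w = 1 := by
  rw [lG_val h1, show wordVal lC w = 1 from Subtype.ext (by
    rw [lC_val h1]; exact I.base_trivial M (word_mem_CS h1) (fixB_spec h2)), map_one]

theorem moveOK_spec (S : SwapElt I r) {v v' : List ℕ} (h : moveOK v v' = true) :
    wordVal (I.lG r) (10 :: v ++ [10]) = wordVal (I.lG r) v' := by
  simp only [moveOK, Bool.and_eq_true] at h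
  obtain ⟨⟨⟨hv, hv'⟩, hc⟩, hm⟩ := h
  have hrev : inC v.reverse = true := by simpa [inC] using hv
  have hc0 : inC (v ++ 3 :: v.reverse ++ [3]) = true := by
    simp only [inC, List.all_append, List.all_cons, List.all_nil, Bool.and_eq_true] at hv hrev ⊢
    exact ⟨⟨hv, by simp, hrev⟩, by simp, trivial⟩
  have hcomm : Commute (wordVal lP v) (κP 2) := by
    have e := I.base_trivial M (word_mem_CS hc0) (fixB_spec hc)
    simp only [wordVal_append, wordVal, wordVal_reverse lP_sq, gen, eps,
      show (3 : ℕ) ≠ 31 by norm_num, if_false, lP_three, one_mul] at e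
    show wordVal lP v * κP 2 = κP 2 * wordVal lP v
    have hsq : κP 2 * κP 2 = 1 := lP_three ▸ lP_sq 3
    have e' : κP 2 * (wordVal lP v)⁻¹ * (κP 2 * wordVal lP v) = 1 := by simpa [mul_assoc] using e
    rw [eq_inv_of_mul_eq_one_right e', mul_inv_rev, inv_inv, inv_eq_of_mul_eq_one_right hsq]
  have hvDS : wordVal lP v ∈ DS := I.mem_DS M (word_mem_CS hv) hcomm
  set d : ↥DS := ⟨wordVal lP v, hvDS⟩ with hd
  have hm' : wordVal lP (10 :: v ++ 10 :: v'.reverse) = 1 := by
    refine I.base_trivial M ?_ (fixB_spec hm)
    rw [wordVal_append, wordVal, wordVal_reverse lP_sq, wordVal]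
    simp only [gen, eps, show (10 : ℕ) ≠ 31 by norm_num, if_false]
    rw [mul_assoc]
    refine mul_mem (inv_mem (word_mem_CS hv')) ?_
    have := (dR d).2
    exact DS_le (by simpa [dR, rP, lP_inv, mul_assoc] using this)
  have hperm : ((dR d : ↥DS) : Equiv.Perm (Fin 1782)) = wordVal lP v' := by
    rw [wordVal_append, wordVal, wordVal_reverse lP_sq, wordVal] at hm'
    simp only [gen, eps, show (10 : ℕ) ≠ 31 by norm_num, if_false] at hm'
    rw [mul_assoc, inv_mul_eq_one] at hm'
    rw [hm']
    simp [dR, hd, rP, lP_inv, mul_assoc]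
  have h1 : I.σ d = wordVal (I.lG r) v := by
    rw [lG_val hv]
    exact congrArg I.ρ (Subtype.ext (lC_val hv).symm)
  have h2 : I.σ (dR d) = wordVal (I.lG r) v' := by
    rw [lG_val hv']
    exact congrArg I.ρ (Subtype.ext (hperm.trans (lC_val hv').symm))
  rw [← h2, ← S.conj, h1, inv_eq_of_mul_eq_one_right S.sq, wordVal_append, wordVal, wordVal, wordVal]
  simp [gen, eps, LIso.lG, mul_assoc]

theorem movesOK_valid (S : SwapElt I r) : ∀ {mv : List (ℕ × ℕ × List ℕ)} {w : List ℕ},
    movesOK mv w = true → wordVal (I.lG r) w = 1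
  | [], w, h => by
    rw [movesOK, Bool.and_eq_true] at h
    exact C_valid M h.1 h.2
  | (i, n, v') :: ms, w, h => by
    simp only [movesOK, Bool.and_eq_true] at h
    obtain ⟨⟨hw, hmv⟩, hrest⟩ := h
    have e := movesOK_valid S hrest
    rw [beqW_eq hw]
    rw [show w.take i ++ 10 :: (w.drop (i + 1)).take n ++ 10 :: w.drop (i + n + 2) =
      w.take i ++ (10 :: (w.drop (i + 1)).take n ++ [10]) ++ w.drop (i + n + 2) by simp,
      wordVal_append, wordVal_append, moveOK_spec M S hmv, ← wordVal_append, ← wordVal_append]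
    exact e

theorem recOK_valid (S : SwapElt I r) {bases acc : List (List ℕ)}
    (hb : ∀ w ∈ bases, wordVal (I.lG r) w = 1) (ha : ∀ w ∈ acc, wordVal (I.lG r) w = 1) :
    ∀ {c : Rec}, recOK bases acc c = true → wordVal (I.lG r) c.word = 1
  | .norm w base mv, h => by
    have e := movesOK_valid M S h
    rwa [wordVal_redW S.lG_sq, wordVal_append, wordVal_reverse S.lG_sq,
      baseWord_valid S.lG_sq hb, inv_one, one_mul] at e
  | .prod w items, h => by
    show wordVal _ w = 1
    rw [← wordVal_redW S.lG_sq w, ← beqW_eq h, wordVal_redW S.lG_sq,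
      itemsWord_valid S.lG_sq ha]

theorem recsOK_valid (S : SwapElt I r) {bases : List (List ℕ)}
    (hb : ∀ w ∈ bases, wordVal (I.lG r) w = 1) : ∀ {rs : List Rec} {acc : List (List ℕ)},
    (∀ w ∈ acc, wordVal (I.lG r) w = 1) → recsOK bases rs acc = true →
      ∀ w ∈ acc ++ rs.map Rec.word, wordVal (I.lG r) w = 1
  | [], acc, ha, _ => by simpa using ha
  | c :: rs, acc, ha, h => by
    rw [recsOK, Bool.and_eq_true] at h
    have hc := recOK_valid M S hb ha h.1
    have ih := recsOK_valid S hb (acc := acc ++ [c.word]) (fun w hw => by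
      rcases List.mem_append.1 hw with e | e
      · exact ha w e
      · rw [List.mem_singleton.1 e]; exact hc) h.2
    simpa [List.append_assoc] using ih

end Cfsg.Lib.Extra.SuzUnique
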