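import Cfsg.Agent.Lib.Extra.SuzUnique.Relations
import Cfsg.Agent.Lib.Extra.SuzLocal.FromHyp
import Cfsg.Agent.Lib.Extra.SuzUnique.Bound

/-!
# Seven generators from the hypothesis on the centralizer
-/

set_option autoImplicit false
set_option maxRecDepth 20000
set_option linter.unusedSectionVars false

namespace Cfsg.Lib.Extra.SuzUnique

open Cfsg Cfsg.Lib.CosetEnum Cfsg.Lib.Extra.Wide Cfsg.Lib.Extra.SuzLocal

universe u

theorem short_of_all : shiftsOK allRels shortRels = true := by decide +kernel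

theorem exists_seven {G : Type u} [Group G] [Finite G] {ι : Type} [Fintype ι] [DecidableEq ι]
    {D : Data G ι} (M : Model D) :
    Nat.card G = 448345497600 ∧ ∃ x : ℕ → G, (∀ g, x g * x g = 1) ∧
      (∀ w ∈ shortRels, wordVal x w = 1) ∧ x 0 ≠ 1 := by
  refine ⟨card_G M, ?_⟩
  obtain ⟨χ, ⟨I⟩⟩ := exists_liso M
  obtain ⟨r, S⟩ := I.exists_swapElt M
  refine ⟨I.sevenGens r, seven_sq M S,
    shift_eq_one (seven_sq M S) short_of_all (allRels_valid M S), fun e => ?_⟩
  exact (tri_cl M S 0 (by norm_num)).ne_one D e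

end Cfsg.Lib.Extra.SuzUnique
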