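import Cfsg.Agent.Lib.Extra.SuzUnique.Chart

/-!
# Siegel elements with prescribed action on the extraspecial subgroup

At the point of a code `al` and for a label `v` there is an element of the cross subgroup acting on
`Q` by a given table, provided the table has the shape forced by the cross radical.
-/

set_option autoImplicit false
set_option linter.style.haveILetI false
set_option linter.unusedSectionVars false

namespace Cfsg.Lib.Extra.SuzUnique

open Cfsg Module Cfsg.Lib.Linear.Orth Cfsg.Lib.Extra.Wide Cfsg.Lib.Extra.SuzLocal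
open scoped Matrix

/-- The data of a Siegel element: point, label, a code off the perpendicular, the image of that
code and the images of the perpendicular codes. -/
structure SiegelCode where
  /-- The code of the point. -/
  al : ℕ
  /-- The label. -/
  v : ℕ
  /-- A code with form value one at the point. -/
  f : ℕ
  /-- The table of the action. -/
  T : List ℕ

/-- The action of the table. -/
def SiegelCode.app (s : SiegelCode) (n : ℕ) : ℕ := s.T.getD n 0

/-- The square of the element. -/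
def SiegelCode.sq (s : SiegelCode) : ℕ := qV s.v * s.al

/-- The table is multiplicative. -/
def tableOK (T : List ℕ) : Bool :=
  (List.range 128).all (fun n => Nat.blt (T.getD n 0) 128) && Nat.beq (T.getD 0 0) 0 &&
    (List.range 128).all fun n => gens7.all fun g =>
      Nat.beq (T.getD (qMul n g) 0) (qMul (T.getD n 0) (T.getD g 0))

/-- The conditions on a Siegel code. -/
def SiegelCode.ok (s : SiegelCode) : Bool :=
  Nat.blt s.al 128 && Nat.blt s.v 64 && Nat.blt s.f 128 && !Nat.beq (s.al / 2) 0 &&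
    Nat.beq (qV (s.al / 2)) 0 && Nat.beq (bV (s.al / 2) s.v) 0 &&
    Nat.beq (bV (s.al / 2) (s.f / 2)) 1 && tableOK s.T &&
    (List.range 128).all (fun n => !Nat.beq (bV (s.al / 2) (n / 2)) 0 ||
      (Nat.beq (s.app n) (if Nat.beq (bV (n / 2) s.v) 1 then qMul (qMul 1 s.al) n else n) &&
        Nat.beq (bV (s.al / 2) (s.app n / 2)) 0)) &&
    Nat.beq (s.app s.f / 2) (Nat.xor (Nat.xor (s.f / 2) s.v)
      (if Nat.beq ((bV s.v (s.f / 2) + qV s.v) % 2) 1 then s.al / 2 else 0)) &&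
    Nat.beq (bV (s.al / 2) (s.app s.f / 2)) 1

universe u

variable {G : Type u} [Group G] {ι : Type} [Fintype ι] [DecidableEq ι] {D : Data G ι}

/-- An element acting on the chart by a table. -/
def Chart.Acts (χ : Chart D) (y : G) (T : ℕ → ℕ) : Prop :=
  Commute y D.z ∧ ∀ n < 128, y * χ.κ n * y⁻¹ = χ.κ (T n)

theorem Chart.map_zero (χ : Chart D) : χ.κ 0 = 1 := by
  have e := χ.map_mul (m := 0) (n := 0) (by norm_num) (by norm_num)
  rw [(qMul_one 0 (by norm_num)).1] at e
  exact left_eq_mul.1 e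

theorem Chart.cls_add (χ : Chart D) {m n : ℕ} (hm : m < 128) (hn : n < 128) :
    D.cls (χ.κ (qMul m n)) = D.cls (χ.κ m) + D.cls (χ.κ n) := by
  rw [χ.map_mul hm hn, D.cls_mul _ (χ.mem hm) _ (χ.mem hn)]

/-- The class of a six-bit vector. -/
def Chart.vec (χ : Chart D) (c : ℕ) : ι → ZMod 2 := D.cls (χ.κ (2 * c))

theorem Chart.cls_eq_vec (χ : Chart D) {n : ℕ} (hn : n < 128) : D.cls (χ.κ n) = χ.vec (n / 2) := by
  rcases Nat.even_or_odd' n with ⟨c, rfl | rfl⟩
  · rw [Chart.vec, Nat.mul_div_cancel_left _ two_pos]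
  · have e : qMul 1 (2 * c) = 2 * c + 1 := by
      rw [(qMul_center _ (by omega)).1]
      exact (show ∀ c < 64, Nat.xor (2 * c) 1 = 2 * c + 1 by decide +kernel) c (by omega)
    rw [← e, χ.cls_add (by norm_num) (by omega), χ.z_eq, D.cls_z, zero_add, Chart.vec]
    congr 2
    rw [e]; omega

theorem Chart.vec_xor (χ : Chart D) {c d : ℕ} (hc : c < 64) (hd : d < 64) :
    χ.vec (Nat.xor c d) = χ.vec c + χ.vec d := by
  have hlt : qMul (2 * c) (2 * d) < 128 := qMul_lt _ (by omega) _ (by omega)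
  rw [Chart.vec, Chart.vec, Chart.vec, ← χ.cls_add (by omega) (by omega),
    χ.cls_eq_vec hlt, qMul_div _ (by omega) _ (by omega), Nat.mul_div_cancel_left _ two_pos,
    Nat.mul_div_cancel_left _ two_pos]
  rfl

theorem Chart.vec_zero (χ : Chart D) : χ.vec 0 = 0 := by
  rw [Chart.vec, mul_zero, χ.map_zero, D.cls_one]

variable [Finite G]

theorem Chart.qf_vec (χ : Chart D) {c : ℕ} (hc : c < 64) : D.qf (χ.vec c) = (qV c : ZMod 2) := by
  rw [Chart.vec, χ.qf_eq (by omega), Nat.mul_div_cancel_left _ two_pos]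

theorem Chart.B_vec (χ : Chart D) {c d : ℕ} (hc : c < 64) (hd : d < 64) :
    D.B (χ.vec c) (χ.vec d) = (bV c d : ZMod 2) := by
  rw [Chart.vec, Chart.vec, χ.B_eq (by omega) (by omega), Nat.mul_div_cancel_left _ two_pos,
    Nat.mul_div_cancel_left _ two_pos]

theorem Chart.point (χ : Chart D) {al : ℕ} (hal : al < 128) (h0 : al / 2 ≠ 0)
    (hq : qV (al / 2) = 0) : D.Point (χ.κ al) := by
  refine ⟨χ.mem hal, (D.cls_sq _ (χ.mem hal)).2 (by rw [χ.qf_eq hal, hq, Nat.cast_zero]),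
    fun e => h0 ?_, fun e => h0 ?_⟩
  · rw [χ.inj hal (n := 0) (by norm_num) (by rw [e, χ.map_zero])]
  · rw [χ.inj hal (n := 1) (by norm_num) (by rw [e, χ.z_eq])]

/-- The element of a Siegel code. -/
theorem Chart.exists_siegel (χ : Chart D) (s : SiegelCode) (hs : s.ok = true) :
    ∃ y, χ.Acts y s.app ∧ y * y = χ.κ s.sq := by
  simp only [SiegelCode.ok, tableOK, Bool.and_eq_true, List.all_eq_true, List.mem_range,
    Bool.or_eq_true, Bool.not_eq_true', Nat.blt_eq] at hs
  have beqE : ∀ a b : ℕ, Nat.beq a b = true ↔ a = b :=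
    fun a b => ⟨Nat.eq_of_beq_eq_true, fun h => h ▸ Nat.beq_refl a⟩
  simp only [beqE, Bool.eq_false_iff, ne_eq] at hs
  obtain ⟨⟨⟨⟨⟨⟨⟨⟨⟨⟨hal, hv⟩, hf⟩, h0⟩, hq⟩, hbv⟩, hbf⟩, ⟨⟨hT, hT0⟩, hTm⟩⟩, hperp⟩, hfim⟩, hbim⟩ := hs
  set t := χ.κ s.al with htdef
  have hp : D.Point t := χ.point hal h0 hq
  have hpt : D.cls t = χ.vec (s.al / 2) := χ.cls_eq_vec hal
  have hlt : s.al / 2 < 64 := by omega
  have hvp : D.B (D.cls t) (χ.vec s.v) = 0 := by rw [hpt, χ.B_vec hlt hv, hbv, Nat.cast_zero]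
  obtain ⟨y0, hy0, hy0v⟩ := hp.exists_label hvp
  -- the perpendicular codes
  have hper : ∀ y : G, D.InPQ t y → D.act y = sGL D.qf D.B (D.cls t) (χ.vec s.v) →
      ∀ n < 128, bV (s.al / 2) (n / 2) = 0 → y * χ.κ n * y⁻¹ = χ.κ (s.app n) := by
    intro y hy hyv n hn hb
    have hcq : D.InCQ t (χ.κ n) := (hp.inCQ_iff (χ.mem hn)).2 (by
      rw [htdef, χ.B_eq hal hn, hb, Nat.cast_zero])
    obtain ⟨hTn, -⟩ := (hperp n hn).resolve_left (fun h => h hb)
    have hsw := hp.swap_pq_cq hcq hy hvp hyv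
    rw [χ.cls_eq_vec hn, χ.B_vec (by omega) hv] at hsw
    rw [hsw, mul_assoc, mul_assoc, mul_inv_cancel, mul_one, hTn]
    rcases bV_bit (n / 2) (by omega) s.v hv with e | e <;> simp only [e] <;> norm_num [Data.zt]
    rw [χ.map_mul (qMul_lt 1 (by norm_num) _ hal) hn, χ.map_mul (by norm_num) hal, χ.z_eq]
  -- the image of the code off the perpendicular
  have hqv : D.qf (χ.vec s.v) = (qV s.v : ZMod 2) := χ.qf_vec hv
  have hTf : s.app s.f < 128 := hT _ hf
  have hcls : D.cls (y0 * χ.κ s.f * y0⁻¹) = D.cls (χ.κ (s.app s.f)) := by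
    rw [D.act_cls y0 hy0.2 _ (χ.mem hf), hy0v, sGL_apply D.space hp.cls_sing hvp, hqv, hpt,
      χ.cls_eq_vec hf, χ.cls_eq_vec hTf, χ.B_vec hlt (by omega), χ.B_vec hv (by omega), hbf,
      Nat.cast_one, one_smul, mul_one, hfim]
    have hd : (bV s.v (s.f / 2) + qV s.v : ZMod 2) = ((bV s.v (s.f / 2) + qV s.v) % 2 : ℕ) := by
      rw [ZMod.natCast_mod, Nat.cast_add]
    rw [hd]
    have hx : Nat.xor (s.f / 2) s.v < 64 := Nat.xor_lt_two_pow (n := 6) (by omega) hv
    rcases Nat.mod_two_eq_zero_or_one (bV s.v (s.f / 2) + qV s.v) with e | e <;> simp only [e] <;>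
      norm_num
    · exact (χ.vec_xor (by omega) hv).symm
    · exact ((χ.vec_xor hx hlt).trans
        (congrArg (· + χ.vec (s.al / 2)) (χ.vec_xor (by omega) hv))).symm
  -- normalise at that code
  obtain ⟨y, hy, hyv, hyf⟩ : ∃ y, D.InPQ t y ∧ D.act y = sGL D.qf D.B (D.cls t) (χ.vec s.v) ∧
      y * χ.κ s.f * y⁻¹ = χ.κ (s.app s.f) := by
    have hmem : y0 * χ.κ s.f * y0⁻¹ ∈ D.Q :=
      (Subgroup.mem_normalizer_iff.1 (D.ctx.norm y0 hy0.2) _).1 (χ.mem hf)
    rcases D.cls_eq (χ.mem hTf) hmem hcls.symm with e | e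
    · exact ⟨y0, hy0, hy0v, e⟩
    · refine ⟨t * y0, hp.pq_mul (hp.pq_A (Or.inr (Or.inr (Or.inl rfl)))) hy0, ?_, ?_⟩
      · rw [D.act_mul _ _ (D.ctx.central t hp.mem).symm hy0.2, D.act_q hp.mem, one_mul, hy0v]
      · have hmv : t * χ.κ (s.app s.f) * t⁻¹ = D.z * χ.κ (s.app s.f) := D.q_move hp.mem (χ.mem hTf)
          (by rw [htdef, χ.B_eq hal hTf, hbim, Nat.cast_one])
        have hzt : t * D.z = D.z * t := hp.comm_zt.eq.symm
        calc t * y0 * χ.κ s.f * (t * y0)⁻¹ = t * (y0 * χ.κ s.f * y0⁻¹) * t⁻¹ := by group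
          _ = D.z * (t * χ.κ (s.app s.f) * t⁻¹) := by rw [e, ← mul_assoc t, hzt]; group
          _ = _ := by rw [hmv, ← mul_assoc, D.ctx.sq_z, one_mul]
  refine ⟨y, ⟨hy.2, fun n hn => ?_⟩, ?_⟩
  · have hmul : ∀ m < 128, bV (s.al / 2) (m / 2) = 0 →
        y * χ.κ (qMul m s.f) * y⁻¹ = χ.κ (s.app (qMul m s.f)) := by
      intro m hm hb
      have hTq : s.app (qMul m s.f) = qMul (s.app m) (s.app s.f) := by
        have h := fun j hj g hg => hTm j hj g hg
        let ev : ℕ → G := fun j => χ.κ (s.app j)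
        have h1 : ∀ a < 128, ∀ b < 128, ev (qMul a b) = ev a * ev b :=
          map_mul_of_gens (by simp only [ev, SiegelCode.app, hT0, χ.map_zero]) fun a ha g hg => by
            simp only [ev, SiegelCode.app, hTm a ha g hg]
            exact χ.map_mul (hT a ha) (hT g (by fin_cases hg <;> norm_num))
        have h2 := h1 m hm s.f hf
        simp only [ev] at h2
        rw [← χ.map_mul (show s.app m < 128 from hT m hm) hTf] at h2
        exact χ.inj (hT _ (qMul_lt _ hm _ hf)) (qMul_lt _ (show s.app m < 128 from hT m hm) _ hTf) h2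
      rw [hTq, χ.map_mul hm hf,
        χ.map_mul (show s.app m < 128 from hT m hm) hTf, ← hper y hy hyv m hm hb, ← hyf]
      group
    rcases bV_bit (s.al / 2) hlt (n / 2) (by omega) with hb | hb
    · exact hper y hy hyv n hn hb
    · obtain ⟨m, hm, hbm, rfl⟩ : ∃ m < 128, bV (s.al / 2) (m / 2) = 0 ∧ qMul m s.f = n := by
        have hlin := (show ∀ p < 64, ∀ a < 64, ∀ b < 64,
          bV p (Nat.xor a b) = (bV p a + bV p b) % 2 by decide +kernel)
        rcases qMul_perp n hn s.f hf with e | e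
        · refine ⟨qMul n s.f, qMul_lt _ hn _ hf, ?_, e⟩
          rw [qMul_div _ hn _ hf, hlin _ hlt _ (by omega) _ (by omega), hb, hbf]
        · refine ⟨qMul 1 (qMul n s.f), qMul_lt _ (by norm_num) _ (qMul_lt _ hn _ hf), ?_, ?_⟩
          · rw [qMul_div _ (by norm_num) _ (qMul_lt _ hn _ hf), qMul_div _ hn _ hf]
            have : Nat.xor (1 / 2) (Nat.xor (n / 2) (s.f / 2)) = Nat.xor (n / 2) (s.f / 2) :=
              Nat.zero_xor _
            rw [this, hlin _ hlt _ (by omega) _ (by omega), hb, hbf]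
          · apply χ.inj (qMul_lt _ (qMul_lt _ (by norm_num) _ (qMul_lt _ hn _ hf)) _ hf) hn
            have hq1 := qMul_lt _ hn _ hf
            have hn1 : Nat.xor n 1 < 128 := Nat.xor_lt_two_pow (n := 7) hn (by norm_num)
            rw [χ.map_mul (qMul_lt _ (by norm_num) _ hq1) hf, χ.map_mul (by norm_num) hq1, mul_assoc,
              ← χ.map_mul hq1 hf, e, ← χ.map_mul (by norm_num) hn1, (qMul_center _ hn1).1]
            exact congrArg χ.κ
              ((show ∀ k < 128, Nat.xor (Nat.xor k 1) 1 = k by decide +kernel) n hn)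
      exact hmul m hm hbm
  · rw [hp.sq_pq hy hvp hyv, hqv, SiegelCode.sq]
    rcases qV_bit s.v hv with e | e <;> rw [e] <;> simp [Data.zt, χ.map_zero, htdef]

end Cfsg.Lib.Extra.SuzUnique
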