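import Cfsg.Agent.Lib.Extra.SuzUnique.SwapInner

/-!
# The exchanging letter in the group

An exchanging element can be chosen to act on `C(z) ⊓ C(t)` exactly as the letter does; it can
then be taken to be an involution, and the cube of its product with the code 4 has the value
given by the permutations.
-/

set_option autoImplicit false
set_option maxRecDepth 20000
set_option linter.style.haveILetI false

namespace Cfsg.Lib.Extra.SuzUnique

open Cfsg Cfsg.Lib.CosetEnum Cfsg.Lib.Extra.Wide Cfsg.Lib.Extra.SuzLocal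

universe u

/-- The first element of order five. -/
noncomputable def five0 : ↥DS :=
  ⟨wordOf lP (SwapData.fives.getD 0 []), wordOf_mem fun g hg => lP_mem_DS
    ((show ∀ g ∈ SwapData.fives.getD 0 [], g < 8 by decide +kernel) g hg)⟩

/-- The action of the first element of order five. -/
noncomputable def five0Act (k : ℕ) : ℕ :=
  twalk CodeData.tabT 10 (SwapData.fives.getD 0 []).reverse (8 * k) / 8

theorem five0_act : Act five0 five0Act := by
  intro k hk
  obtain ⟨h1, h2⟩ := (show ∀ k < 16,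
    twalk CodeData.tabT 10 (SwapData.fives.getD 0 []).reverse (8 * k) / 4 % 2 = 0 ∧
      five0Act k < 16 by decide +kernel) k hk
  refine ⟨h2, ?_⟩
  obtain ⟨hlt, e⟩ := word_code (w := SwapData.fives.getD 0 []) (fun g hg => by
    have := (show ∀ g ∈ SwapData.fives.getD 0 [], g < 8 by decide +kernel) g hg; omega) (Qd_code hk).1
  have h := near_code hlt h1
  rwa [show five0 * Qd k * five0⁻¹ =
    cD (twalk CodeData.tabT 10 (SwapData.fives.getD 0 []).reverse (8 * k)) from Subtype.ext (by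
      simp only [Subgroup.coe_mul, Subgroup.coe_inv, five0, Qd,
        cD_val (Qd_code hk).1 (Qd_code hk).2, cD_val hlt h1, e])]

theorem five_facts : ∀ k < 16, five0Act k < 16 ∧
    (∀ l < 16, bW (five0Act k) (five0Act l) = bW k l) ∧
    (∀ j < 16, (∀ i < 4, bW (lab j) (five0Act (2 ^ i)) = bW (lab k) (2 ^ i)) →
      j = lab (five0Act (lab k))) ∧
    (∃ a < 16, a ^^^ five0Act a = k) ∧ ∃ b < 16, b ^^^ lab (five0Act (lab b)) = k := by
  decide +kernel

theorem five_pow {x : ↥DS} (w : List ℕ) (hw : w ∈ SwapData.fives)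
    (hx : (x : Equiv.Perm (Fin 1782)) = wordOf lP w) : x * x * x * x * x = 1 := by
  refine Subtype.ext ?_
  have e := swap_eq (eq_five w hw)
  simp only [wordOf_append, wordOf] at e
  simpa [hx] using e

theorem near_five {x y : ↥DS} (h : Near y x) (hx : x * x * x * x * x = 1) (hy : y * y * y * y * y = 1) :
    y = x := by
  obtain ⟨a, ha, rfl⟩ := h
  have h2 : cD a * x * (cD a * x) = x * x := Near.sq_eq ⟨a, ha, rfl⟩
  have h4 : cD a * x * (cD a * x) * (cD a * x) * (cD a * x) * (cD a * x) =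
      cD a * (x * x * x * x * x) := by
    calc cD a * x * (cD a * x) * (cD a * x) * (cD a * x) * (cD a * x)
        = cD a * x * (cD a * x) * (cD a * x * (cD a * x)) * (cD a * x) := by group
      _ = x * x * (x * x) * cD a * x := by rw [h2]; group
      _ = cD a * (x * x * (x * x)) * x := by rw [← (cD_central ha _).eq]
      _ = _ := by group
  rw [h4, hx, mul_one] at hy
  rw [hy, one_mul]

theorem commute_PP {a b : ℕ} (ha : a < 16) (hb : b < 16) : Near (Pd a * Pd b) (Pd b * Pd a) :=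
  (Pd_xor ha hb).trans (by rw [Nat.xor_comm]; exact (Pd_xor hb ha).symm)

theorem commute_QQ {a b : ℕ} (ha : a < 16) (hb : b < 16) : Near (Qd a * Qd b) (Qd b * Qd a) :=
  (Qd_xor ha hb).2.trans (by rw [Nat.xor_comm]; exact (Qd_xor hb ha).2.symm)

theorem commute_OO {a b c e : ℕ} (ha : a < 16) (hb : b < 16) (hc : c < 16) (he : e < 16) :
    Near (Qd a * Pd b * (Qd c * Pd e)) (Qd (a ^^^ c) * Pd (b ^^^ e)) := by
  rw [show Qd a * Pd b * (Qd c * Pd e) = Qd a * (Pd b * Qd c) * Pd e by group]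
  refine (((Near.refl _).mul (commute_near hb hc)).mul (Near.refl _)).trans ?_
  rw [show Qd a * (Qd c * Pd b) * Pd e = Qd a * Qd c * (Pd b * Pd e) by group]
  exact (Qd_xor ha hc).2.mul (Pd_xor hb he)

theorem inv_near {x : ↥DS} (h : Near (x * x) 1) : Near x⁻¹ x := by
  have h' := (Near.refl x⁻¹).mul h
  rw [inv_mul_cancel_left, mul_one] at h'
  exact h'.symm

variable {G : Type u} [Group G] {ι : Type} [Fintype ι] [DecidableEq ι] {D : Data G ι} {χ : Chart D}

namespace LIso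

variable {I : LIso χ} [Finite G] (M : Model D)
include M

theorem five_P (I : LIso χ) {k : ℕ} (hk : k < 16) :
    lab (five0Act (lab k)) < 16 ∧ Near (five0 * Pd k * five0⁻¹) (Pd (lab (five0Act (lab k)))) := by
  obtain ⟨j, hj, hj'⟩ := conj_Pd_exists (I := I) M five0 hk
  have hlk := (lab_facts.1 k hk).1
  have : j = lab (five0Act (lab k)) := by
    refine (five_facts k hk).2.2.1 j hj fun i hi => ?_
    have hi16 := (show ∀ i < 4, 2 ^ i < 16 by decide) i hi
    obtain ⟨h1, h2⟩ := five0_act _ hi16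
    have p := (pairing k hk _ hi16).map (MulAut.conj five0).toMonoidHom
    simp only [MulEquiv.toMonoidHom_eq_coe, MonoidHom.coe_coe, MulAut.conj_apply] at p
    rw [← (cD_central (show 3 < 4 by norm_num) five0).eq, mul_inv_cancel_right] at p
    exact cast_bit (bW_lt _ (lab_facts.1 j hj).1 _ h1) (bW_lt _ hlk _ hi16)
      ((pairing j hj _ h1).uniq I.cD_three_ne (p.near hj'.symm h2.symm))
  exact ⟨(lab_facts.1 _ (five_facts _ hlk).1).1, this ▸ hj'⟩

variable {h : G}

theorem Exch.γ_classes (E : I.Exch h)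
    (hE : ∀ k < 16, Near (E.φ (Qd k)) (Pd k) ∧ Near (E.φ (Pd k)) (Qd k)) {k : ℕ} (hk : k < 16) :
    Near (E.γ (Qd k)) (Qd k) ∧ Near (E.γ (Pd k)) (Pd k) := by
  refine ⟨?_, (hE k hk).2.map fixA_dR⟩
  have := (hE k hk).1.map fixA_dR
  rwa [Pd, dR_dR] at this

/-- The exchanging element can fix the element of order five. -/
theorem Exch.fix_five (E : I.Exch h)
    (hE : ∀ k < 16, Near (E.φ (Qd k)) (Pd k) ∧ Near (E.φ (Pd k)) (Qd k)) :
    ∃ d, (∀ k < 16, Near ((E.mul d).γ (Qd k)) (Qd k) ∧ Near ((E.mul d).γ (Pd k)) (Pd k)) ∧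
      (E.mul d).γ five0 = five0 := by
  classical
  have hγ := fun k (hk : k < 16) => E.γ_classes M hE hk
  set u := E.γ five0 * five0⁻¹ with hu
  have huQ : ∀ k < 16, Near (u * Qd k * u⁻¹) (Qd k) := by
    intro k hk
    obtain ⟨a, ha, hak⟩ := (show ∀ k < 16, ∃ a < 16, five0Act a = k by decide +kernel) k hk
    obtain ⟨-, h1⟩ := five0_act a ha
    rw [hak] at h1
    refine ((h1.symm.map (fixA_conj u))).trans ?_
    show Near (u * (five0 * Qd a * five0⁻¹) * u⁻¹) _
    rw [show u * (five0 * Qd a * five0⁻¹) * u⁻¹ = E.γ five0 * Qd a * (E.γ five0)⁻¹ by rw [hu]; group]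
    refine (((Near.refl _).mul (hγ a ha).1.symm).mul (Near.refl _)).trans ?_
    rw [← map_inv, ← map_mul, ← map_mul]
    exact (h1.map E.fixA_γ).trans (hγ k hk).1
  obtain ⟨a, b, ha, hb, hab⟩ : ∃ a b, a < 16 ∧ b < 16 ∧ Near u (Qd a * Pd b) := by
    obtain ⟨q, y, e, hq, hy⟩ := exists_qy χ.point2 (x := I.σ u) (I.σ_comm u).1 (I.σ_comm u).2
      fun w hw => by
        obtain ⟨v, rfl⟩ := I.exists_σ M (D.ctx.central w hw.1).symm hw.2
        obtain ⟨l, hl, hvl⟩ := I.cq_class M hw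
        obtain ⟨c, hc, hc'⟩ := ((hvl.map (fixA_conj u)).trans (huQ l hl)).trans hvl.symm
        refine ⟨I.σ (cD c), ?_, ?_⟩
        · interval_cases c
          · exact Or.inl (by rw [cD_zero, map_one])
          · exact Or.inr (Or.inl (by rw [I.σ_cD (by norm_num) (by norm_num), χ.z_eq]))
          · exact Or.inr (Or.inr (Or.inl (by rw [I.σ_cD (by norm_num) (by norm_num)])))
          · exact Or.inr (Or.inr (Or.inr I.σ_three))
        · rw [← map_inv, ← map_mul, ← map_mul, ← map_mul]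
          exact congrArg I.σ hc'
    obtain ⟨dq, rfl⟩ := I.exists_σ M (D.ctx.central q hq.1).symm hq.2
    obtain ⟨dy, rfl⟩ := I.exists_σ M hy.2 (χ.point2.pq_commute_t hy)
    obtain ⟨a, ha, ha'⟩ := I.cq_class M hq
    obtain ⟨b, hb, hb'⟩ := I.pq_class M hy
    rw [← map_mul] at e
    exact ⟨a, b, ha, hb, by rw [I.σ_inj e]; exact ha'.mul hb'⟩
  obtain ⟨-, -, -, ⟨a', ha', haa⟩, -⟩ := five_facts a ha
  obtain ⟨-, -, -, -, ⟨b', hb', hbb⟩⟩ := five_facts b hb
  set d := Qd a' * Pd b' with hd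
  have hLa := (five0_act a' ha').1
  obtain ⟨hLb, hLb'⟩ := five_P M I hb'
  refine ⟨d, fun k hk => ?_, ?_⟩
  · have hdd : Near d⁻¹ d := inv_near (by
      refine (commute_OO ha' hb' ha' hb').trans ?_
      rw [Nat.xor_self, Nat.xor_self, Pd, Qd, mul_zero, cD_zero, map_one, one_mul]
      exact Near.refl _)
    have hQ : Near (d * Qd k * d⁻¹) (Qd k) ∧ Near (d * Pd k * d⁻¹) (Pd k) := by
      have h0 : Qd 0 = 1 := by rw [Qd, mul_zero, cD_zero]
      have h0' : Pd 0 = 1 := by rw [Pd, h0, map_one]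
      constructor
      · have e1 : Qd k = Qd k * Pd 0 := by rw [h0', mul_one]
        rw [e1]
        refine ((commute_OO ha' hb' hk (by norm_num)).mul hdd).trans ?_
        rw [Nat.xor_zero]
        refine (commute_OO (Qd_xor ha' hk).1 hb' ha' hb').trans ?_
        rw [Nat.xor_self, Nat.xor_comm a' k, Nat.xor_assoc, Nat.xor_self, Nat.xor_zero]
        exact Near.refl _
      · have e1 : Pd k = Qd 0 * Pd k := by rw [h0, one_mul]
        rw [e1]
        refine ((commute_OO ha' hb' (by norm_num) hk).mul hdd).trans ?_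
        rw [Nat.xor_zero]
        refine (commute_OO ha' (Qd_xor hb' hk).1 ha' hb').trans ?_
        rw [Nat.xor_self, Nat.xor_comm b' k, Nat.xor_assoc, Nat.xor_self, Nat.xor_zero]
        exact Near.refl _
    rw [Exch.γ_mul, Exch.γ_mul]
    exact ⟨(hQ.1.map E.fixA_γ).trans (hγ k hk).1, (hQ.2.map E.fixA_γ).trans (hγ k hk).2⟩
  · have hγd : Near (E.γ d) d := by
      rw [hd, map_mul]; exact (hγ a' ha').1.mul (hγ b' hb').2
    have hdd : Near d⁻¹ d := inv_near (by
      refine (commute_OO ha' hb' ha' hb').trans ?_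
      rw [Nat.xor_self, Nat.xor_self, Pd, Qd, mul_zero, cD_zero, map_one, one_mul]
      exact Near.refl _)
    have h5 := five_pow (x := five0) _ (show SwapData.fives.getD 0 [] ∈ SwapData.fives by decide +kernel) rfl
    refine near_five ?_ h5 (by simp only [← map_mul, h5, map_one])
    rw [Exch.γ_mul, map_mul, map_mul, map_inv,
      show E.γ d * E.γ five0 * (E.γ d)⁻¹ = E.γ d * (u * five0) * (E.γ d)⁻¹ by rw [hu]; group]
    have hγdi : Near (E.γ d)⁻¹ d := by
      rw [← map_inv]; exact (hdd.map E.fixA_γ).trans hγd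
    refine ((hγd.mul (hab.mul (Near.refl five0))).mul hγdi).trans ?_
    rw [show d * (Qd a * Pd b * five0) * d = d * (Qd a * Pd b) *
      (five0 * (Qd a' * Pd b') * five0⁻¹) * five0 by rw [hd]; group,
      show five0 * (Qd a' * Pd b') * five0⁻¹ = five0 * Qd a' * five0⁻¹ * (five0 * Pd b' * five0⁻¹) by
        group]
    refine (((commute_OO ha' hb' ha hb).mul ((five0_act a' ha').2.mul hLb')).mul (Near.refl _)).trans ?_
    refine ((commute_OO (Qd_xor ha' ha).1 (Qd_xor hb' hb).1 hLa hLb).mul (Near.refl _)).trans ?_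
    rw [Nat.xor_comm a' a, Nat.xor_assoc, haa, Nat.xor_self, Nat.xor_comm b' b, Nat.xor_assoc, hbb,
      Nat.xor_self, show Qd 0 = 1 by rw [Qd, mul_zero, cD_zero],
      show Pd 0 = 1 by rw [Pd, Qd, mul_zero, cD_zero, map_one], one_mul, one_mul]
    exact Near.refl _

omit M in
/-- A family of classes moved by the element of order five is fixed exactly. -/
theorem fix_family (Φ : ↥DS →* ↥DS) (hA : ∀ a < 4, Φ (cD a) = cD a) (hl : Φ five0 = five0)
    (R : ℕ → ↥DS) (L : ℕ → ℕ) (hx : ∀ a < 16, ∀ b < 16, Near (R a * R b) (R (a ^^^ b)))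
    (hL : ∀ k < 16, L k < 16 ∧ Near (five0 * R k * five0⁻¹) (R (L k)))
    (hs : ∀ k < 16, ∃ a < 16, a ^^^ L a = k) (hΦ : ∀ k < 16, Near (Φ (R k)) (R k)) :
    ∀ k < 16, Φ (R k) = R k := by
  intro k hk
  obtain ⟨a, ha, hak⟩ := hs k hk
  obtain ⟨c, hc, ec⟩ := hΦ a ha
  obtain ⟨hLa, b, hb, eb⟩ := hL a ha
  have hfix : Φ (R (L a)) = cD c * R (L a) := by
    have e2 := congrArg Φ eb
    rw [map_mul, map_mul, map_inv, hl, ec, map_mul, hA b hb,
      show five0 * (cD c * R a) * five0⁻¹ = five0 * cD c * five0⁻¹ * (five0 * R a * five0⁻¹) by group,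
      ← (cD_central hc five0).eq, mul_inv_cancel_right, eb, ← mul_assoc, (cD_central hc (cD b)).eq,
      mul_assoc] at e2
    exact (mul_left_cancel e2).symm
  obtain ⟨d, hd, ed⟩ := hx a ha _ hLa
  rw [hak] at ed
  have e2 := congrArg Φ ed
  rw [map_mul, map_mul, hA d hd, ec, hfix,
    show cD c * R a * (cD c * R (L a)) = cD c * (R a * cD c) * R (L a) by group,
    ← (cD_central hc (R a)).eq, ← mul_assoc, cD_small_sq hc, one_mul, ed] at e2
  exact (mul_left_cancel e2).symm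

/-- The exchanging element acts as the letter. -/
theorem exists_agree (I : LIso χ) : ∃ (h : G) (E : I.Exch h), E.φ = dR := by
  classical
  obtain ⟨h0, ⟨E0⟩⟩ := exists_exch (I := I) M
  obtain ⟨d1, hd1⟩ := E0.inner M
  obtain ⟨d2, hE, h5⟩ := (E0.mul d1).fix_five M hd1
  refine ⟨_, (E0.mul d1).mul d2, ?_⟩
  set E := (E0.mul d1).mul d2
  have hQ := fix_family E.γ (fun a ha => E.γ_small ha) h5 Qd five0Act
    (fun a ha b hb => (Qd_xor ha hb).2) five0_act (fun k hk => (five_facts k hk).2.2.2.1)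
    fun k hk => (hE k hk).1
  have hcq : ∀ w : ↥DS, D.InCQ (χ.κ 2) (I.σ w) → E.γ w = w := by
    intro w hw
    obtain ⟨k, hk, c, hc, rfl⟩ := I.cq_class M hw
    rw [map_mul, E.γ_small hc, hQ k hk]
  have hnear : ∀ x, Near (E.γ x) x := by
    intro x
    have hA : D.InA (χ.κ 2) (I.σ (x⁻¹ * E.γ x)) := by
      refine inA_of_centralizing χ.point2 (I.σ_comm _).1 (I.σ_comm _).2 fun w hw => ?_
      obtain ⟨v, rfl⟩ := I.exists_σ M (D.ctx.central w hw.1).symm hw.2
      have h1 : E.γ (x * v * x⁻¹) = x * v * x⁻¹ := hcq _ (by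
        rw [map_mul, map_mul, map_inv]; exact χ.point2.cq_conj (I.σ_comm x).1 (I.σ_comm x).2 hw)
      rw [map_mul, map_mul, map_inv, hcq v hw] at h1
      refine Commute.map (mul_inv_eq_iff_eq_mul.1 ?_) I.σ
      calc x⁻¹ * E.γ x * v * (x⁻¹ * E.γ x)⁻¹ = x⁻¹ * (E.γ x * v * (E.γ x)⁻¹) * x := by group
        _ = v := by rw [h1]; group
    obtain ⟨a, ha, e⟩ : ∃ a < 4, x⁻¹ * E.γ x = cD a := by
      rcases hA with e | e | e | e
      · exact ⟨0, by norm_num, I.σ_inj (by rw [e, cD_zero, map_one])⟩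
      · exact ⟨1, by norm_num, I.σ_inj (by rw [e, I.σ_cD (by norm_num) (by norm_num), χ.z_eq])⟩
      · exact ⟨2, by norm_num, I.σ_inj (by rw [e, I.σ_cD (by norm_num) (by norm_num)])⟩
      · exact ⟨3, by norm_num, I.σ_inj (by rw [e, I.σ_three])⟩
    refine ⟨a, ha, ?_⟩
    rw [← (inv_mul_eq_iff_eq_mul.1 e).symm, (cD_central ha x).eq]
  have hfive : ∀ w, w ∈ SwapData.fives → ∀ x : ↥DS, (x : Equiv.Perm (Fin 1782)) = wordOf lP w →
      E.γ x = x := fun w hw x hx =>
    near_five (hnear x) (five_pow w hw hx) (by simp only [← map_mul, five_pow w hw hx, map_one])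
  have hgen : ∀ i, ∀ hi : i < 8, E.γ ⟨lP i, lP_mem_DS hi⟩ = ⟨lP i, lP_mem_DS hi⟩ := by
    intro i hi
    let K : Subgroup ↥DS := E.γ.eqLocus (MonoidHom.id _)
    have hu : ∀ u, u < 6 → wordOf lP (fiveLetters.getD u []) ∈ K.map DS.subtype := by
      intro u hu
      obtain ⟨w, hw, hcase⟩ := (show ∀ u < 6, ∃ w ∈ SwapData.fives,
        fiveLetters.getD u [] = w ∨ fiveLetters.getD u [] = w.reverse by decide +kernel) u hu
      have hmem : wordOf lP w ∈ DS := wordOf_mem fun g hg => lP_mem_DS (sub_lt.2.2.2.1 w hw g hg)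
      have hK : (⟨_, hmem⟩ : ↥DS) ∈ K := hfive w hw _ rfl
      rcases hcase with e | e <;> rw [e]
      · exact ⟨_, hK, rfl⟩
      · have hrev : ∀ l : List ℕ, wordOf lP l.reverse = (wordOf lP l)⁻¹ := by
          intro l
          induction l with
          | nil => simp [wordOf]
          | cons c l ih => simp [wordOf_append, wordOf, ih, lP_inv]
        exact ⟨_, inv_mem hK, by rw [hrev]; rfl⟩
    have hi' : lP i ∈ K.map DS.subtype := by
      have e := swap_eq (eq_gen i hi)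
      rw [wordOf_flatMap, wordOf, wordOf, mul_one] at e
      rw [e]
      exact wordOf_mem fun u hu' => hu u (sub_lt.2.2.2.2 i hi u hu')
    obtain ⟨y, hy, hy'⟩ := hi'
    obtain rfl : y = ⟨lP i, lP_mem_DS hi⟩ := Subtype.ext hy'
    exact hy
  have hid : ∀ x, E.γ x = x := by
    rintro ⟨x, hx⟩
    induction hx using Subgroup.closure_induction with
    | mem a ha => obtain ⟨i, hi, rfl⟩ := ha; exact hgen i hi
    | one => exact map_one E.γ
    | mul a b ha hb iha ihb =>
      rw [show (⟨a * b, mul_mem ha hb⟩ : ↥DS) = ⟨a, ha⟩ * ⟨b, hb⟩ from rfl, map_mul, iha, ihb]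
    | inv a ha iha =>
      rw [show (⟨a⁻¹, inv_mem ha⟩ : ↥DS) = (⟨a, ha⟩ : ↥DS)⁻¹ from rfl, map_inv, iha]
  refine MonoidHom.ext fun x => ?_
  have := congrArg dR (hid x)
  rwa [show E.γ x = dR (E.φ x) from rfl, dR_dR] at this

theorem central_small (I : LIso χ) {e : ↥DS} (he : ∀ x, Commute e x) : ∃ a < 4, e = cD a := by
  have hA : D.InA (χ.κ 2) (I.σ e) :=
    inA_of_centralizing χ.point2 (I.σ_comm e).1 (I.σ_comm e).2 fun w hw => by
      obtain ⟨v, rfl⟩ := I.exists_σ M (D.ctx.central w hw.1).symm hw.2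
      exact (he v).map I.σ
  rcases hA with h | h | h | h
  · exact ⟨0, by norm_num, I.σ_inj (by rw [h, cD_zero, map_one])⟩
  · exact ⟨1, by norm_num, I.σ_inj (by rw [h, I.σ_cD (by norm_num) (by norm_num), χ.z_eq])⟩
  · exact ⟨2, by norm_num, I.σ_inj (by rw [h, I.σ_cD (by norm_num) (by norm_num)])⟩
  · exact ⟨3, by norm_num, I.σ_inj (by rw [h, I.σ_three])⟩

/-- The exchanging letter in the group. -/
theorem exists_rG (I : LIso χ) : ∃ r : G, r * r = 1 ∧ r * D.z * r⁻¹ = χ.κ 2 ∧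
    r * χ.κ 2 * r⁻¹ = D.z ∧ (∀ d, r * I.σ d * r⁻¹ = I.σ (dR d)) ∧
    ∀ d : ↥DS, (d : Equiv.Perm (Fin 1782)) = wordOf lP SwapData.rnWord →
      r * χ.κ 4 * (r * χ.κ 4) * (r * χ.κ 4) = I.σ d := by
  classical
  obtain ⟨h0, E0, hE0⟩ := I.exists_agree M
  have hag : ∀ d, h0 * I.σ d * h0⁻¹ = I.σ (dR d) := fun d => by rw [E0.agree, hE0]
  -- the square
  have hz : Commute (h0 * h0) D.z := mul_inv_eq_iff_eq_mul.1 (by
    rw [show h0 * h0 * D.z * (h0 * h0)⁻¹ = h0 * (h0 * D.z * h0⁻¹) * h0⁻¹ by group, E0.one, E0.two])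
  have ht : Commute (h0 * h0) (χ.κ 2) := mul_inv_eq_iff_eq_mul.1 (by
    rw [show h0 * h0 * χ.κ 2 * (h0 * h0)⁻¹ = h0 * (h0 * χ.κ 2 * h0⁻¹) * h0⁻¹ by group, E0.two, E0.one])
  obtain ⟨e, he⟩ := I.exists_σ M hz ht
  obtain ⟨a, ha, rfl⟩ := I.central_small M (e := e) fun x => mul_inv_eq_iff_eq_mul.1 (I.σ_inj (by
    rw [map_mul, map_mul, map_inv, he,
      show h0 * h0 * I.σ x * (h0 * h0)⁻¹ = h0 * (h0 * I.σ x * h0⁻¹) * h0⁻¹ by group, hag, hag, dR_dR]))
  have hfix : dR (cD a) = cD a := I.σ_inj (by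
    rw [← hag, he]; group)
  have ha' : a = 0 ∨ a = 3 := by
    interval_cases a
    · exact Or.inl rfl
    · rw [dR_one] at hfix
      have := congrArg Subtype.val hfix
      rw [cD_val (by norm_num) (by norm_num), cD_val (by norm_num) (by norm_num)] at this
      exact absurd (I.κP_inj (by norm_num) (by norm_num) this) (by norm_num)
    · rw [dR_two] at hfix
      have := congrArg Subtype.val hfix
      rw [cD_val (by norm_num) (by norm_num), cD_val (by norm_num) (by norm_num)] at this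
      exact absurd (I.κP_inj (by norm_num) (by norm_num) this) (by norm_num)
    · exact Or.inr rfl
  obtain ⟨r, hr2, hrz, hrt, hrag⟩ : ∃ r : G, r * r = 1 ∧ r * D.z * r⁻¹ = χ.κ 2 ∧
      r * χ.κ 2 * r⁻¹ = D.z ∧ ∀ d, r * I.σ d * r⁻¹ = I.σ (dR d) := by
    rcases ha' with rfl | rfl
    · exact ⟨h0, by rw [← he, cD_zero, map_one], E0.one, E0.two, hag⟩
    · refine ⟨h0 * D.z, ?_, ?_, ?_, fun d => ?_⟩
      · calc h0 * D.z * (h0 * D.z) = h0 * D.z * h0⁻¹ * (h0 * h0) * D.z := by group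
          _ = χ.κ 2 * (D.z * χ.κ 2) * D.z := by rw [E0.one, ← he, I.σ_three]
          _ = D.z * (χ.κ 2 * χ.κ 2) * D.z := by
            rw [← mul_assoc, ← χ.point2.comm_zt.eq]; group
          _ = 1 := by rw [χ.point2.sq, mul_one, D.ctx.sq_z]
      · rw [← E0.one]; group
      · rw [show h0 * D.z * χ.κ 2 * (h0 * D.z)⁻¹ = h0 * (D.z * χ.κ 2 * D.z⁻¹) * h0⁻¹ by group,
          χ.point2.comm_zt.eq, mul_inv_cancel_right, E0.two]
      · rw [show h0 * D.z * I.σ d * (h0 * D.z)⁻¹ = h0 * (D.z * I.σ d * D.z⁻¹) * h0⁻¹ by group,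
          ← (I.σ_comm d).1.eq, mul_inv_cancel_right, hag]
  refine ⟨r, hr2, hrz, hrt, hrag, fun d0 hd0 => ?_⟩
  set n := χ.κ 4 with hn
  let m : ↥CS := ⟨κP 4, κP_mem_CS (by norm_num)⟩
  have hm : I.ρ m = n := I.ρ_code (by norm_num) m rfl
  have hnσ : ∀ x, n * I.σ x * n⁻¹ = I.σ (dN x) := by
    intro x
    show n * I.ρ (Subgroup.inclusion DS_le x) * n⁻¹ = I.ρ (Subgroup.inclusion DS_le (dN x))
    rw [← hm, ← map_mul, ← map_inv, ← map_mul]
    exact congrArg I.ρ (Subtype.ext rfl)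
  have hψ : ∀ x, r * n * I.σ x * (r * n)⁻¹ = I.σ (dR (dN x)) := fun x => by
    rw [show r * n * I.σ x * (r * n)⁻¹ = r * (n * I.σ x * n⁻¹) * r⁻¹ by group, hnσ, hrag]
  set c := r * n * (r * n) * (r * n) with hc
  have hcyc : ∀ x, c * I.σ x * c⁻¹ = I.σ (dR (dN (dR (dN (dR (dN x)))))) := fun x => by
    rw [← hψ, ← hψ, ← hψ, hc]; group
  have hd0P : (d0 : Equiv.Perm (Fin 1782)) = rP * κP 4 * (rP * κP 4) * (rP * κP 4) := by
    have e := swap_eq eq_rn
    simp only [wordOf, mul_one, ← mul_assoc, lP_nine] at e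
    rw [hd0, ← e]; simp [rP, mul_assoc]
  have hd0conj : ∀ x, dR (dN (dR (dN (dR (dN x))))) = d0 * x * d0⁻¹ := fun x => by
    refine Subtype.ext ?_
    simp only [dR, dN, MonoidHom.coe_mk, OneHom.coe_mk, Subgroup.coe_mul, Subgroup.coe_inv, hd0P]
    group
  have hd0fix : dR (dN d0) = d0 := by
    refine Subtype.ext ?_
    simp only [dR, dN, MonoidHom.coe_mk, OneHom.coe_mk, hd0P]
    group
  have h12 : dR (dN (cD 1)) = cD 2 := by
    rw [(dN_cD (by norm_num) (by norm_num)).2.2, show conjTab 4 1 = 1 by decide +kernel, dR_one]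
  have h23 : dR (dN (cD 2)) = cD 3 := by
    rw [(dN_cD (by norm_num) (by norm_num)).2.2, show conjTab 4 2 = 3 by decide +kernel, dR_three]
  have h31 : dR (dN (cD 3)) = cD 1 := by
    rw [(dN_cD (by norm_num) (by norm_num)).2.2, show conjTab 4 3 = 2 by decide +kernel, dR_two]
  have hcz : Commute c D.z := by
    have := hcyc (cD 1)
    rw [h12, h23, h31, I.σ_cD (by norm_num) (by norm_num), χ.z_eq] at this
    exact mul_inv_eq_iff_eq_mul.1 this
  have hct : Commute c (χ.κ 2) := by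
    have := hcyc (cD 2)
    rw [h23, h31, h12, I.σ_cD (by norm_num) (by norm_num)] at this
    exact mul_inv_eq_iff_eq_mul.1 this
  obtain ⟨dc, hdc⟩ := I.exists_σ M hcz hct
  have hdcconj : ∀ x, dc * x * dc⁻¹ = d0 * x * d0⁻¹ := fun x => by
    rw [← hd0conj]; exact I.σ_inj (by rw [map_mul, map_mul, map_inv, hdc, hcyc])
  obtain ⟨b, hb, hb'⟩ := I.central_small M (e := d0⁻¹ * dc) fun x => mul_inv_eq_iff_eq_mul.1 (by
    rw [show d0⁻¹ * dc * x * (d0⁻¹ * dc)⁻¹ = d0⁻¹ * (dc * x * dc⁻¹) * d0 by group, hdcconj]; group)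
  have hdcfix : dR (dN dc) = dc := I.σ_inj (by
    rw [← hψ, hdc, hc]; group)
  have hbfix : dR (dN (cD b)) = cD b := by
    rw [← hb', map_mul, map_mul, map_inv, map_inv, hd0fix, hdcfix]
  have hb0 : b = 0 := by
    interval_cases b
    · rfl
    all_goals
      exfalso
      first | rw [h12] at hbfix | rw [h23] at hbfix | rw [h31] at hbfix
      have := congrArg Subtype.val hbfix
      rw [cD_val (by norm_num) (by norm_num), cD_val (by norm_num) (by norm_num)] at this
      exact absurd (I.κP_inj (by norm_num) (by norm_num) this) (by norm_num)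
  rw [hb0, cD_zero, inv_mul_eq_one] at hb'
  rw [hb', hdc]

end LIso

end Cfsg.Lib.Extra.SuzUnique
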