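import Cfsg.Agent.Lib.Extra.Wide.Four
import Cfsg.Agent.Lib.Extra.Wide.Class

/-!
# Exchanging two commuting conjugates of `z`

Some element exchanges `z` and `t`; it exchanges the two cross centralizers, which are recognised
by their commutators.
-/

set_option autoImplicit false
set_option linter.style.haveILetI false
set_option linter.unusedSectionVars false

namespace Cfsg.Lib.Extra.SuzUnique

open Cfsg Module Cfsg.Lib.Linear.Orth Cfsg.Lib.Extra.Wide
open scoped Matrix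

variable {G : Type*} [Group G] {ι : Type} [Fintype ι] [DecidableEq ι] {D : Data G ι} [Finite G]
  {t : G} (hp : D.Point t)
include hp

theorem exists_exchange : ∃ h : G, h * D.z * h⁻¹ = t ∧ h * t * h⁻¹ = D.z := by
  obtain ⟨k, hk⟩ := hp.cl
  have hz' : k⁻¹ * D.z * k ∈ D.Q := by
    have h := hp.mem_snd
    rw [D.Qof_eq hk, mem_map_conj] at h
    exact h
  have hz2 : k⁻¹ * D.z * k * (k⁻¹ * D.z * k) = 1 := by
    calc k⁻¹ * D.z * k * (k⁻¹ * D.z * k) = k⁻¹ * (D.z * D.z) * k := by group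
      _ = 1 := by rw [D.ctx.sq_z]; group
  have hp' : D.Point (k⁻¹ * D.z * k) := by
    refine ⟨hz', hz2, fun e => D.ctx.ne_one ?_, fun e => hp.ne_z ?_⟩
    · calc D.z = k * (k⁻¹ * D.z * k) * k⁻¹ := by group
        _ = 1 := by rw [e]; group
    · calc t = k * D.z * k⁻¹ := hk.symm
        _ = k * (k⁻¹ * D.z * k) * k⁻¹ := by rw [e]
        _ = D.z := by group
  obtain ⟨a, ha, -, hat⟩ := hp'.exists_mover
  obtain ⟨b, hb, -, hbt⟩ := hp.exists_mover
  have haz : a * D.z * a⁻¹ = D.z := by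
    rw [← (D.ctx.central a ha).eq, mul_inv_cancel_right]
  have hbz : b * D.z * b⁻¹ = D.z := by
    rw [← (D.ctx.central b hb).eq, mul_inv_cancel_right]
  set s := k * a * k⁻¹ with hs
  have hst : s * t * s⁻¹ = t := by
    calc s * t * s⁻¹ = k * (a * D.z * a⁻¹) * k⁻¹ := by rw [hs, ← hk]; group
      _ = t := by rw [haz, hk]
  have hsz : s * D.z * s⁻¹ = t * D.z := by
    calc s * D.z * s⁻¹ = k * (a * (k⁻¹ * D.z * k) * a⁻¹) * k⁻¹ := by rw [hs]; group
      _ = k * D.z * k⁻¹ * D.z := by rw [hat]; group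
      _ = _ := by rw [hk]
  have hszt : s * (D.z * t) * s⁻¹ = D.z := by
    calc s * (D.z * t) * s⁻¹ = s * D.z * s⁻¹ * (s * t * s⁻¹) := by group
      _ = t * D.z * t := by rw [hsz, hst]
      _ = D.z := by rw [← hp.comm_zt.eq, mul_assoc, hp.sq, mul_one]
  refine ⟨s * b * s, ?_, ?_⟩
  · calc s * b * s * D.z * (s * b * s)⁻¹ = s * (b * (s * D.z * s⁻¹) * b⁻¹) * s⁻¹ := by group
      _ = s * (b * t * b⁻¹ * (b * D.z * b⁻¹)) * s⁻¹ := by rw [hsz]; group
      _ = t := by
        rw [hbt, hbz, hp.comm_zt.eq, mul_assoc t, D.ctx.sq_z, mul_one, hst]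
  · calc s * b * s * t * (s * b * s)⁻¹ = s * (b * (s * t * s⁻¹) * b⁻¹) * s⁻¹ := by group
      _ = D.z := by rw [hst, hbt, hszt]

/-- An exchanging element exchanges the two cross centralizers. -/
theorem exchange_cq {h : G} (h1 : h * D.z * h⁻¹ = t) (h2 : h * t * h⁻¹ = D.z) (q : G) :
    D.InCQ t q ↔ D.InPQ t (h * q * h⁻¹) := by
  have e : ∀ a : G, Commute (h * q * h⁻¹) (h * a * h⁻¹) ↔ Commute q a := fun a => Commute.conj_iff h
  constructor
  · rintro ⟨hq, hqt⟩
    refine ⟨?_, ?_⟩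
    · rw [← h1]; exact D.Qof_conj D.cl_z h (by rw [D.Qof_self]; exact hq)
    · rw [← h2]; exact (e t).2 hqt
  · rintro ⟨hy, hyz⟩
    refine ⟨?_, (e t).1 (by rwa [h2])⟩
    rw [D.Qof_eq h1, mem_map_conj] at hy
    rwa [show h⁻¹ * (h * q * h⁻¹) * h = q by group] at hy

theorem pq_pairing {q y : G} (hq : D.InCQ t q) (hy : D.InPQ t y) :
    y * q * y⁻¹ = q ∨ y * q * y⁻¹ = D.z * t * q := by
  obtain ⟨v, hv, hyv⟩ := hp.label hy
  rcases bit (D.B (D.cls q) v) with h | h
  · exact Or.inl (mul_inv_eq_iff_eq_mul.2 ((hp.comm hq hy hv hyv).1 h).eq)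
  · exact Or.inr ((hp.comm hq hy hv hyv).2 h)

/-- The elements fixing the classes perpendicular to `t` modulo the point. -/
theorem exists_qy {x : G} (hxz : Commute x D.z) (hxt : Commute x t)
    (h : ∀ w, D.InCQ t w → ∃ a, D.InA t a ∧ x * w * x⁻¹ = a * w) :
    ∃ q y, x = q * y ∧ D.InCQ t q ∧ D.InPQ t y := by
  obtain ⟨v, hv, hxv⟩ := exists_siegel D.space (D.act_iso hxz) hp.cls_sing hp.cls_ne
    (hp.act_fix hxz hxt) fun w hw => by
      obtain ⟨q, hq, rfl⟩ := hp.exists_inCQ hw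
      obtain ⟨a, ha, e⟩ := h q hq
      obtain ⟨α, hα⟩ := hp.cls_inA ha
      refine ⟨α, ?_⟩
      rw [← D.act_cls x hxz q hq.1, e, D.cls_mul _ (hp.inA_mem ha).1 _ hq.1, hα, add_comm]
  obtain ⟨q, y, e, hq, hy, -⟩ := hp.decompose hxz hxt hv hxv
  exact ⟨q, y, e, hq, hy⟩

theorem cq_radical {q : G} (hq : D.InCQ t q) (h : ∀ w, D.InCQ t w → Commute q w) : D.InA t q := by
  obtain ⟨α, hα⟩ := Submodule.mem_span_singleton.1
    (mem_of_perp D.space (Submodule.span (ZMod 2) {D.cls t}) fun b hb => by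
      obtain ⟨w, hw, rfl⟩ := hp.exists_inCQ (hb _ (Submodule.mem_span_singleton_self _))
      exact (D.cls_comm q hq.1 w hw.1).1 (h w hw))
  exact hp.inA_of_cls hq.1 hα.symm

theorem cq_comm_cases {q w : G} (hq : D.InCQ t q) (hw : D.InCQ t w) :
    q * w * q⁻¹ = w ∨ q * w * q⁻¹ = D.z * w := by
  rcases D.ctx.comm q hq.1 w hw.1 with e | e
  · exact Or.inl (mul_inv_eq_one.1 e)
  · exact Or.inr (by rw [← mul_inv_eq_iff_eq_mul]; exact e)

theorem pq_of_comm {x : G} (hxz : Commute x D.z) (hxt : Commute x t)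
    (h : ∀ w, D.InCQ t w → x * w * x⁻¹ = w ∨ x * w * x⁻¹ = D.z * t * w) : D.InPQ t x := by
  obtain ⟨q, y, rfl, hq, hy⟩ := exists_qy hp hxz hxt fun w hw => by
    rcases h w hw with e | e
    exacts [⟨1, Or.inl rfl, by rw [one_mul, e]⟩, ⟨D.z * t, Or.inr (Or.inr (Or.inr rfl)), e⟩]
  have hA : D.InA t q := cq_radical hp hq fun w hw => by
    have hzw : Commute q (D.z * t) := (D.ctx.central q hq.1).symm.mul_right hq.2
    have e0 : q * y * w * (q * y)⁻¹ = q * (y * w * y⁻¹) * q⁻¹ := by group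
    rcases cq_comm_cases hp hq hw with e | e
    · exact mul_inv_eq_iff_eq_mul.1 e
    exfalso
    have ez : ∀ a : G, a * w = w → a = 1 := fun a ha => mul_eq_right.1 ha
    have hzt1 : D.z * t ≠ 1 := hp.z_mul.ne_one
    rcases h w hw with k | k <;> rcases pq_pairing hp hw hy with k' | k' <;> rw [e0, k'] at k
    · rw [e] at k; exact D.ctx.ne_one (ez _ k)
    · rw [show q * (D.z * t * w) * q⁻¹ = q * (D.z * t) * q⁻¹ * (q * w * q⁻¹) by group, hzw.eq,
        mul_inv_cancel_right, e, ← mul_assoc] at k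
      have := ez _ k
      rw [mul_assoc, ← hp.comm_zt.eq, ← mul_assoc, D.ctx.sq_z, one_mul] at this
      exact hp.ne_one this
    · rw [e] at k
      exact hp.ne_one (mul_left_cancel (a := D.z) (by rw [mul_one]; exact (mul_right_cancel k).symm))
    · rw [show q * (D.z * t * w) * q⁻¹ = q * (D.z * t) * q⁻¹ * (q * w * q⁻¹) by group, hzw.eq,
        mul_inv_cancel_right, e, ← mul_assoc] at k
      exact D.ctx.ne_one (mul_eq_left.1 (mul_right_cancel k))
  exact hp.pq_mul (hp.pq_A hA) hy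

theorem inA_of_centralizing {x : G} (hxz : Commute x D.z) (hxt : Commute x t)
    (h : ∀ w, D.InCQ t w → Commute x w) : D.InA t x := by
  have hy := pq_of_comm hp hxz hxt fun w hw => Or.inl (mul_inv_eq_iff_eq_mul.2 (h w hw).eq)
  obtain ⟨v, hv, hyv⟩ := hp.label hy
  refine hp.inA_of_act hy ?_
  obtain ⟨α, hα⟩ := Submodule.mem_span_singleton.1
    (mem_of_perp D.space (Submodule.span (ZMod 2) {D.cls t}) fun b hb => by
      obtain ⟨w, hw, rfl⟩ := hp.exists_inCQ (hb _ (Submodule.mem_span_singleton_self _))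
      rcases bit (D.B v (D.cls w)) with e | e
      · exact e
      exfalso
      have k := (hp.comm hw hy hv hyv).2 (by rw [D.space.symm]; exact e)
      rw [mul_inv_eq_iff_eq_mul.2 (h w hw).eq] at k
      exact hp.z_mul.ne_one (mul_eq_right.1 k.symm))
  rw [hyv, ← hα, siegel_zero D.space hp.cls_sing]

end Cfsg.Lib.Extra.SuzUnique
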