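import Cfsg.Agent.Lib.Extra.SuzUnique.SwapClass
import Cfsg.Agent.Lib.Extra.SuzUnique.SwapGeo

/-!
# The centralizer of two commuting conjugates in the letters

The isomorphism of the letters with `C(z)` carries the group of the eight letters onto
`C(z) ⊓ C(t)` and the classes onto the two cross centralizers.
-/

set_option autoImplicit false
set_option maxRecDepth 20000
set_option linter.style.haveILetI false

namespace Cfsg.Lib.Extra.SuzUnique

open Cfsg Cfsg.Lib.CosetEnum Cfsg.Lib.Extra.Wide Cfsg.Lib.Extra.SuzLocal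

universe u

variable {G : Type u} [Group G] {ι : Type} [Fintype ι] [DecidableEq ι] {D : Data G ι}

/-- The isomorphism of the ten letters with the centralizer of `z`, reading the codes as the chart. -/
structure LIso (χ : Chart D) where
  /-- The map. -/
  ρ : ↥CS →* G
  inj : Function.Injective ρ
  range_eq : ρ.range = Subgroup.centralizer ({D.z} : Set G)
  code : ∀ n < 128, ∃ h : κP n ∈ CS, ρ ⟨κP n, h⟩ = χ.κ n

theorem exists_liso [Finite G] (M : Model D) : ∃ χ : Chart D, Nonempty (LIso χ) := by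
  obtain ⟨χ, ρ, h1, h2, h3⟩ := exists_iso M
  exact ⟨χ, ⟨⟨ρ, h1, h2, h3⟩⟩⟩

variable {χ : Chart D}

theorem Chart.κ_zero (χ : Chart D) : χ.κ 0 = 1 := by
  have h := χ.map_mul (m := 0) (n := 0) (by norm_num) (by norm_num)
  rw [show qMul 0 0 = 0 by decide +kernel] at h
  exact mul_eq_left.1 h.symm

theorem Chart.point2 [Finite G] (χ : Chart D) : D.Point (χ.κ 2) :=
  χ.point (by norm_num) (by norm_num) (by decide +kernel)

theorem Chart.cq_iff [Finite G] (χ : Chart D) {x : G} :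
    D.InCQ (χ.κ 2) x ↔ ∃ n < 128, n / 4 % 2 = 0 ∧ χ.κ n = x := by
  have key : ∀ n < 128, bV (2 / 2) (n / 2) = n / 4 % 2 := by decide +kernel
  constructor
  · intro hx
    obtain ⟨n, hn, rfl⟩ := χ.surj hx.1
    have h := (χ.point2.inCQ_iff hx.1).1 hx
    rw [χ.B_eq (by norm_num) hn, key n hn] at h
    refine ⟨n, hn, ?_, rfl⟩
    rcases Nat.mod_two_eq_zero_or_one (n / 4) with e | e
    · exact e
    · rw [e] at h; exact absurd h (by decide)
  · rintro ⟨n, hn, h, rfl⟩
    rw [χ.point2.inCQ_iff (χ.mem hn), χ.B_eq (by norm_num) hn, key n hn, h, Nat.cast_zero]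

namespace LIso

variable (I : LIso χ)
include I

theorem κP_inj {m n : ℕ} (hm : m < 128) (hn : n < 128) (h : κP m = κP n) : m = n := by
  obtain ⟨h1, e1⟩ := I.code m hm
  obtain ⟨h2, e2⟩ := I.code n hn
  exact χ.inj hm hn (by rw [← e1, ← e2]; exact congrArg I.ρ (Subtype.ext h))

theorem ρ_code {n : ℕ} (hn : n < 128) (x : ↥CS) (hx : x.1 = κP n) : I.ρ x = χ.κ n := by
  obtain ⟨h1, e1⟩ := I.code n hn
  rw [← e1]; exact congrArg I.ρ (Subtype.ext hx)

theorem Qd_inj {a b : ℕ} (ha : a < 16) (hb : b < 16) (h : Near (Qd a) (Qd b)) : a = b :=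
  Qd_inj_of (fun _ hm _ hn => I.κP_inj hm hn) ha hb h

theorem cD_three_ne : cD 3 ≠ 1 := fun e => by
  rw [← cD_zero] at e
  have e' := congrArg Subtype.val e
  rw [cD_val (by norm_num) (by norm_num), cD_val (by norm_num) (by norm_num)] at e'
  exact absurd (I.κP_inj (by norm_num) (by norm_num) e') (by norm_num)

theorem cD_one_ne : cD 1 ≠ 1 := fun e => by
  rw [← cD_zero] at e
  have e' := congrArg Subtype.val e
  rw [cD_val (by norm_num) (by norm_num), cD_val (by norm_num) (by norm_num)] at e'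
  exact absurd (I.κP_inj (by norm_num) (by norm_num) e') (by norm_num)

/-- The map on the group of the eight letters. -/
noncomputable def σ : ↥DS →* G := I.ρ.comp (Subgroup.inclusion DS_le)

theorem σ_inj : Function.Injective I.σ := I.inj.comp (Subgroup.inclusion_injective _)

theorem σ_cD {n : ℕ} (hn : n < 128) (h : n / 4 % 2 = 0) : I.σ (cD n) = χ.κ n :=
  I.ρ_code hn _ (cD_val hn h)

theorem σ_comm (d : ↥DS) : Commute (I.σ d) D.z ∧ Commute (I.σ d) (χ.κ 2) := by
  rw [← χ.z_eq, ← I.σ_cD (n := 1) (by norm_num) (by norm_num),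
    ← I.σ_cD (n := 2) (by norm_num) (by norm_num)]
  exact ⟨((cD_central (show 1 < 4 by norm_num) d).map I.σ).symm,
    ((cD_central (show 2 < 4 by norm_num) d).map I.σ).symm⟩

variable [Finite G] (M : Model D)
include M

theorem card_CS : Nat.card CS = 3317760 := by
  rw [← card_cz M, ← I.range_eq]
  exact Nat.card_congr (MonoidHom.ofInjective I.inj).toEquiv

theorem card_cent_t : Nat.card (Subgroup.centralizer
    ({⟨κP 2, κP_mem_CS (show 2 < 128 by norm_num)⟩} : Set ↥CS)) ≤ 61440 := by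
  classical
  have hC : Nat.card CS = 3317760 := I.card_CS M
  let t : ↥CS := ⟨κP 2, κP_mem_CS (by norm_num)⟩
  let H : Subgroup ↥CS := Subgroup.centralizer ({t} : Set ↥CS)
  obtain ⟨hlen, hnd, horb⟩ := orbit54_ok
  let ent : Fin 54 → ℕ × List ℕ := fun i => SwapData.orbit54[i.1]'(by omega)
  have hent : ∀ i, ent i ∈ SwapData.orbit54 := fun i => List.getElem_mem _
  let wd : Fin 54 → ↥CS := fun i =>
    ⟨wordOf lP (ent i).2, wordOf_mem fun g hg => lP_mem ((horb _ (hent i)).2.1 g hg)⟩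
  have hinj : Function.Injective fun i => (QuotientGroup.mk (wd i) : ↥CS ⧸ H) := by
    intro i j hij
    have hm : ((wd i)⁻¹ * wd j) * t = t * ((wd i)⁻¹ * wd j) :=
      Subgroup.mem_centralizer_singleton_iff.1 (QuotientGroup.eq.1 hij)
    have he : wd i * t * (wd i)⁻¹ = wd j * t * (wd j)⁻¹ := by
      calc wd i * t * (wd i)⁻¹ = wd i * (t * ((wd i)⁻¹ * wd j)) * (wd j)⁻¹ := by group
        _ = _ := by rw [← hm]; group
    have hv : ∀ i, ((wd i * t * (wd i)⁻¹ : ↥CS) : Equiv.Perm (Fin 1782)) = κP (ent i).1 := fun i => by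
      obtain ⟨-, hl, hw⟩ := horb _ (hent i)
      rw [Subgroup.coe_mul, Subgroup.coe_mul, Subgroup.coe_inv,
        (word_code hl (show 2 < 128 by norm_num)).2, hw]
    have h' := congrArg Subtype.val he
    rw [hv, hv] at h'
    have hc := I.κP_inj (horb _ (hent i)).1 (horb _ (hent j)).1 h'
    have hcn : (SwapData.orbit54.map Prod.fst)[i.1]'(by simp; omega) =
        (SwapData.orbit54.map Prod.fst)[j.1]'(by simp; omega) := by simpa [ent] using hc
    exact Fin.ext ((hnd.getElem_inj_iff).1 hcn)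
  have h54 : 54 ≤ H.index := by
    have := Nat.card_le_card_of_injective _ hinj
    rwa [Nat.card_fin] at this
  show Nat.card H ≤ 61440
  have h := H.card_mul_index
  rw [hC] at h
  have := Nat.mul_le_mul_left (Nat.card H) h54
  omega

theorem card_DS_le : Nat.card DS ≤ 61440 := by
  refine le_trans ?_ (I.card_cent_t M)
  rw [← Nat.card_congr (Subgroup.subgroupOfEquivOfLe DS_le).toEquiv]
  exact Subgroup.card_le_of_le fun y hy =>
    Subgroup.mem_centralizer_singleton_iff.2 (Subtype.ext (DS_comm hy).2.eq)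

theorem mem_DS {x : Equiv.Perm (Fin 1782)} (hx : x ∈ CS) (hx2 : Commute x (κP 2)) : x ∈ DS := by
  classical
  let t : ↥CS := ⟨κP 2, κP_mem_CS (by norm_num)⟩
  let H : Subgroup ↥CS := Subgroup.centralizer ({t} : Set ↥CS)
  have hH : Nat.card H ≤ 61440 := I.card_cent_t M
  have hle : DS.subgroupOf CS ≤ H := fun y hy =>
    Subgroup.mem_centralizer_singleton_iff.2 (Subtype.ext (DS_comm hy).2.eq)
  have heq : DS.subgroupOf CS = H := Subgroup.eq_of_le_of_card_ge hle (by
    rw [Nat.card_congr (Subgroup.subgroupOfEquivOfLe DS_le).toEquiv]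
    exact hH.trans card_DS)
  have : (⟨x, hx⟩ : ↥CS) ∈ DS.subgroupOf CS := by
    rw [heq]; exact Subgroup.mem_centralizer_singleton_iff.2 (Subtype.ext hx2.eq)
  exact this

theorem exists_σ {g : G} (hz : Commute g D.z) (ht : Commute g (χ.κ 2)) : ∃ d, I.σ d = g := by
  obtain ⟨⟨x, hx⟩, rfl⟩ : ∃ x, I.ρ x = g := by
    have : g ∈ I.ρ.range := I.range_eq ▸ Subgroup.mem_centralizer_singleton_iff.2 hz.eq
    exact this
  have h2 : Commute x (κP 2) := by
    have e : (⟨x, hx⟩ : ↥CS) * ⟨κP 2, κP_mem_CS (by norm_num)⟩ =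
        ⟨κP 2, κP_mem_CS (by norm_num)⟩ * ⟨x, hx⟩ := I.inj (by
      rw [map_mul, map_mul, I.ρ_code (n := 2) (by norm_num) ⟨κP 2, _⟩ rfl]; exact ht.eq)
    exact congrArg Subtype.val e
  exact ⟨⟨x, I.mem_DS M hx h2⟩, rfl⟩

theorem cq_class {d : ↥DS} (hd : D.InCQ (χ.κ 2) (I.σ d)) : ∃ k < 16, Near d (Qd k) := by
  obtain ⟨n, hn, h, e⟩ := χ.cq_iff.1 hd
  have : d = cD n := I.σ_inj (by rw [I.σ_cD hn h, e])
  exact ⟨n / 8, by omega, this ▸ near_code hn h⟩

omit M in
theorem Qd_cq {k : ℕ} (hk : k < 16) : D.InCQ (χ.κ 2) (I.σ (Qd k)) :=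
  χ.cq_iff.2 ⟨8 * k, (Qd_code hk).1, (Qd_code hk).2, (I.σ_cD (Qd_code hk).1 (Qd_code hk).2).symm⟩

omit M in
theorem σ_three : I.σ (cD 3) = D.z * χ.κ 2 := by
  rw [I.σ_cD (by norm_num) (by norm_num), ← χ.z_eq, ← χ.map_mul (by norm_num) (by norm_num),
    show qMul 1 2 = 3 by decide +kernel]

theorem Pd_pq {k : ℕ} (hk : k < 16) : D.InPQ (χ.κ 2) (I.σ (Pd k)) := by
  refine pq_of_comm χ.point2 (I.σ_comm _).1 (I.σ_comm _).2 fun w hw => ?_
  obtain ⟨d, rfl⟩ := I.exists_σ M (D.ctx.central w hw.1).symm hw.2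
  obtain ⟨l, hl, hdl⟩ := I.cq_class M hw
  have h := (pairing k hk l hl).near (Near.refl _) hdl
  unfold Pair at h
  rw [← map_inv, ← map_mul, ← map_mul, h, map_mul]
  rcases bit ((bW (lab k) l : ℕ) : ZMod 2) with e | e <;> rw [e]
  · exact Or.inl (by rw [pick_zero, map_one, one_mul])
  · exact Or.inr (by rw [pick_one, I.σ_three])

theorem pq_class {d : ↥DS} (hd : D.InPQ (χ.κ 2) (I.σ d)) : ∃ k < 16, Near d (Pd k) := by
  have hZ := cD_central (show 3 < 4 by norm_num)
  have hZ2 := cD_small_sq (show 3 < 4 by norm_num)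
  have hpair : ∀ l < 16, ∃ e < 2, Pair (cD 3) d (Qd l) ((e : ℕ) : ZMod 2) := by
    intro l hl
    rcases pq_pairing χ.point2 (I.Qd_cq hl) hd with h | h
    · exact ⟨0, by norm_num, I.σ_inj (by
        rw [map_mul, map_mul, map_inv, h, Nat.cast_zero, pick_zero, one_mul])⟩
    · exact ⟨1, by norm_num, I.σ_inj (by
        rw [map_mul, map_mul, map_inv, h, Nat.cast_one, pick_one, map_mul, I.σ_three])⟩
  have hb : ∀ i < 4, 2 ^ i < 16 := by decide
  obtain ⟨e0, he0, p0⟩ := hpair _ (hb 0 (by norm_num))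
  obtain ⟨e1, he1, p1⟩ := hpair _ (hb 1 (by norm_num))
  obtain ⟨e2, he2, p2⟩ := hpair _ (hb 2 (by norm_num))
  obtain ⟨e3, he3, p3⟩ := hpair _ (hb 3 (by norm_num))
  obtain ⟨k, hk, hk'⟩ := List.any_eq_true.1 ((show ∀ a < 2, ∀ b < 2, ∀ c < 2, ∀ e < 2,
    (List.range 16).any (fun k => Nat.beq (bW (lab k) (2 ^ 0)) a && Nat.beq (bW (lab k) (2 ^ 1)) b &&
      Nat.beq (bW (lab k) (2 ^ 2)) c && Nat.beq (bW (lab k) (2 ^ 3)) e) = true by decide +kernel)
      e0 he0 e1 he1 e2 he2 e3 he3)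
  simp only [Bool.and_eq_true, Nat.beq_eq] at hk'
  obtain ⟨⟨⟨k0, k1⟩, k2⟩, k3⟩ := hk'
  replace hk := List.mem_range.1 hk
  refine ⟨k, hk, ?_⟩
  have hall : ∀ l < 16, Pair (cD 3) d (Qd l) ((bW (lab k) l : ℕ) : ZMod 2) := by
    refine of_basis ?_ ?_ ?_
    · rw [(show ∀ k < 16, bW (lab k) 0 = 0 by decide +kernel) k hk]
      simp [Pair, Qd, cD_zero]
    · intro i hi
      interval_cases i
      exacts [k0 ▸ p0, k1 ▸ p1, k2 ▸ p2, k3 ▸ p3]
    · intro a ha b hb pa pb
      rw [(bW_add _ (lab_facts.1 k hk).1 a ha b hb).1]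
      exact (pa.mul_right hZ hZ2 pb).near (Near.refl _) (Qd_xor ha hb).2.symm
  have hA : D.InA (χ.κ 2) (I.σ (d * (Pd k)⁻¹)) := by
    refine inA_of_centralizing χ.point2 (I.σ_comm _).1 (I.σ_comm _).2 fun w hw => ?_
    obtain ⟨v, rfl⟩ := I.exists_σ M (D.ctx.central w hw.1).symm hw.2
    obtain ⟨l, hl, hvl⟩ := I.cq_class M hw
    have hPi : Near (Pd k)⁻¹ (Pd k) := by
      have h := (Near.refl (Pd k)⁻¹).mul (Pd_sq hk)
      rw [inv_mul_cancel_left, mul_one] at h
      exact h.symm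
    have h1 := ((hall l hl).mul_left hZ hZ2 ((pairing k hk l hl).near hPi (Near.refl _))).near
      (Near.refl _) hvl
    rw [bit_self, Pair, pick_zero, one_mul, mul_inv_eq_iff_eq_mul] at h1
    exact ((show Commute (d * (Pd k)⁻¹) v from h1).map I.σ)
  have hcase : ∃ a < 4, I.σ (d * (Pd k)⁻¹) = I.σ (cD a) := by
    rcases hA with e | e | e | e
    · exact ⟨0, by norm_num, by rw [e, cD_zero, map_one]⟩
    · exact ⟨1, by norm_num, by rw [e, I.σ_cD (by norm_num) (by norm_num), χ.z_eq]⟩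
    · exact ⟨2, by norm_num, by rw [e, I.σ_cD (by norm_num) (by norm_num)]⟩
    · exact ⟨3, by norm_num, by rw [e, I.σ_three]⟩
  obtain ⟨a, ha, e⟩ := hcase
  exact ⟨a, ha, by rw [← I.σ_inj e]; group⟩

end LIso

end Cfsg.Lib.Extra.SuzUnique
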