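import Cfsg.Agent.Lib.Extra.SuzUnique.SwapData.Data
import Cfsg.Agent.Lib.Extra.SuzUnique.PermData.Data
import Cfsg.Agent.Lib.Extra.SuzUnique.CodeData.Data
import Cfsg.Agent.Lib.Extra.SuzUnique.PermChecks
import Cfsg.Agent.Lib.CosetEnum.BaseFix

/-!
# The checks on the centralizer of two commuting conjugates

Equations between words in the eleven permutations, read on every point, and finite facts about
the classes modulo the four group.
-/

set_option autoImplicit false
set_option maxRecDepth 20000

namespace Cfsg.Lib.Extra.SuzUnique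

open Cfsg.Lib.CosetEnum

/-- The letters of a code. -/
def cwL (n : ℕ) : List ℕ := (cw n).flatMap fun i => PermData.colWords.getD i []

/-- The label of a class. -/
def lab (k : ℕ) : ℕ := SwapData.labelMap.getD k 0

/-- The form on the classes. -/
def bW (i j : ℕ) : ℕ := bV (4 * i) (4 * j)

/-- The words in the elements of order five and their inverses. -/
def fiveLetters : List (List ℕ) := SwapData.fives ++ SwapData.fives.map List.reverse

/-- The basis codes other than the code 4. -/
def codeBasis : List ℕ := [8, 16, 32, 64, 2, 1]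

/-- The equations between words in the eleven letters. -/
def swapEqs : List (List ℕ × List ℕ) :=
  ((List.range 8).map fun i => ([10, i, 10], SwapData.rWords.getD i [])) ++
  ((List.range 8).map fun i => ([9, i, 9], SwapData.nWords.getD i [])) ++
  [([10, 9, 10, 9, 10, 9], SwapData.rnWord)] ++
  [([10] ++ cwL 1 ++ [10], cwL 2)] ++
  (SwapData.fives.map fun w => (w ++ w ++ w ++ w ++ w, [])) ++
  ((List.range 8).map fun i =>
    ([i], (SwapData.fiveWords.getD i []).flatMap fun u => fiveLetters.getD u [])) ++
  ((List.range 4).flatMap fun i => (List.range 4).map fun j =>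
    ([10] ++ cwL (8 * 2 ^ i) ++ [10] ++ cwL (8 * 2 ^ j),
      cwL (qMul (if Nat.beq (bW (lab (2 ^ i)) (2 ^ j)) 1 then 3 else 0) (8 * 2 ^ j)) ++
        [10] ++ cwL (8 * 2 ^ i) ++ [10])) ++
  ((List.range 4).map fun i => ([9, 10] ++ cwL (8 * 2 ^ i) ++ [10, 9],
    [10] ++ cwL (8 * 2 ^ i) ++ [10] ++ cwL (8 * lab (2 ^ i)) ++
      cwL (SwapData.nCorr.getD (2 ^ i) 0))) ++
  ((List.range 6).map fun i => (cwL (codeBasis.getD i 0), SwapData.codeWords.getD i []))

/-- The equations, reversed. -/
def swapEqsRev : List (List ℕ × List ℕ) := swapEqs.map fun e => (e.1.reverse, e.2.reverse)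

/-- The checks at a range of points. -/
noncomputable def swapOK : Nat → Nat → Bool
  | 0, _ => true
  | m + 1, i => force i fun i =>
      (swapEqsRev.all fun e =>
        Nat.beq (twalk PermData.tabL 11 e.1 i) (twalk PermData.tabL 11 e.2 i)) &&
      swapOK m (i + 1)

theorem swap0 : swapOK 450 0 = true := by decide +kernel
theorem swap1 : swapOK 450 450 = true := by decide +kernel
theorem swap2 : swapOK 450 900 = true := by decide +kernel
theorem swap3 : swapOK 432 1350 = true := by decide +kernel

theorem dbase_ok : BaseOK PermData.tabL 11 1782 SwapData.levels := by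
  refine ⟨?_, ?_, ?_, ?_, ?_, ?_, ?_, ?_, trivial⟩ <;> decide +kernel

theorem dbase_size : baseSize SwapData.levels = 61440 := by decide +kernel

theorem dwords_lt : ∀ L ∈ SwapData.levels, ∀ u ∈ L.U, ∀ g ∈ u, g < 8 := by decide +kernel

theorem swap_lt : ∀ e ∈ swapEqs, (∀ g ∈ e.1, g < 11) ∧ (∀ g ∈ e.2, g < 11) := by decide +kernel

theorem orbit54_ok : SwapData.orbit54.length = 54 ∧ (SwapData.orbit54.map Prod.fst).Nodup ∧
    ∀ e ∈ SwapData.orbit54, e.1 < 128 ∧ (∀ g ∈ e.2, g < 10) ∧
      twalk CodeData.tabT 10 e.2.reverse 2 = e.1 := by decide +kernel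

end Cfsg.Lib.Extra.SuzUnique
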