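import Cfsg.Agent.Lib.Extra.SuzUnique.SwapPerm

/-!
# The classes modulo the four group

Inside the group of the eight letters the codes commuting with the code 2 give sixteen classes
modulo the codes 0..3; their conjugates by the exchanging letter give sixteen more.
-/

set_option autoImplicit false
set_option maxRecDepth 20000

namespace Cfsg.Lib.Extra.SuzUnique

open Cfsg.Lib.CosetEnum Cfsg.Lib.Extra.Wide

theorem of_basis {P : ℕ → Prop} (h0 : P 0) (h1 : ∀ i < 4, P (2 ^ i))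
    (hadd : ∀ a < 16, ∀ b < 16, P a → P b → P (a ^^^ b)) : ∀ k < 16, P k := by
  have hstep : ∀ i < 4, ∀ a < 16, P a → P (a ^^^ 2 ^ i) := fun i hi a ha hPa =>
    hadd a ha _ ((show ∀ i < 4, 2 ^ i < 16 by decide) i hi) hPa (h1 i hi)
  intro k hk
  suffices ∀ m, ∀ k < 16, k < 2 ^ m → m ≤ 4 → P k from this 4 k hk hk le_rfl
  intro m
  induction m with
  | zero => intro k _ hk _; obtain rfl : k = 0 := by simpa using hk
            exact h0
  | succ m ih =>
    intro k hk16 hk hm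
    rcases lt_or_ge k (2 ^ m) with h | h
    · exact ih k hk16 h (by omega)
    · obtain ⟨h1', h2', h3'⟩ := (show ∀ m < 4, ∀ k < 16, k < 2 ^ (m + 1) → 2 ^ m ≤ k →
        k ^^^ 2 ^ m < 2 ^ m ∧ k ^^^ 2 ^ m < 16 ∧ k ^^^ 2 ^ m ^^^ 2 ^ m = k by decide) m (by omega) k
          hk16 hk h
      rw [← h3']
      exact hstep m (by omega) _ h2' (ih _ h2' h1' (by omega))

/-- A code as an element of the group of the eight letters. -/
noncomputable def cD (n : ℕ) : ↥DS :=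
  if h : n < 128 ∧ n / 4 % 2 = 0 then ⟨κP n, κP_mem_DS h.1 h.2⟩ else 1

theorem cD_val {n : ℕ} (hn : n < 128) (h : n / 4 % 2 = 0) : (cD n : Equiv.Perm (Fin 1782)) = κP n := by
  rw [cD, dif_pos ⟨hn, h⟩]

theorem cD_mul {m n : ℕ} (hm : m < 128) (h : m / 4 % 2 = 0) (hn : n < 128) (h' : n / 4 % 2 = 0) :
    cD (qMul m n) = cD m * cD n := by
  have h'' := (show ∀ m < 128, ∀ n < 128, m / 4 % 2 = 0 → n / 4 % 2 = 0 → qMul m n / 4 % 2 = 0 by
    decide +kernel) m hm n hn h h'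
  refine Subtype.ext ?_
  rw [Subgroup.coe_mul, cD_val hm h, cD_val hn h', cD_val (qMul_lt m hm n hn) h'', κP_mul m hm n hn]

theorem cD_zero : cD 0 = 1 := Subtype.ext (by rw [cD_val (by norm_num) (by norm_num), κP_zero]; rfl)

theorem small_code {a : ℕ} (ha : a < 4) : a < 128 ∧ a / 4 % 2 = 0 := ⟨by omega, by omega⟩

theorem cD_small_mul {a b : ℕ} (ha : a < 4) (hb : b < 4) :
    qMul a b < 4 ∧ cD a * cD b = cD (qMul a b) :=
  ⟨(show ∀ a < 4, ∀ b < 4, qMul a b < 4 by decide +kernel) a ha b hb,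
    (cD_mul (small_code ha).1 (small_code ha).2 (small_code hb).1 (small_code hb).2).symm⟩

theorem cD_small_sq {a : ℕ} (ha : a < 4) : cD a * cD a = 1 := by
  rw [(cD_small_mul ha ha).2, (show ∀ a < 4, qMul a a = 0 by decide +kernel) a ha, cD_zero]

theorem cD_central {a : ℕ} (ha : a < 4) (x : ↥DS) : Commute (cD a) x := by
  have h12 : ∀ b, b = 1 ∨ b = 2 → Commute (cD b) x := by
    intro b hb
    refine Subtype.ext ?_
    rw [Subgroup.coe_mul, Subgroup.coe_mul, cD_val (by omega) (by omega)]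
    rcases hb with rfl | rfl
    exacts [(DS_comm x.2).1.symm.eq, (DS_comm x.2).2.symm.eq]
  have h3 : cD 3 = cD 1 * cD 2 := by
    rw [← cD_mul (by norm_num) (by norm_num) (by norm_num) (by norm_num),
      show qMul 1 2 = 3 by decide +kernel]
  interval_cases a
  · rw [cD_zero]; exact Commute.one_left _
  · exact h12 1 (Or.inl rfl)
  · exact h12 2 (Or.inr rfl)
  · rw [h3]; exact (h12 1 (Or.inl rfl)).mul_left (h12 2 (Or.inr rfl))

/-- Equality modulo the four group. -/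
def Near (x y : ↥DS) : Prop := ∃ a < 4, x = cD a * y

theorem Near.refl (x : ↥DS) : Near x x := ⟨0, by norm_num, by rw [cD_zero, one_mul]⟩

theorem near_of_eq {x y : ↥DS} (h : x = y) : Near x y := h ▸ Near.refl x

theorem Near.symm {x y : ↥DS} (h : Near x y) : Near y x := by
  obtain ⟨a, ha, rfl⟩ := h
  exact ⟨a, ha, by rw [← mul_assoc, cD_small_sq ha, one_mul]⟩

theorem Near.trans {x y w : ↥DS} (h : Near x y) (h' : Near y w) : Near x w := by
  obtain ⟨a, ha, rfl⟩ := h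
  obtain ⟨b, hb, rfl⟩ := h'
  obtain ⟨hc, e⟩ := cD_small_mul ha hb
  exact ⟨_, hc, by rw [← mul_assoc, e]⟩

theorem Near.mul {x y x' y' : ↥DS} (h : Near x y) (h' : Near x' y') : Near (x * x') (y * y') := by
  obtain ⟨a, ha, rfl⟩ := h
  obtain ⟨b, hb, rfl⟩ := h'
  obtain ⟨hc, e⟩ := cD_small_mul ha hb
  refine ⟨_, hc, ?_⟩
  calc cD a * y * (cD b * y') = cD a * (y * cD b) * y' := by group
    _ = cD a * (cD b * y) * y' := by rw [(cD_central hb y).eq]
    _ = _ := by rw [← e]; group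

theorem Near.sq_eq {x y : ↥DS} (h : Near x y) : x * x = y * y := by
  obtain ⟨a, ha, rfl⟩ := h
  calc cD a * y * (cD a * y) = cD a * (y * cD a) * y := by group
    _ = cD a * (cD a * y) * y := by rw [(cD_central ha y).eq]
    _ = _ := by rw [← mul_assoc, cD_small_sq ha, one_mul]

/-- An endomorphism preserving the four group. -/
def FixA (φ : ↥DS →* ↥DS) : Prop := ∀ a < 4, ∃ b < 4, φ (cD a) = cD b

theorem fixA_of {φ : ↥DS →* ↥DS} (h1 : ∃ b < 4, φ (cD 1) = cD b) (h2 : ∃ b < 4, φ (cD 2) = cD b) :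
    FixA φ := by
  obtain ⟨b, hb, e⟩ := h1
  obtain ⟨c, hc, e'⟩ := h2
  intro a ha
  interval_cases a
  · exact ⟨0, by norm_num, by rw [cD_zero, map_one]⟩
  · exact ⟨b, hb, e⟩
  · exact ⟨c, hc, e'⟩
  · obtain ⟨hd, ed⟩ := cD_small_mul hb hc
    refine ⟨_, hd, ?_⟩
    rw [← ed, ← e, ← e', ← map_mul,
      (cD_small_mul (show 1 < 4 by norm_num) (show 2 < 4 by norm_num)).2,
      show qMul 1 2 = 3 by decide +kernel]

theorem Near.map {φ : ↥DS →* ↥DS} (hφ : FixA φ) {x y : ↥DS} (h : Near x y) : Near (φ x) (φ y) := by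
  obtain ⟨a, ha, rfl⟩ := h
  obtain ⟨b, hb, e⟩ := hφ a ha
  exact ⟨b, hb, by rw [map_mul, e]⟩

/-- Conjugation by the exchanging letter. -/
noncomputable def dR : ↥DS →* ↥DS where
  toFun x := ⟨rP * x * rP⁻¹, rP_conj x.2⟩
  map_one' := Subtype.ext (by simp)
  map_mul' x y := Subtype.ext (by simp [mul_assoc])

/-- Conjugation by the code 4. -/
noncomputable def dN : ↥DS →* ↥DS where
  toFun x := ⟨κP 4 * x * (κP 4)⁻¹, nP_conj x.2⟩
  map_one' := Subtype.ext (by simp)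
  map_mul' x y := Subtype.ext (by simp [mul_assoc])

theorem dR_dR (x : ↥DS) : dR (dR x) = x := by
  refine Subtype.ext ?_
  show rP * (rP * x * rP⁻¹) * rP⁻¹ = x
  rw [show rP⁻¹ = rP from inv_eq_of_mul_eq_one_right rP_sq]
  simp only [← mul_assoc, rP_sq, one_mul]
  rw [mul_assoc, rP_sq, mul_one]

theorem dR_one : dR (cD 1) = cD 2 := Subtype.ext (by
  show rP * (cD 1 : Equiv.Perm (Fin 1782)) * rP⁻¹ = _
  rw [cD_val (by norm_num) (by norm_num), cD_val (by norm_num) (by norm_num), rP_one])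

theorem dR_two : dR (cD 2) = cD 1 := by rw [← dR_one, dR_dR]

theorem dR_three : dR (cD 3) = cD 3 := by
  have h : cD 3 = cD 1 * cD 2 := by
    rw [(cD_small_mul (show 1 < 4 by norm_num) (show 2 < 4 by norm_num)).2,
      show qMul 1 2 = 3 by decide +kernel]
  conv_lhs => rw [h, map_mul, dR_one, dR_two, ← (cD_central (show 1 < 4 by norm_num) _).eq, ← h]

theorem fixA_dR : FixA dR := fixA_of ⟨2, by norm_num, dR_one⟩ ⟨1, by norm_num, dR_two⟩

theorem dN_cD {n : ℕ} (hn : n < 128) (h : n / 4 % 2 = 0) :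
    conjTab 4 n < 128 ∧ conjTab 4 n / 4 % 2 = 0 ∧ dN (cD n) = cD (conjTab 4 n) := by
  obtain ⟨h1, h2⟩ := (show ∀ n < 128, n / 4 % 2 = 0 →
    conjTab 4 n < 128 ∧ conjTab 4 n / 4 % 2 = 0 by decide +kernel) n hn h
  refine ⟨h1, h2, Subtype.ext ?_⟩
  show κP 4 * (cD n : Equiv.Perm (Fin 1782)) * (κP 4)⁻¹ = _
  rw [cD_val hn h, cD_val h1 h2, κP_conj (by norm_num) hn]

theorem fixA_dN : FixA dN := by
  refine fixA_of ⟨conjTab 4 1, by decide +kernel, ?_⟩ ⟨conjTab 4 2, by decide +kernel, ?_⟩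
  exacts [(dN_cD (by norm_num) (by norm_num)).2.2, (dN_cD (by norm_num) (by norm_num)).2.2]

/-- The classes. -/
noncomputable def Qd (k : ℕ) : ↥DS := cD (8 * k)

/-- The conjugate classes. -/
noncomputable def Pd (k : ℕ) : ↥DS := dR (Qd k)

theorem Qd_code {k : ℕ} (hk : k < 16) : 8 * k < 128 ∧ 8 * k / 4 % 2 = 0 :=
  ⟨by omega, by omega⟩

theorem near_code {n : ℕ} (hn : n < 128) (h : n / 4 % 2 = 0) : Near (cD n) (Qd (n / 8)) := by
  obtain ⟨a, ha, e⟩ := (show ∀ n < 128, n / 4 % 2 = 0 → ∃ a < 4, qMul a (8 * (n / 8)) = n by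
    decide +kernel) n hn h
  exact ⟨a, ha, by
    rw [Qd, ← cD_mul (small_code ha).1 (small_code ha).2 (by omega) (by omega), e]⟩

theorem Qd_xor {a b : ℕ} (ha : a < 16) (hb : b < 16) :
    a ^^^ b < 16 ∧ Near (Qd a * Qd b) (Qd (a ^^^ b)) := by
  obtain ⟨h1, h2, h3, h4⟩ := (show ∀ a < 16, ∀ b < 16, a ^^^ b < 16 ∧
    qMul (8 * a) (8 * b) < 128 ∧ qMul (8 * a) (8 * b) / 4 % 2 = 0 ∧
    qMul (8 * a) (8 * b) / 8 = a ^^^ b by decide +kernel) a ha b hb
  refine ⟨h1, ?_⟩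
  have h := near_code h2 h3
  rw [h4] at h
  rwa [Qd, Qd, ← cD_mul (Qd_code ha).1 (Qd_code ha).2 (Qd_code hb).1 (Qd_code hb).2]

theorem Pd_xor {a b : ℕ} (ha : a < 16) (hb : b < 16) : Near (Pd a * Pd b) (Pd (a ^^^ b)) := by
  rw [Pd, Pd, ← map_mul]; exact (Qd_xor ha hb).2.map fixA_dR

theorem Pd_sq {a : ℕ} (ha : a < 16) : Near (Pd a * Pd a) 1 := by
  have h := Pd_xor ha ha
  rwa [Nat.xor_self, show Pd 0 = 1 by rw [Pd, Qd, mul_zero, cD_zero, map_one]] at h

/-- The commutator of two elements is a power of the given one. -/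
def Pair (Z x w : ↥DS) (e : ZMod 2) : Prop := x * w * x⁻¹ = pick Z e * w

section Pair

variable {Z x x' w w' : ↥DS} {e e' : ZMod 2}

theorem pick_central (hZ : ∀ u, Commute Z u) (e : ZMod 2) (u : ↥DS) : Commute (pick Z e) u :=
  pick_comm (hZ u) e

theorem Pair.mul_right (hZ : ∀ u, Commute Z u) (hZ2 : Z * Z = 1) (h : Pair Z x w e)
    (h' : Pair Z x w' e') : Pair Z x (w * w') (e + e') := by
  unfold Pair at *
  calc x * (w * w') * x⁻¹ = x * w * x⁻¹ * (x * w' * x⁻¹) := by group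
    _ = pick Z e * (w * pick Z e') * w' := by rw [h, h']; group
    _ = pick Z e * (pick Z e' * w) * w' := by rw [(pick_central hZ e' w).eq]
    _ = _ := by rw [← pick_add hZ2]; group

theorem Pair.mul_left (hZ : ∀ u, Commute Z u) (hZ2 : Z * Z = 1) (h : Pair Z x w e)
    (h' : Pair Z x' w e') : Pair Z (x * x') w (e + e') := by
  unfold Pair at *
  calc x * x' * w * (x * x')⁻¹ = x * (x' * w * x'⁻¹) * x⁻¹ := by group
    _ = x * pick Z e' * w * x⁻¹ := by rw [h']; group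
    _ = pick Z e' * x * w * x⁻¹ := by rw [(pick_central hZ e' x).eq]
    _ = pick Z e' * (pick Z e * w) := by rw [mul_assoc, mul_assoc, ← mul_assoc x, h]
    _ = _ := by rw [← mul_assoc, pick_add hZ2, add_comm]

theorem Pair.near (h : Pair Z x w e) (hx : Near x' x) (hw : Near w' w) : Pair Z x' w' e := by
  unfold Pair at *
  obtain ⟨a, ha, rfl⟩ := hx
  obtain ⟨b, hb, rfl⟩ := hw
  calc cD a * x * (cD b * w) * (cD a * x)⁻¹ = cD a * (x * cD b) * w * x⁻¹ * (cD a)⁻¹ := by group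
    _ = cD a * (cD b * x) * w * x⁻¹ * (cD a)⁻¹ := by rw [(cD_central hb x).eq]
    _ = cD a * (cD b * (x * w * x⁻¹)) * (cD a)⁻¹ := by group
    _ = cD b * (x * w * x⁻¹) := by rw [(cD_central ha _).eq, mul_inv_cancel_right]
    _ = cD b * pick Z e * w := by rw [h, mul_assoc]
    _ = _ := by rw [(cD_central hb (pick Z e)).eq, mul_assoc]

theorem Pair.uniq (hZ1 : Z ≠ 1) (h : Pair Z x w e) (h' : Pair Z x w e') : e = e' := by
  have k : pick Z e = pick Z e' := mul_right_cancel (h.symm.trans h')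
  rcases bit e with rfl | rfl <;> rcases bit e' with rfl | rfl <;>
    simp only [pick_zero, pick_one] at k
  exacts [rfl, absurd k.symm hZ1, absurd k hZ1, rfl]

theorem Pair.map (h : Pair Z x w e) (φ : ↥DS →* ↥DS) : Pair (φ Z) (φ x) (φ w) e := by
  unfold Pair at *
  rw [← map_inv, ← map_mul, ← map_mul, h, map_mul]
  rcases bit e with rfl | rfl <;> simp

end Pair

theorem bW_add : ∀ a < 16, ∀ b < 16, ∀ c < 16,
    ((bW a (b ^^^ c) : ℕ) : ZMod 2) = (bW a b : ZMod 2) + (bW a c : ZMod 2) ∧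
    ((bW (a ^^^ b) c : ℕ) : ZMod 2) = (bW a c : ZMod 2) + (bW b c : ZMod 2) := by decide +kernel

theorem lab_facts : (∀ k < 16, lab k < 16 ∧ lab (lab k) = k) ∧
    ∀ a < 16, ∀ b < 16, lab (a ^^^ b) = lab a ^^^ lab b := by decide +kernel

theorem bW_nondeg : ∀ a < 16, ∀ b < 16, (∀ i < 4, bW a (2 ^ i) = bW b (2 ^ i)) → a = b := by
  decide +kernel

theorem bW_lt : ∀ a < 16, ∀ b < 16, bW a b < 2 := by decide +kernel

theorem cast_bit {m n : ℕ} (hm : m < 2) (hn : n < 2) (h : (m : ZMod 2) = (n : ZMod 2)) : m = n := by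
  interval_cases m <;> interval_cases n <;> simp_all

theorem pairing : ∀ k < 16, ∀ l < 16, Pair (cD 3) (Pd k) (Qd l) (bW (lab k) l : ZMod 2) := by
  have hZ := cD_central (show 3 < 4 by norm_num)
  have hZ2 := cD_small_sq (show 3 < 4 by norm_num)
  have h00 : ∀ x, Pair (cD 3) x (Qd 0) 0 := fun x => by
    simp [Pair, Qd, cD_zero]
  have hbase : ∀ i < 4, ∀ j < 4, Pair (cD 3) (Pd (2 ^ i)) (Qd (2 ^ j)) (bW (lab (2 ^ i)) (2 ^ j) : ZMod 2) := by
    intro i hi j hj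
    have hi16 := (show ∀ i < 4, 2 ^ i < 16 by decide) i hi
    have hj16 := (show ∀ i < 4, 2 ^ i < 16 by decide) j hj
    have e := swap_eq (eq_pair i hi j hj)
    simp only [wordOf_append, wordOf, mul_one, wordOf_cwL, ← mul_assoc] at e
    unfold Pair
    rw [mul_inv_eq_iff_eq_mul]
    refine Subtype.ext ?_
    have hri : (rP : Equiv.Perm (Fin 1782))⁻¹ = rP := lP_inv 10
    have hb := bW_lt _ (lab_facts.1 _ hi16).1 _ hj16
    simp only [Subgroup.coe_mul, Pd, dR, MonoidHom.coe_mk, OneHom.coe_mk, Qd,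
      cD_val (Qd_code hi16).1 (Qd_code hi16).2, cD_val (Qd_code hj16).1 (Qd_code hj16).2, hri]
    interval_cases hbw : bW (lab (2 ^ i)) (2 ^ j)
    · rw [Nat.cast_zero, pick_zero, OneMemClass.coe_one, one_mul]
      rw [if_neg (by decide), κP_mul _ (by norm_num) _ (Qd_code hj16).1, κP_zero, one_mul] at e
      simpa [rP, mul_assoc] using e
    · rw [Nat.cast_one, pick_one, cD_val (by norm_num) (by norm_num)]
      rw [if_pos (by decide), κP_mul _ (by norm_num) _ (Qd_code hj16).1] at e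
      simpa [rP, mul_assoc] using e
  intro k hk
  refine of_basis (P := fun k => ∀ l < 16, Pair (cD 3) (Pd k) (Qd l) (bW (lab k) l : ZMod 2))
    ?_ ?_ ?_ k hk
  · intro l hl
    rw [show Pd 0 = 1 by rw [Pd, Qd, mul_zero, cD_zero, map_one],
      (show ∀ l < 16, bW (lab 0) l = 0 by decide +kernel) l hl]
    simp [Pair]
  · intro i hi l hl
    refine of_basis (P := fun l => Pair (cD 3) (Pd (2 ^ i)) (Qd l) (bW (lab (2 ^ i)) l : ZMod 2))
      ?_ (hbase i hi) ?_ l hl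
    · rw [(show ∀ i < 4, bW (lab (2 ^ i)) 0 = 0 by decide +kernel) i hi]; exact_mod_cast h00 _
    · intro a ha b hb pa pb
      rw [(bW_add _ (lab_facts.1 _ ((show ∀ i < 4, 2 ^ i < 16 by decide) i hi)).1 a ha b hb).1]
      exact (pa.mul_right hZ hZ2 pb).near (Near.refl _) (Qd_xor ha hb).2.symm
  · intro a ha b hb pa pb l hl
    rw [lab_facts.2 a ha b hb, (bW_add _ (lab_facts.1 a ha).1 _ (lab_facts.1 b hb).1 l hl).2]
    exact ((pa l hl).mul_left hZ hZ2 (pb l hl)).near (Pd_xor ha hb).symm (Near.refl _)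

theorem Qd_pairing {a b : ℕ} (ha : a < 16) (hb : b < 16) : Pair (cD 1) (Qd a) (Qd b) (bW a b : ZMod 2) := by
  obtain ⟨h1, h2⟩ := (show ∀ a < 16, ∀ b < 16, bW a b < 2 ∧
    qMul (8 * a) (8 * b) = qMul (bW a b) (qMul (8 * b) (8 * a)) ∧ True by decide +kernel) a ha b hb
  unfold Pair
  have hab : ∀ c d, c < 16 → d < 16 → qMul (8 * c) (8 * d) < 128 ∧ qMul (8 * c) (8 * d) / 4 % 2 = 0 :=
    fun c d hc hd => ⟨qMul_lt _ (Qd_code hc).1 _ (Qd_code hd).1, (show ∀ c < 16, ∀ d < 16,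
      qMul (8 * c) (8 * d) / 4 % 2 = 0 by decide +kernel) c hc d hd⟩
  have e : Qd a * Qd b = cD (bW a b) * (Qd b * Qd a) := by
    rw [Qd, Qd, ← cD_mul (Qd_code ha).1 (Qd_code ha).2 (Qd_code hb).1 (Qd_code hb).2,
      ← cD_mul (Qd_code hb).1 (Qd_code hb).2 (Qd_code ha).1 (Qd_code ha).2,
      ← cD_mul (by omega) (by omega) (hab b a hb ha).1 (hab b a hb ha).2, ← h2.1]
  rw [mul_inv_eq_iff_eq_mul, e, mul_assoc]
  interval_cases bW a b
  · rw [cD_zero]; simp
  · simp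

theorem nCorr_lt : ∀ i < 4, SwapData.nCorr.getD (2 ^ i) 0 < 4 := by decide +kernel

theorem commute_near {k l : ℕ} (hk : k < 16) (hl : l < 16) : Near (Pd k * Qd l) (Qd l * Pd k) := by
  have h := pairing k hk l hl
  unfold Pair at h
  rw [mul_inv_eq_iff_eq_mul] at h
  rw [h, mul_assoc]
  rcases bit ((bW (lab k) l : ℕ) : ZMod 2) with e | e <;> rw [e]
  · rw [pick_zero, one_mul]; exact Near.refl _
  · rw [pick_one]; exact ⟨3, by norm_num, rfl⟩

theorem dN_Qd {k : ℕ} (hk : k < 16) : Near (dN (Qd k)) (Qd k) := by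
  obtain ⟨h1, h2, e⟩ := dN_cD (Qd_code hk).1 (Qd_code hk).2
  rw [Qd, e]
  have h := near_code h1 h2
  rwa [(show ∀ k < 16, conjTab 4 (8 * k) / 8 = k by decide +kernel) k hk] at h

theorem dN_Pd : ∀ k < 16, Near (dN (Pd k)) (Pd k * Qd (lab k)) := by
  refine of_basis ?_ ?_ ?_
  · refine near_of_eq ?_
    rw [Pd, Qd, mul_zero, cD_zero, map_one, map_one, one_mul, show lab 0 = 0 by decide +kernel,
      Qd, mul_zero, cD_zero]
  · intro i hi
    have hi16 := (show ∀ i < 4, 2 ^ i < 16 by decide) i hi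
    have e := swap_eq (eq_np i hi)
    simp only [wordOf_append, wordOf, mul_one, wordOf_cwL, ← mul_assoc, lP_nine] at e
    obtain ⟨hc1, hc2⟩ := small_code (nCorr_lt i hi)
    have e' : dN (Pd (2 ^ i)) =
        Pd (2 ^ i) * Qd (lab (2 ^ i)) * cD (SwapData.nCorr.getD (2 ^ i) 0) := by
      refine Subtype.ext ?_
      have hri : (rP : Equiv.Perm (Fin 1782))⁻¹ = rP := lP_inv 10
      have hni : (κP 4)⁻¹ = κP 4 := by rw [← lP_nine, lP_inv]
      simp only [dN, Pd, dR, MonoidHom.coe_mk, OneHom.coe_mk, Subgroup.coe_mul, Qd,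
        cD_val (Qd_code hi16).1 (Qd_code hi16).2,
        cD_val (Qd_code (lab_facts.1 _ hi16).1).1 (Qd_code (lab_facts.1 _ hi16).1).2,
        cD_val hc1 hc2, hri, hni]
      simpa [rP, mul_assoc] using e
    refine ⟨_, nCorr_lt i hi, ?_⟩
    rw [e', (cD_central (nCorr_lt i hi) _).eq]
  · intro a ha b hb pa pb
    have hla := (lab_facts.1 a ha).1
    have hlb := (lab_facts.1 b hb).1
    refine ((Pd_xor ha hb).symm.map fixA_dN).trans ?_
    rw [map_mul]
    refine (pa.mul pb).trans ?_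
    rw [show Pd a * Qd (lab a) * (Pd b * Qd (lab b)) = Pd a * (Qd (lab a) * Pd b) * Qd (lab b) by
      group]
    refine (((Near.refl _).mul (commute_near hb hla).symm).mul (Near.refl _)).trans ?_
    rw [show Pd a * (Pd b * Qd (lab a)) * Qd (lab b) = Pd a * Pd b * (Qd (lab a) * Qd (lab b)) by
      group, lab_facts.2 a ha b hb]
    exact (Pd_xor ha hb).mul (Qd_xor hla hlb).2

/-- Reading an action from the images of a basis. -/
def app16 (im : List ℕ) (k : ℕ) : ℕ :=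
  (if k % 2 = 1 then im.getD 0 0 else 0) ^^^ (if k / 2 % 2 = 1 then im.getD 1 0 else 0) ^^^
    (if k / 4 % 2 = 1 then im.getD 2 0 else 0) ^^^ (if k / 8 % 2 = 1 then im.getD 3 0 else 0)

/-- An element acts on the classes by a table. -/
def Act (d : ↥DS) (f : ℕ → ℕ) : Prop := ∀ k < 16, f k < 16 ∧ Near (d * Qd k * d⁻¹) (Qd (f k))

theorem act_letters : ∀ i < 8, ∀ k < 16, img CodeData.tabT 10 i (8 * k) / 4 % 2 = 0 ∧
    img CodeData.tabT 10 i (8 * k) / 8 = (SwapData.letterAct.getD i []).getD k 0 ∧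
    (SwapData.letterAct.getD i []).getD k 0 < 16 := by decide +kernel

theorem images_closed : ∀ i < 8, ∀ e ∈ SwapData.actImages, ∃ e' ∈ SwapData.actImages, ∀ k < 16,
    app16 e'.1 k = (SwapData.letterAct.getD i []).getD (app16 e.1 k) 0 ∧ app16 e.1 k < 16 := by
  decide +kernel

theorem act_letter {i : ℕ} (hi : i < 8) : Act ⟨lP i, lP_mem_DS hi⟩
    fun k => (SwapData.letterAct.getD i []).getD k 0 := by
  intro k hk
  obtain ⟨h1, h2, h3⟩ := act_letters i hi k hk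
  refine ⟨h3, ?_⟩
  obtain ⟨e, hlt⟩ := lP_act (j := i) (n := 8 * k) (by omega) (by omega)
  have h := near_code hlt h1
  rw [h2] at h
  rwa [show (⟨lP i, lP_mem_DS hi⟩ : ↥DS) * Qd k * ⟨lP i, lP_mem_DS hi⟩⁻¹ =
    cD (img CodeData.tabT 10 i (8 * k)) from Subtype.ext (by
      simp only [Subgroup.coe_mul, Subgroup.coe_inv, Qd, cD_val (Qd_code hk).1 (Qd_code hk).2,
        cD_val hlt h1, e])]

theorem fixA_conj (d : ↥DS) : FixA (MulAut.conj d).toMonoidHom := fun a ha =>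
  ⟨a, ha, by simp [← (cD_central ha d).eq]⟩

theorem Act.comp {d d' : ↥DS} {f f' : ℕ → ℕ} (h : Act d f) (h' : Act d' f') :
    Act (d * d') (f ∘ f') := by
  intro k hk
  obtain ⟨h1, h2⟩ := h' k hk
  obtain ⟨h3, h4⟩ := h _ h1
  refine ⟨h3, ?_⟩
  rw [show d * d' * Qd k * (d * d')⁻¹ = d * (d' * Qd k * d'⁻¹) * d⁻¹ by group]
  exact (h2.map (fixA_conj d)).trans h4

theorem exists_act (d : ↥DS) : ∃ e ∈ SwapData.actImages, Act d (app16 e.1) := by
  obtain ⟨x, hx⟩ := d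
  induction hx using Subgroup.closure_induction_left with
  | one =>
    obtain ⟨e, he, h⟩ := (show ∃ e ∈ SwapData.actImages, ∀ k < 16, app16 e.1 k = k by decide +kernel)
    refine ⟨e, he, fun k hk => ⟨by rw [h k hk]; exact hk, ?_⟩⟩
    rw [h k hk]
    refine near_of_eq ?_
    show (1 : ↥DS) * Qd k * (1 : ↥DS)⁻¹ = Qd k
    group
  | mul_left u hu y hy ih =>
    obtain ⟨i, hi, rfl⟩ := hu
    obtain ⟨e, he, h⟩ := ih
    obtain ⟨e', he', h'⟩ := images_closed i hi e he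
    refine ⟨e', he', fun k hk => ?_⟩
    obtain ⟨g1, g2⟩ := ((act_letter hi).comp h) k hk
    rw [(h' k hk).1]
    exact ⟨g1, g2⟩
  | inv_mul_cancel u hu y hy ih =>
    obtain ⟨i, hi, rfl⟩ := hu
    obtain ⟨e, he, h⟩ := ih
    obtain ⟨e', he', h'⟩ := images_closed i hi e he
    refine ⟨e', he', fun k hk => ?_⟩
    obtain ⟨g1, g2⟩ := ((act_letter hi).comp h) k hk
    rw [(h' k hk).1]
    refine ⟨g1, ?_⟩
    simp only [lP_inv]
    exact g2

theorem Qd_inj_of (hinj : ∀ m < 128, ∀ n < 128, κP m = κP n → m = n) {a b : ℕ} (ha : a < 16)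
    (hb : b < 16) (h : Near (Qd a) (Qd b)) : a = b := by
  obtain ⟨c, hc, e⟩ := h
  have e' := congrArg Subtype.val e
  obtain ⟨h1, h2⟩ := small_code hc
  rw [Subgroup.coe_mul, Qd, Qd, cD_val h1 h2, cD_val (Qd_code ha).1 (Qd_code ha).2,
    cD_val (Qd_code hb).1 (Qd_code hb).2, ← κP_mul _ h1 _ (Qd_code hb).1] at e'
  have := hinj _ (Qd_code ha).1 _ (qMul_lt _ h1 _ (Qd_code hb).1) e'
  have h3 := (show ∀ c < 4, ∀ b < 16, qMul c (8 * b) / 8 = b by decide +kernel) c hc b hb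
  omega

end Cfsg.Lib.Extra.SuzUnique
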