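import Cfsg.Agent.Lib.Extra.SuzUnique.SwapBase

/-!
# An exchanging element acts like the exchanging letter on the classes

Composed with the letter, conjugation by an exchanging element induces an isometry of the sixteen
classes.  The cube of the product with the code 4 centralizes both conjugates, so that isometry is
induced from the centralizer, and can be removed.
-/

set_option autoImplicit false
set_option maxRecDepth 20000
set_option linter.style.haveILetI false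

namespace Cfsg.Lib.Extra.SuzUnique

open Cfsg Cfsg.Lib.CosetEnum Cfsg.Lib.Extra.Wide Cfsg.Lib.Extra.SuzLocal

universe u

theorem Qd_sq {k : ℕ} (hk : k < 16) : Qd k * Qd k = cD (qV (4 * k)) := by
  rw [Qd, ← cD_mul (Qd_code hk).1 (Qd_code hk).2 (Qd_code hk).1 (Qd_code hk).2,
    (show ∀ k < 16, qMul (8 * k) (8 * k) = qV (4 * k) by decide +kernel) k hk]

theorem qW_lt : ∀ k < 16, qV (4 * k) < 2 := by decide +kernel

/-- A map is in the list. -/
def inImages (f : ℕ → ℕ) : Bool :=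
  SwapData.actImages.any fun e => (List.range 4).all fun i => Nat.beq (app16 e.1 (2 ^ i)) (f (2 ^ i))

/-- The cube of the composition with the labels. -/
def cube3 (f : ℕ → ℕ) (k : ℕ) : ℕ := lab (f (lab (f (lab (f k)))))

/-- The images of the basis run through the isometries. -/
def innerOK : Bool :=
  (List.range 16).all fun a => !(Nat.beq (qV (4 * a)) (qV (4 * 1))) ||
  (List.range 16).all fun b => !(Nat.beq (qV (4 * b)) (qV (4 * 2)) && Nat.beq (bW a b) (bW 1 2)) ||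
  (List.range 16).all fun c => !(Nat.beq (qV (4 * c)) (qV (4 * 4)) && Nat.beq (bW a c) (bW 1 4) &&
    Nat.beq (bW b c) (bW 2 4)) ||
  (List.range 16).all fun e => !(Nat.beq (qV (4 * e)) (qV (4 * 8)) && Nat.beq (bW a e) (bW 1 8) &&
    Nat.beq (bW b e) (bW 2 8) && Nat.beq (bW c e) (bW 4 8) &&
      inImages (cube3 (app16 [a, b, c, e]))) || inImages (app16 [a, b, c, e])

theorem innerOK_true : innerOK = true := by decide +kernel

theorem inner_check {a b c e : ℕ} (ha : a < 16) (qa : qV (4 * a) = qV (4 * 1)) (hb : b < 16)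
    (qb : qV (4 * b) = qV (4 * 2)) (ab : bW a b = bW 1 2) (hc : c < 16)
    (qc : qV (4 * c) = qV (4 * 4)) (ac : bW a c = bW 1 4) (bc : bW b c = bW 2 4) (he : e < 16)
    (qe : qV (4 * e) = qV (4 * 8)) (ae : bW a e = bW 1 8) (be : bW b e = bW 2 8)
    (ce : bW c e = bW 4 8) (h : inImages (cube3 (app16 [a, b, c, e])) = true) :
    inImages (app16 [a, b, c, e]) = true := by
  have h1 := List.all_eq_true.1 innerOK_true a (List.mem_range.2 ha)
  rw [qa] at h1
  simp only [Nat.beq_refl, Bool.not_true, Bool.false_or] at h1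
  have h2 := List.all_eq_true.1 h1 b (List.mem_range.2 hb)
  rw [qb, ab] at h2
  simp only [Nat.beq_refl, Bool.and_self, Bool.not_true, Bool.false_or] at h2
  have h3 := List.all_eq_true.1 h2 c (List.mem_range.2 hc)
  rw [qc, ac, bc] at h3
  simp only [Nat.beq_refl, Bool.and_self, Bool.not_true, Bool.false_or] at h3
  have h4 := List.all_eq_true.1 h3 e (List.mem_range.2 he)
  rw [qe, ae, be, ce, h] at h4
  simpa using h4

theorem actImages_words : ∀ e ∈ SwapData.actImages, (∀ g ∈ e.2, g < 8) ∧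
    ∀ k < 16, twalk CodeData.tabT 10 e.2.reverse (8 * k) / 4 % 2 = 0 ∧
      twalk CodeData.tabT 10 e.2.reverse (8 * k) / 8 = app16 e.1 k ∧ app16 e.1 k < 16 := by
  decide +kernel

theorem actImages_inv : ∀ e ∈ SwapData.actImages, ∃ e' ∈ SwapData.actImages,
    ∀ k < 16, app16 e.1 (app16 e'.1 k) = k := by decide +kernel

theorem exists_element {e : List ℕ × List ℕ} (he : e ∈ SwapData.actImages) :
    ∃ d : ↥DS, Act d (app16 e.1) := by
  obtain ⟨hw, hk⟩ := actImages_words e he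
  refine ⟨⟨wordOf lP e.2, wordOf_mem fun g hg => lP_mem_DS (hw g hg)⟩, fun k hk16 => ?_⟩
  obtain ⟨h1, h2, h3⟩ := hk k hk16
  refine ⟨h3, ?_⟩
  obtain ⟨hlt, e'⟩ := word_code (w := e.2) (fun g hg => by have := hw g hg; omega) (Qd_code hk16).1
  have h := near_code hlt h1
  rw [h2] at h
  rwa [show (⟨wordOf lP e.2, wordOf_mem fun g hg => lP_mem_DS (hw g hg)⟩ : ↥DS) * Qd k *
      (⟨wordOf lP e.2, wordOf_mem fun g hg => lP_mem_DS (hw g hg)⟩ : ↥DS)⁻¹ =
    cD (twalk CodeData.tabT 10 e.2.reverse (8 * k)) from Subtype.ext (by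
      simp only [Subgroup.coe_mul, Subgroup.coe_inv, Qd, cD_val (Qd_code hk16).1 (Qd_code hk16).2,
        cD_val hlt h1, e'])]

theorem app16_eq_of {f : ℕ → ℕ} (hadd : ∀ a < 16, ∀ b < 16, f (a ^^^ b) = f a ^^^ f b)
    (hlt : ∀ a < 16, f a < 16) : ∀ k < 16, f k = app16 [f 1, f 2, f 4, f 8] k := by
  have h0 : f 0 = 0 := by
    have := hadd 0 (by norm_num) 0 (by norm_num)
    rw [Nat.xor_self, Nat.xor_self] at this
    exact this
  have hd := (show ∀ a < 16, ∀ b < 16, ∀ c < 16, ∀ e < 16, app16 [a, b, c, e] 0 = 0 ∧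
    app16 [a, b, c, e] 1 = a ∧ app16 [a, b, c, e] 2 = b ∧ app16 [a, b, c, e] 4 = c ∧
    app16 [a, b, c, e] 8 = e by
      intro a _ b _ c _ e _
      simp [app16]) _ (hlt 1 (by norm_num)) _ (hlt 2 (by norm_num)) _ (hlt 4 (by norm_num)) _
        (hlt 8 (by norm_num))
  refine of_basis ?_ ?_ ?_
  · rw [h0, hd.1]
  · intro i hi
    interval_cases i
    exacts [hd.2.1.symm, hd.2.2.1.symm, hd.2.2.2.1.symm, hd.2.2.2.2.symm]
  · intro a ha b hb pa pb
    rw [hadd a ha b hb, pa, pb]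
    simp only [app16]
    have hbit : ∀ a < 16, ∀ b < 16, ((a ^^^ b) % 2 = (a % 2 + b % 2) % 2) ∧
        (a ^^^ b) / 2 % 2 = (a / 2 % 2 + b / 2 % 2) % 2 ∧
        (a ^^^ b) / 4 % 2 = (a / 4 % 2 + b / 4 % 2) % 2 ∧
        (a ^^^ b) / 8 % 2 = (a / 8 % 2 + b / 8 % 2) % 2 := by decide +kernel
    obtain ⟨u1, u2, u3, u4⟩ := hbit a ha b hb
    have hx : ∀ (x y v : ℕ), x < 2 → y < 2 → (if (x + y) % 2 = 1 then v else 0) =
        (if x = 1 then v else 0) ^^^ (if y = 1 then v else 0) := by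
      intro x y v hx hy
      interval_cases x <;> interval_cases y <;> simp
    rw [u1, u2, u3, u4, hx _ _ _ (by omega) (by omega), hx _ _ _ (by omega) (by omega),
      hx _ _ _ (by omega) (by omega), hx _ _ _ (by omega) (by omega)]
    ac_rfl

variable {G : Type u} [Group G] {ι : Type} [Fintype ι] [DecidableEq ι] {D : Data G ι} {χ : Chart D}

namespace LIso

variable (I : LIso χ)
include I

/-- An exchanging element with its action on the group of the eight letters. -/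
structure Exch (h : G) where
  one : h * D.z * h⁻¹ = χ.κ 2
  two : h * χ.κ 2 * h⁻¹ = D.z
  /-- The action. -/
  φ : ↥DS →* ↥DS
  agree : ∀ d, h * I.σ d * h⁻¹ = I.σ (φ d)

variable {I} {h : G}

theorem Exch.φ_one (E : I.Exch h) : E.φ (cD 1) = cD 2 := I.σ_inj (by
  rw [← E.agree, I.σ_cD (by norm_num) (by norm_num), I.σ_cD (by norm_num) (by norm_num), χ.z_eq,
    E.one])

theorem Exch.φ_two (E : I.Exch h) : E.φ (cD 2) = cD 1 := I.σ_inj (by
  rw [← E.agree, I.σ_cD (by norm_num) (by norm_num), I.σ_cD (by norm_num) (by norm_num), χ.z_eq,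
    E.two])

theorem Exch.φ_three (E : I.Exch h) : E.φ (cD 3) = cD 3 := by
  have h3 : cD 3 = cD 1 * cD 2 := by
    rw [(cD_small_mul (show 1 < 4 by norm_num) (show 2 < 4 by norm_num)).2,
      show qMul 1 2 = 3 by decide +kernel]
  conv_lhs => rw [h3, map_mul, E.φ_one, E.φ_two, ← (cD_central (show 1 < 4 by norm_num) _).eq, ← h3]

theorem Exch.fixA (E : I.Exch h) : FixA E.φ :=
  fixA_of ⟨2, by norm_num, E.φ_one⟩ ⟨1, by norm_num, E.φ_two⟩

/-- Composition with the letter. -/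
noncomputable def Exch.γ (E : I.Exch h) : ↥DS →* ↥DS := dR.comp E.φ

theorem Exch.γ_fix (E : I.Exch h) : E.γ (cD 1) = cD 1 ∧ E.γ (cD 2) = cD 2 ∧ E.γ (cD 3) = cD 3 :=
  ⟨(congrArg dR E.φ_one).trans dR_two, (congrArg dR E.φ_two).trans dR_one,
    (congrArg dR E.φ_three).trans dR_three⟩

theorem Exch.γ_small (E : I.Exch h) {a : ℕ} (ha : a < 4) : E.γ (cD a) = cD a := by
  interval_cases a
  exacts [by rw [cD_zero, map_one], E.γ_fix.1, E.γ_fix.2.1, E.γ_fix.2.2]

theorem Exch.fixA_γ (E : I.Exch h) : FixA E.γ := fun a ha => ⟨a, ha, E.γ_small ha⟩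

/-- An element times a member of the centralizer still exchanges. -/
noncomputable def Exch.mul (E : I.Exch h) (d : ↥DS) : I.Exch (h * I.σ d) where
  one := by
    rw [show h * I.σ d * D.z * (h * I.σ d)⁻¹ = h * (I.σ d * D.z * (I.σ d)⁻¹) * h⁻¹ by group,
      (I.σ_comm d).1.eq, mul_inv_cancel_right, E.one]
  two := by
    rw [show h * I.σ d * χ.κ 2 * (h * I.σ d)⁻¹ = h * (I.σ d * χ.κ 2 * (I.σ d)⁻¹) * h⁻¹ by group,
      (I.σ_comm d).2.eq, mul_inv_cancel_right, E.two]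
  φ := E.φ.comp (MulAut.conj d).toMonoidHom
  agree x := by
    show _ = I.σ (E.φ (d * x * d⁻¹))
    rw [← E.agree, map_mul, map_mul, map_inv]
    group

theorem Exch.γ_mul (E : I.Exch h) (d x : ↥DS) : (E.mul d).γ x = E.γ (d * x * d⁻¹) := rfl

variable [Finite G] (M : Model D)
include M

theorem exists_exch : ∃ h, Nonempty (I.Exch h) := by
  obtain ⟨h, h1, h2⟩ := exists_exchange χ.point2
  have key : ∀ d : ↥DS, ∃ e, I.σ e = h * I.σ d * h⁻¹ := by
    intro d
    refine I.exists_σ M ?_ ?_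
    · rw [← h2]; exact (Commute.conj_iff h).2 (I.σ_comm d).2
    · rw [← h1]; exact (Commute.conj_iff h).2 (I.σ_comm d).1
  choose f hf using key
  exact ⟨h, ⟨⟨h1, h2, MonoidHom.mk' f fun a b => I.σ_inj (by
    rw [hf, map_mul, map_mul, hf, hf]; group), fun d => (hf d).symm⟩⟩⟩

/-- Conjugation by an element of the centralizer fixing the classes, on the conjugate classes. -/
theorem conj_Pd_exists (d : ↥DS) {k : ℕ} (hk : k < 16) :
    ∃ j < 16, Near (d * Pd k * d⁻¹) (Pd j) := by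
  refine I.pq_class M ?_
  rw [map_mul, map_mul, map_inv]
  exact χ.point2.pq_conj (I.σ_comm d).1 (I.σ_comm d).2 (I.Pd_pq M hk)

theorem Exch.classes (E : I.Exch h) : ∃ g : ℕ → ℕ,
    (∀ k < 16, g k < 16) ∧ (∀ a < 16, ∀ b < 16, g (a ^^^ b) = g a ^^^ g b) ∧
    (∀ a < 16, ∀ b < 16, bW (g a) (g b) = bW a b) ∧ (∀ a < 16, qV (4 * g a) = qV (4 * a)) ∧
    (∀ k < 16, Near (E.φ (Qd k)) (Pd (g k))) ∧
    ∀ k < 16, Near (E.φ (Pd k)) (Qd (lab (g (lab k)))) := by
  classical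
  have hQ : ∀ k < 16, ∃ j < 16, Near (E.φ (Qd k)) (Pd j) := fun k hk => I.pq_class M (by
    rw [← E.agree]; exact (exchange_cq χ.point2 E.one E.two _).1 (I.Qd_cq hk))
  let g : ℕ → ℕ := fun k => if hk : k < 16 then (hQ k hk).choose else 0
  have hg : ∀ k < 16, g k < 16 ∧ Near (E.φ (Qd k)) (Pd (g k)) := fun k hk => by
    simp only [g, dif_pos hk]; exact (hQ k hk).choose_spec
  have hγ : ∀ k < 16, Near (E.γ (Qd k)) (Qd (g k)) := fun k hk => by
    have := (hg k hk).2.map fixA_dR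
    rwa [Pd, dR_dR] at this
  have hadd : ∀ a < 16, ∀ b < 16, g (a ^^^ b) = g a ^^^ g b := fun a ha b hb => by
    obtain ⟨hab, he⟩ := Qd_xor ha hb
    obtain ⟨hgab, he'⟩ := Qd_xor (hg a ha).1 (hg b hb).1
    refine I.Qd_inj (hg _ hab).1 hgab ?_
    refine ((hγ _ hab).symm.trans (he.symm.map E.fixA_γ)).trans ?_
    rw [map_mul]
    exact ((hγ a ha).mul (hγ b hb)).trans he'
  have hiso : ∀ a < 16, ∀ b < 16, bW (g a) (g b) = bW a b := fun a ha b hb => by
    have h1 := ((Qd_pairing ha hb).map E.γ).near (hγ a ha).symm (hγ b hb).symm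
    rw [E.γ_fix.1] at h1
    exact cast_bit (bW_lt _ (hg a ha).1 _ (hg b hb).1) (bW_lt a ha b hb)
      ((Qd_pairing (hg a ha).1 (hg b hb).1).uniq I.cD_one_ne h1)
  have hq : ∀ a < 16, qV (4 * g a) = qV (4 * a) := fun a ha => by
    have h1 : cD (qV (4 * g a)) = cD (qV (4 * a)) := by
      rw [← Qd_sq (hg a ha).1, ← (hγ a ha).sq_eq, ← map_mul, Qd_sq ha,
        E.γ_small (by have := qW_lt a ha; omega)]
    have l1 := qW_lt _ (hg a ha).1
    have l2 := qW_lt a ha
    have h2 := congrArg Subtype.val h1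
    rw [cD_val (by omega) (by omega), cD_val (by omega) (by omega)] at h2
    exact I.κP_inj (by omega) (by omega) h2
  refine ⟨g, fun k hk => (hg k hk).1, hadd, hiso, hq, fun k hk => (hg k hk).2, fun k hk => ?_⟩
  -- the conjugate classes
  have hy := I.Pd_pq M hk
  obtain ⟨q, hq', hyq⟩ : ∃ q, D.InCQ (χ.κ 2) q ∧ h * q * h⁻¹ = I.σ (Pd k) := by
    refine ⟨h⁻¹ * I.σ (Pd k) * h, ?_, by group⟩
    rw [exchange_cq χ.point2 E.one E.two]
    rwa [show h * (h⁻¹ * I.σ (Pd k) * h) * h⁻¹ = I.σ (Pd k) by group]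
  have hz : Commute (h * h) D.z := mul_inv_eq_iff_eq_mul.1 (by
    rw [show h * h * D.z * (h * h)⁻¹ = h * (h * D.z * h⁻¹) * h⁻¹ by group, E.one, E.two])
  have ht : Commute (h * h) (χ.κ 2) := mul_inv_eq_iff_eq_mul.1 (by
    rw [show h * h * χ.κ 2 * (h * h)⁻¹ = h * (h * χ.κ 2 * h⁻¹) * h⁻¹ by group, E.two, E.one])
  have hcq : D.InCQ (χ.κ 2) (I.σ (E.φ (Pd k))) := by
    rw [← E.agree, ← hyq, show h * (h * q * h⁻¹) * h⁻¹ = h * h * q * (h * h)⁻¹ by group]
    exact χ.point2.cq_conj hz ht hq'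
  obtain ⟨j, hj, hj'⟩ := I.cq_class M hcq
  have hlk := (lab_facts.1 k hk).1
  have hlj := (lab_facts.1 j hj).1
  have hγP : Near (E.γ (Pd k)) (Pd j) := hj'.map fixA_dR
  have hgi : Function.Injective fun k : Fin 16 => (⟨g k, (hg k k.2).1⟩ : Fin 16) := by
    intro a b e
    have e' : g a = g b := congrArg Fin.val e
    refine Fin.ext (bW_nondeg _ a.2 _ b.2 fun i hi => ?_)
    have hi16 := (show ∀ i < 4, 2 ^ i < 16 by decide) i hi
    rw [← hiso a a.2 _ hi16, ← hiso b b.2 _ hi16, e']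
  have hsur := (Finite.injective_iff_bijective.1 hgi).2
  have : lab j = g (lab k) := by
    refine bW_nondeg _ hlj _ (hg _ hlk).1 fun i hi => ?_
    have hi16 := (show ∀ i < 4, 2 ^ i < 16 by decide) i hi
    obtain ⟨⟨l, hl⟩, hl'⟩ := hsur ⟨2 ^ i, hi16⟩
    have hl'' : g l = 2 ^ i := congrArg Fin.val hl'
    have h1 := ((pairing k hk l hl).map E.γ).near hγP.symm (hγ l hl).symm
    rw [E.γ_fix.2.2] at h1
    have h2 := cast_bit (bW_lt _ hlj _ (hg l hl).1) (bW_lt _ hlk _ hl)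
      ((pairing j hj _ (hg l hl).1).uniq I.cD_three_ne h1)
    rw [← hl'', h2, hiso _ hlk _ hl]
  rw [← this, (lab_facts.1 j hj).2]
  exact hj'

theorem Exch.inner (E : I.Exch h) : ∃ d, ∀ k < 16, Near ((E.mul d).φ (Qd k)) (Pd k) ∧
    Near ((E.mul d).φ (Pd k)) (Qd k) := by
  classical
  obtain ⟨g, hlt, hadd, hiso, hq, hQ, hP⟩ := E.classes M
  have hll : ∀ k < 16, lab k < 16 := fun k hk => (lab_facts.1 k hk).1
  let n : G := χ.κ 4
  have hnz : n * D.z * n⁻¹ = D.z := by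
    rw [mul_inv_eq_iff_eq_mul, ← χ.z_eq, ← χ.map_mul (by norm_num) (by norm_num),
      ← χ.map_mul (by norm_num) (by norm_num), show qMul 4 1 = qMul 1 4 by decide +kernel]
  have hnt : n * χ.κ 2 * n⁻¹ = D.z * χ.κ 2 := by
    rw [mul_inv_eq_iff_eq_mul, ← χ.z_eq, ← χ.map_mul (by norm_num) (by norm_num),
      ← χ.map_mul (by norm_num) (by norm_num), ← χ.map_mul (qMul_lt 1 (by norm_num) 2 (by norm_num))
      (by norm_num), show qMul 4 2 = qMul (qMul 1 2) 4 by decide +kernel]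
  have hnσ : ∀ x, n * I.σ x * n⁻¹ = I.σ (dN x) := by
    intro x
    let m : ↥CS := ⟨κP 4, κP_mem_CS (by norm_num)⟩
    have hm : I.ρ m = n := I.ρ_code (by norm_num) m rfl
    show n * I.ρ (Subgroup.inclusion DS_le x) * n⁻¹ = I.ρ (Subgroup.inclusion DS_le (dN x))
    rw [← hm, ← map_mul, ← map_inv, ← map_mul]
    exact congrArg I.ρ (Subtype.ext rfl)
  let ψ : ↥DS →* ↥DS := E.φ.comp dN
  have hψA : FixA ψ := fun a ha => by
    obtain ⟨b, hb, e⟩ := fixA_dN a ha
    obtain ⟨c, hc, e'⟩ := E.fixA b hb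
    exact ⟨c, hc, by rw [← e', ← e]; rfl⟩
  have hψ : ∀ x, h * n * I.σ x * (h * n)⁻¹ = I.σ (ψ x) := fun x => by
    rw [show h * n * I.σ x * (h * n)⁻¹ = h * (n * I.σ x * n⁻¹) * h⁻¹ by group, hnσ, E.agree]; rfl
  have hzt : h * n * D.z * (h * n)⁻¹ = χ.κ 2 := by
    rw [show h * n * D.z * (h * n)⁻¹ = h * (n * D.z * n⁻¹) * h⁻¹ by group, hnz, E.one]
  have htz : h * n * χ.κ 2 * (h * n)⁻¹ = χ.κ 2 * D.z := by
    rw [show h * n * χ.κ 2 * (h * n)⁻¹ = h * (n * χ.κ 2 * n⁻¹) * h⁻¹ by group, hnt,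
      show h * (D.z * χ.κ 2) * h⁻¹ = h * D.z * h⁻¹ * (h * χ.κ 2 * h⁻¹) by group, E.one, E.two]
  have hcyc : h * n * (χ.κ 2 * D.z) * (h * n)⁻¹ = D.z := by
    rw [show h * n * (χ.κ 2 * D.z) * (h * n)⁻¹ =
      h * n * χ.κ 2 * (h * n)⁻¹ * (h * n * D.z * (h * n)⁻¹) by group, htz, hzt,
      χ.point2.comm_zt.symm.eq, mul_assoc, χ.point2.sq, mul_one]
  set c := h * n * (h * n) * (h * n) with hc
  have hcz : Commute c D.z := mul_inv_eq_iff_eq_mul.1 (by
    rw [show c * D.z * c⁻¹ = h * n * (h * n * (h * n * D.z * (h * n)⁻¹) * (h * n)⁻¹) * (h * n)⁻¹ by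
      rw [hc]; group, hzt, htz, hcyc])
  have hct : Commute c (χ.κ 2) := mul_inv_eq_iff_eq_mul.1 (by
    rw [show c * χ.κ 2 * c⁻¹ = h * n * (h * n * (h * n * χ.κ 2 * (h * n)⁻¹) * (h * n)⁻¹) * (h * n)⁻¹ by
      rw [hc]; group, htz, hcyc, hzt])
  obtain ⟨dc, hdc⟩ := I.exists_σ M hcz hct
  have hconj : ∀ x, dc * x * dc⁻¹ = ψ (ψ (ψ x)) := fun x => I.σ_inj (by
    rw [map_mul, map_mul, map_inv, hdc, ← hψ, ← hψ, ← hψ, hc]; group)
  have hψQ : ∀ k < 16, Near (ψ (Qd k)) (Pd (g k)) := fun k hk =>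
    ((dN_Qd hk).map E.fixA).trans (hQ k hk)
  have hψP : ∀ k < 16, Near (ψ (Pd k)) (Qd (lab (g (lab k))) * Pd (g (lab k))) := fun k hk => by
    refine ((dN_Pd k hk).map E.fixA).trans ?_
    rw [map_mul]
    exact (hP k hk).mul (hQ _ (hll k hk))
  have hc3 : ∀ k < 16, cube3 g k < 16 ∧ Near (dc * Qd k * dc⁻¹) (Qd (cube3 g k)) := by
    intro k hk
    have h1 := hlt k hk
    have h2 := hlt _ (hll _ h1)
    have h2' := hll _ h2
    have h3 := hlt _ h2'
    refine ⟨hll _ h3, ?_⟩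
    rw [hconj]
    refine (((hψQ k hk).map hψA).map hψA).trans ?_
    refine ((hψP _ h1).map hψA).trans ?_
    rw [map_mul]
    refine ((hψQ _ h2').mul (hψP _ h2)).trans ?_
    rw [← mul_assoc]
    refine ((commute_near h3 (hll _ h3)).mul (Near.refl _)).trans ?_
    rw [mul_assoc]
    refine ((Near.refl _).mul (Pd_sq h3)).trans ?_
    rw [mul_one]
    exact Near.refl _
  obtain ⟨e, he, hact⟩ := exists_act dc
  have hin : inImages (cube3 g) = true := by
    refine List.any_eq_true.2 ⟨e, he, List.all_eq_true.2 fun i hi => ?_⟩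
    rw [Nat.beq_eq]
    have hi16 := (show ∀ i < 4, 2 ^ i < 16 by decide) i (List.mem_range.1 hi)
    exact I.Qd_inj (hact _ hi16).1 (hc3 _ hi16).1 ((hact _ hi16).2.symm.trans (hc3 _ hi16).2)
  have happ := app16_eq_of hadd hlt
  have hg16 : ∀ k < 16, app16 [g 1, g 2, g 4, g 8] k = g k := fun k hk => (happ k hk).symm
  have hin' : inImages (cube3 (app16 [g 1, g 2, g 4, g 8])) = true := by
    obtain ⟨e0, he0, he0'⟩ := List.any_eq_true.1 hin
    refine List.any_eq_true.2 ⟨e0, he0, List.all_eq_true.2 fun i hi => ?_⟩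
    have h' := List.all_eq_true.1 he0' i hi
    have hi16 := (show ∀ i < 4, 2 ^ i < 16 by decide) i (List.mem_range.1 hi)
    have h1 := hlt _ hi16
    simp only [cube3] at h' ⊢
    rw [hg16 _ hi16, hg16 _ (hll _ h1), hg16 _ (hll _ (hlt _ (hll _ h1)))]
    exact h'
  have hi := inner_check (hlt 1 (by norm_num)) (hq 1 (by norm_num)) (hlt 2 (by norm_num))
    (hq 2 (by norm_num)) (hiso 1 (by norm_num) 2 (by norm_num)) (hlt 4 (by norm_num))
    (hq 4 (by norm_num)) (hiso 1 (by norm_num) 4 (by norm_num)) (hiso 2 (by norm_num) 4 (by norm_num))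
    (hlt 8 (by norm_num)) (hq 8 (by norm_num)) (hiso 1 (by norm_num) 8 (by norm_num))
    (hiso 2 (by norm_num) 8 (by norm_num)) (hiso 4 (by norm_num) 8 (by norm_num)) hin'
  obtain ⟨e1, he1, he1'⟩ := List.any_eq_true.1 hi
  have hge : ∀ k < 16, g k = app16 e1.1 k := by
    have hb : ∀ i < 4, app16 e1.1 (2 ^ i) = g (2 ^ i) := fun i hi4 => by
      have := List.all_eq_true.1 he1' i (List.mem_range.2 hi4)
      rw [Nat.beq_eq] at this
      rw [this, hg16 _ ((show ∀ i < 4, 2 ^ i < 16 by decide) i hi4)]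
    intro k hk
    rw [happ k hk]
    have e2 : app16 e1.1 k = app16 [app16 e1.1 1, app16 e1.1 2, app16 e1.1 4, app16 e1.1 8] k :=
      (show ∀ e ∈ SwapData.actImages, ∀ k < 16, app16 e.1 k =
        app16 [app16 e.1 1, app16 e.1 2, app16 e.1 4, app16 e.1 8] k by decide +kernel) e1 he1 k hk
    have a0 := hb 0 (by norm_num)
    have a1 := hb 1 (by norm_num)
    have a2 := hb 2 (by norm_num)
    have a3 := hb 3 (by norm_num)
    norm_num at a0 a1 a2 a3
    rw [e2, a0, a1, a2, a3]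
  obtain ⟨e', he', hinv⟩ := actImages_inv e1 he1
  obtain ⟨d, hd⟩ := exists_element he'
  refine ⟨d, fun k hk => ?_⟩
  have hQ1 : ∀ k < 16, Near ((E.mul d).φ (Qd k)) (Pd k) := fun k hk => by
    show Near (E.φ (d * Qd k * d⁻¹)) _
    refine ((hd k hk).2.map E.fixA).trans ?_
    have := hQ _ (hd k hk).1
    rwa [hge _ (hd k hk).1, hinv k hk] at this
  refine ⟨hQ1 k hk, ?_⟩
  obtain ⟨g', hlt', -, -, -, hQ', hP'⟩ := (E.mul d).classes M
  have hid : ∀ k < 16, g' k = k := fun k hk => by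
    have h1 := ((hQ' k hk).symm.trans (hQ1 k hk)).map fixA_dR
    rw [Pd, Pd, dR_dR, dR_dR] at h1
    exact I.Qd_inj (hlt' k hk) hk h1
  have := hP' k hk
  rwa [hid _ (hll k hk), (lab_facts.1 k hk).2] at this

end LIso

end Cfsg.Lib.Extra.SuzUnique
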