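import Cfsg.Agent.Lib.Extra.SuzUnique.SwapChecks
import Cfsg.Agent.Lib.Extra.SuzUnique.PermSide
import Cfsg.Agent.Lib.Extra.SuzUnique.CodeChecks
import Cfsg.Agent.Lib.Extra.SuzUnique.Letters

/-!
# The permutations fixing the pair of codes 1 and 2

The subgroup generated by the first eight letters, its size, and the equations between its
elements and the two exchanging letters.
-/

set_option autoImplicit false
set_option maxRecDepth 20000

namespace Cfsg.Lib.Extra.SuzUnique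

open Cfsg.Lib.CosetEnum Cfsg.Lib.Extra.Wide

theorem swapOK_get : ∀ {m i : ℕ}, swapOK m i = true → ∀ j, i ≤ j → j < i + m →
    ∀ e ∈ swapEqsRev, twalk PermData.tabL 11 e.1 j = twalk PermData.tabL 11 e.2 j
  | 0, i, _, j, h1, h2 => by omega
  | m + 1, i, hc, j, h1, h2 => by
    rw [swapOK, force_eq, Bool.and_eq_true] at hc
    rcases Nat.eq_or_lt_of_le h1 with h | h
    · subst h
      have h3 := hc.1
      simp only [List.all_eq_true, Nat.beq_eq] at h3
      exact h3
    · exact swapOK_get hc.2 j h (by omega)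

theorem swap_eq {a b : List ℕ} (h : (a, b) ∈ swapEqs) : wordOf lP a = wordOf lP b := by
  ext i
  obtain ⟨ha, hb⟩ := swap_lt _ h
  rw [wordOf_lP ha, wordOf_lP hb]
  have hm : (a.reverse, b.reverse) ∈ swapEqsRev := List.mem_map.2 ⟨_, h, rfl⟩
  have hi := i.2
  rcases lt_or_ge i.1 450 with h | h
  · exact swapOK_get swap0 _ (Nat.zero_le _) (by omega) _ hm
  rcases lt_or_ge i.1 900 with h' | h'
  · exact swapOK_get swap1 _ h (by omega) _ hm
  rcases lt_or_ge i.1 1350 with h'' | h''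
  · exact swapOK_get swap2 _ h' (by omega) _ hm
  · exact swapOK_get swap3 _ h'' (by omega) _ hm

theorem wordOf_flatMap {H : Type*} [Group H] (x : ℕ → H) (f : ℕ → List ℕ) : ∀ l : List ℕ,
    wordOf x (l.flatMap f) = wordOf (fun i => wordOf x (f i)) l
  | [] => rfl
  | a :: l => by rw [List.flatMap_cons, wordOf_append, wordOf, wordOf_flatMap x f l]

theorem wordOf_cwL (n : ℕ) : wordOf lP (cwL n) = κP n := wordOf_flatMap lP _ (cw n)

theorem wordOf_mem {H : Type*} [Group H] {A : Subgroup H} {x : ℕ → H} : ∀ {w : List ℕ},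
    (∀ g ∈ w, x g ∈ A) → wordOf x w ∈ A
  | [], _ => one_mem _
  | g :: w, h => mul_mem (h g List.mem_cons_self)
      (wordOf_mem fun a ha => h a (List.mem_cons_of_mem _ ha))

theorem cwL_lt : ∀ n < 128, ∀ g ∈ cwL n, g < 10 := by decide +kernel

theorem κP_mem_CS {n : ℕ} (hn : n < 128) : κP n ∈ CS := by
  rw [← wordOf_cwL]; exact wordOf_mem fun g hg => lP_mem (cwL_lt n hn g hg)

theorem κP_zero : κP 0 = 1 := by rw [κP, cw_zero]; rfl

theorem κP_conj {m n : ℕ} (hm : m < 128) (hn : n < 128) :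
    κP m * κP n * (κP m)⁻¹ = κP (conjTab m n) := by
  have hlt : conjTab m n < 128 := by
    unfold conjTab; split
    exacts [qMul_lt 1 (by norm_num) n hn, hn]
  rw [mul_inv_eq_iff_eq_mul, ← κP_mul m hm n hn, ← κP_mul _ hlt m hm]
  congr 1
  exact (show ∀ m < 128, ∀ n < 128, qMul m n = qMul (conjTab m n) m by decide +kernel) m hm n hn

theorem lP_inv (g : ℕ) : (lP g)⁻¹ = lP g := inv_eq_of_mul_eq_one_right (lP_sq g)

theorem lP_act {j n : ℕ} (hj : j < 10) (hn : n < 128) :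
    lP j * κP n * (lP j)⁻¹ = κP (img CodeData.tabT 10 j n) ∧ img CodeData.tabT 10 j n < 128 := by
  obtain ⟨hc, hw⟩ := letter_lt j hj
  have hlt : ∀ l : List ℕ, (∀ i ∈ l, i < 3) → ∀ m < 128, wordTab l m < 128 ∧
      wordOf permBase.Y l * κP m * (wordOf permBase.Y l)⁻¹ = κP (wordTab l m) := by
    intro l
    induction l with
    | nil => intro _ m hm; exact ⟨hm, by simp [wordOf, wordTab]⟩
    | cons a l ih =>
      intro h m hm
      obtain ⟨h1, h2⟩ := ih (fun i hi => h i (List.mem_cons_of_mem _ hi)) m hm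
      have ha := h a List.mem_cons_self
      refine ⟨app_lt a (by omega) _ h1, ?_⟩
      calc permBase.Y a * wordOf permBase.Y l * κP m * (permBase.Y a * wordOf permBase.Y l)⁻¹
          = permBase.Y a * (wordOf permBase.Y l * κP m * (wordOf permBase.Y l)⁻¹) *
              (permBase.Y a)⁻¹ := by group
        _ = _ := by rw [h2]; exact permBase.act a ha _ h1
  obtain ⟨hl, he⟩ := hlt _ hw n hn
  rw [letter_eq hj, letterTab_ok j hj n hn]
  refine ⟨?_, ?_⟩
  · calc κP (PermData.letterExpr.getD j (0, [])).1 * wordOf permBase.Y (PermData.letterExpr.getD j (0, [])).2 * κP n *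
          (κP (PermData.letterExpr.getD j (0, [])).1 * wordOf permBase.Y (PermData.letterExpr.getD j (0, [])).2)⁻¹
        = κP (PermData.letterExpr.getD j (0, [])).1 *
          (wordOf permBase.Y (PermData.letterExpr.getD j (0, [])).2 * κP n *
            (wordOf permBase.Y (PermData.letterExpr.getD j (0, [])).2)⁻¹) *
          (κP (PermData.letterExpr.getD j (0, [])).1)⁻¹ := by group
      _ = _ := by rw [he, κP_conj hc hl]; rfl
  · simp only [letterTab, conjTab]; split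
    exacts [qMul_lt 1 (by norm_num) _ hl, hl]

theorem word_code : ∀ {w : List ℕ}, (∀ g ∈ w, g < 10) → ∀ {n : ℕ}, n < 128 →
    twalk CodeData.tabT 10 w.reverse n < 128 ∧
      wordOf lP w * κP n * (wordOf lP w)⁻¹ = κP (twalk CodeData.tabT 10 w.reverse n)
  | [], _, n, hn => ⟨hn, by simp [wordOf, twalk_nil]⟩
  | g :: w, hw, n, hn => by
    obtain ⟨h1, h2⟩ := word_code (w := w) (fun a ha => hw a (List.mem_cons_of_mem _ ha)) hn
    obtain ⟨h3, h4⟩ := lP_act (hw g List.mem_cons_self) h1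
    rw [List.reverse_cons, twalk_snoc, wordOf]
    refine ⟨h4, ?_⟩
    calc lP g * wordOf lP w * κP n * (lP g * wordOf lP w)⁻¹
        = lP g * (wordOf lP w * κP n * (wordOf lP w)⁻¹) * (lP g)⁻¹ := by group
      _ = _ := by rw [h2, h3]

/-- The group of the first eight letters. -/
noncomputable def DS : Subgroup (Equiv.Perm (Fin 1782)) :=
  Subgroup.closure (lP '' {i | i < 8})

theorem lP_mem_DS {i : ℕ} (hi : i < 8) : lP i ∈ DS := Subgroup.subset_closure ⟨i, hi, rfl⟩

theorem DS_le : DS ≤ CS := (Subgroup.closure_le _).2 fun _ ⟨_, hi, e⟩ => e ▸ lP_mem (by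
  have : _ < 8 := hi; omega)

theorem fix12 : ∀ g < 8, img CodeData.tabT 10 g 1 = 1 ∧ img CodeData.tabT 10 g 2 = 2 := by
  decide +kernel

theorem DS_comm {x : Equiv.Perm (Fin 1782)} (hx : x ∈ DS) : Commute x (κP 1) ∧ Commute x (κP 2) := by
  suffices x ∈ Subgroup.centralizer ({κP 1, κP 2} : Set (Equiv.Perm (Fin 1782))) by
    exact ⟨(Subgroup.mem_centralizer_iff.1 this _ (Or.inl rfl)).symm,
      (Subgroup.mem_centralizer_iff.1 this _ (Or.inr rfl)).symm⟩
  refine (Subgroup.closure_le _).2 ?_ hx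
  rintro _ ⟨i, hi, rfl⟩
  refine Subgroup.mem_centralizer_iff.2 ?_
  have hi' : i < 8 := hi
  rintro _ (rfl | rfl)
  · have e := (lP_act (j := i) (n := 1) (by omega) (by norm_num)).1
    rw [(fix12 i hi').1] at e
    exact (mul_inv_eq_iff_eq_mul.1 e).symm
  · have e := (lP_act (j := i) (n := 2) (by omega) (by norm_num)).1
    rw [(fix12 i hi').2] at e
    exact (mul_inv_eq_iff_eq_mul.1 e).symm

theorem card_DS : 61440 ≤ Nat.card DS := by
  rw [← dbase_size]
  refine (base_le lP (MonoidHom.id _) lperm_ok (by decide) (fun g _ => rfl) dbase_ok).trans ?_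
  rw [Subgroup.map_id]
  refine Subgroup.card_le_of_le ((Subgroup.closure_le _).2 ?_)
  rintro _ ⟨u, hu, rfl⟩
  have hL : ∀ g ∈ u, g < 8 := by
    simp only [SwapData.levels, List.head?_cons, Option.map_some, Option.getD_some] at hu
    exact dwords_lt _ List.mem_cons_self u hu
  exact wordVal_mem fun g hg => ⟨by have := hL g hg; show g < 31; omega, lP_mem_DS (hL g hg)⟩

theorem lP_nine : lP 9 = κP 4 := by
  rw [letter_eq (by norm_num),
    show PermData.letterExpr.getD 9 (0, []) = (4, []) by decide +kernel]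
  simp [wordOf]

/-- The exchanging letter. -/
noncomputable def rP : Equiv.Perm (Fin 1782) := lP 10

theorem rP_sq : rP * rP = 1 := lP_sq 10

theorem eq_rW : ∀ i < 8, ([10, i, 10], SwapData.rWords.getD i []) ∈ swapEqs := by decide +kernel

theorem eq_nW : ∀ i < 8, ([9, i, 9], SwapData.nWords.getD i []) ∈ swapEqs := by decide +kernel

theorem eq_rn : ([10, 9, 10, 9, 10, 9], SwapData.rnWord) ∈ swapEqs := by decide +kernel

theorem eq_r1 : ([10] ++ cwL 1 ++ [10], cwL 2) ∈ swapEqs := by decide +kernel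

theorem eq_five : ∀ w ∈ SwapData.fives, (w ++ w ++ w ++ w ++ w, []) ∈ swapEqs := by decide +kernel

theorem eq_gen : ∀ i < 8, ([i], (SwapData.fiveWords.getD i []).flatMap fun u => fiveLetters.getD u []) ∈
    swapEqs := by decide +kernel

theorem eq_pair : ∀ i < 4, ∀ j < 4, ([10] ++ cwL (8 * 2 ^ i) ++ [10] ++ cwL (8 * 2 ^ j),
      cwL (qMul (if Nat.beq (bW (lab (2 ^ i)) (2 ^ j)) 1 then 3 else 0) (8 * 2 ^ j)) ++
        [10] ++ cwL (8 * 2 ^ i) ++ [10]) ∈ swapEqs := by decide +kernel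

theorem eq_np : ∀ i < 4, ([9, 10] ++ cwL (8 * 2 ^ i) ++ [10, 9],
    [10] ++ cwL (8 * 2 ^ i) ++ [10] ++ cwL (8 * lab (2 ^ i)) ++
      cwL (SwapData.nCorr.getD (2 ^ i) 0)) ∈ swapEqs := by decide +kernel

theorem sub_lt : (∀ i < 8, ∀ g ∈ SwapData.rWords.getD i [], g < 8) ∧
    (∀ i < 8, ∀ g ∈ SwapData.nWords.getD i [], g < 8) ∧ (∀ g ∈ SwapData.rnWord, g < 8) ∧
    (∀ w ∈ SwapData.fives, ∀ g ∈ w, g < 8) ∧
    ∀ i < 8, ∀ u ∈ SwapData.fiveWords.getD i [], u < 6 := by decide +kernel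

theorem lP_conj_DS {k : ℕ} {W : List (List ℕ)} (h : ∀ i < 8, ([k, i, k], W.getD i []) ∈ swapEqs)
    (hW : ∀ i < 8, ∀ g ∈ W.getD i [], g < 8) {x : Equiv.Perm (Fin 1782)} (hx : x ∈ DS) :
    lP k * x * (lP k)⁻¹ ∈ DS := by
  suffices x ∈ DS.comap (MulAut.conj (lP k)).toMonoidHom by exact this
  refine (Subgroup.closure_le _).2 ?_ hx
  rintro _ ⟨i, hi, rfl⟩
  show lP k * lP i * (lP k)⁻¹ ∈ DS
  have e := swap_eq (h i hi)
  simp only [wordOf, mul_one, ← mul_assoc] at e
  rw [lP_inv, e]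
  exact wordOf_mem fun g hg => lP_mem_DS (hW i hi g hg)

theorem rP_conj {x : Equiv.Perm (Fin 1782)} (hx : x ∈ DS) : rP * x * rP⁻¹ ∈ DS :=
  lP_conj_DS eq_rW sub_lt.1 hx

theorem nP_conj {x : Equiv.Perm (Fin 1782)} (hx : x ∈ DS) : κP 4 * x * (κP 4)⁻¹ ∈ DS := by
  rw [← lP_nine]; exact lP_conj_DS eq_nW sub_lt.2.1 hx

theorem rP_one : rP * κP 1 * rP⁻¹ = κP 2 := by
  have e := swap_eq eq_r1
  simp only [wordOf_append, wordOf, mul_one, wordOf_cwL] at e
  rw [rP, lP_inv]
  exact e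

theorem rP_two : rP * κP 2 * rP⁻¹ = κP 1 := by
  rw [← rP_one, rP, lP_inv]
  simp only [← mul_assoc, lP_sq, one_mul]
  rw [mul_assoc, lP_sq, mul_one]

theorem eq_code : ∀ i < 6, (cwL (codeBasis.getD i 0), SwapData.codeWords.getD i []) ∈ swapEqs ∧
    ∀ g ∈ SwapData.codeWords.getD i [], g < 8 := by decide +kernel

theorem κP_mem_DS {n : ℕ} (hn : n < 128) (h : n / 4 % 2 = 0) : κP n ∈ DS := by
  have hc : ∀ i < 7, i ≠ 2 → eP i ∈ DS := by
    intro i hi h2
    obtain ⟨j, hj, he⟩ := (show ∀ i < 7, i ≠ 2 → ∃ j < 6, cw (codeBasis.getD j 0) = [i] by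
      decide +kernel) i hi h2
    have e : eP i = κP (codeBasis.getD j 0) := by rw [κP, he]; simp [wordOf]
    rw [e, ← wordOf_cwL, swap_eq (eq_code j hj).1]
    exact wordOf_mem fun g hg => lP_mem_DS ((eq_code j hj).2 g hg)
  refine wordOf_mem fun g hg => ?_
  obtain ⟨h7, h2⟩ := (show ∀ n < 128, n / 4 % 2 = 0 → ∀ g ∈ cw n, g < 7 ∧ g ≠ 2 by decide +kernel) n hn h g hg
  exact hc g h7 h2

end Cfsg.Lib.Extra.SuzUnique
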