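import Cfsg.Agent.Lib.Extra.SuzUnique.TriData
import Cfsg.Agent.Lib.CosetEnum.Order

/-!
# Four involutions in a group with element orders at most seven

In a group in which the orders of elements are among 1, 2, 3, 4, 5, 7, four involutions with the
relations of the end of the diagram of `Suz` have `(g b)^3 = 1`, unless the first two coincide.
-/

set_option autoImplicit false
set_option maxRecDepth 20000

namespace Cfsg.Lib.Extra.SuzUnique

open Cfsg.Lib.CosetEnum

/-- The relations of four involutions `a, b, f, g`. -/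
def triBase : List (List Nat) :=
  [[0, 0], [1, 1], [2, 2], [3, 3], [0, 1, 0, 1, 0, 1, 0, 1, 0, 1], [0, 2, 0, 2], [0, 3, 0, 3],
    [1, 2, 1, 2, 1, 2], [2, 3, 2, 3, 2, 3, 2, 3], [0, 2, 3, 2, 3],
    [0, 1, 0, 1, 0, 2, 1, 3, 0, 1, 0, 1, 0, 2, 1, 3]]

/-- The relations in a case. -/
def triRels (k l : Nat) : List (List Nat) :=
  triBase ++ [(List.replicate k [1, 3]).flatten, (List.replicate l [1, 2, 3]).flatten]

/-- The checks of a case. -/
noncomputable def triOK (c : Nat × Nat × StepCert) : Bool :=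
  let s := c.2.2
  Nat.beq s.n 1 && beqW s.S [0, 1, 2, 3] && shiftsOK (triRels c.1 c.2.1) s.R &&
    s.U.all (fun u => beqW u [0] || beqW u [2] || beqW u [3]) &&
    defsOK s.F s.d 0 && stepsOK s.R s.U s.F s.C s.d s.e 0 &&
    closedOK s.F s.Z s.P (s.d + s.e) s.n s.k s.S s.n 0

theorem tri_checks : TriData.cases.all triOK = true := by decide +kernel

theorem tri_listed : ∀ k ∈ [4, 5, 7], ∀ l ∈ [4, 3, 5, 7],
    (k, l) ∈ TriData.cases.map (fun c => (c.1, c.2.1)) := by decide +kernel

variable {H : Type*} [Group H]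

theorem wordVal_replicate_three (y : ℕ → H) (a b c : ℕ) (ha : a ≠ eps) (hb : b ≠ eps)
    (hc : c ≠ eps) : ∀ m : ℕ,
      wordVal y (List.replicate m [c, b, a]).flatten = (y a * y b * y c) ^ m
  | 0 => by simp [wordVal]
  | m + 1 => by
    rw [List.replicate_succ, List.flatten_cons, wordVal_append,
      wordVal_replicate_three y a b c ha hb hc m, pow_succ]
    simp [wordVal, gen, ha, hb, hc, mul_assoc]

/-- In each case the second involution is a product of the other three. -/
theorem tri_mem {y : ℕ → H} (hy : ∀ g, y g * y g = 1) (hrel : ∀ r ∈ triBase, wordVal y r = 1)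
    {k l : ℕ} (hk : k ∈ [4, 5, 7]) (hl : l ∈ [4, 3, 5, 7]) (h1 : (y 3 * y 1) ^ k = 1)
    (h2 : (y 3 * y 2 * y 1) ^ l = 1) : y 1 ∈ Subgroup.closure ({y 0, y 2, y 3} : Set H) := by
  obtain ⟨⟨k', l', s⟩, hs, e⟩ := List.mem_map.1 (tri_listed k hk l hl)
  simp only [Prod.mk.injEq] at e
  obtain ⟨rfl, rfl⟩ := e
  have h := List.all_eq_true.1 tri_checks _ hs
  simp only [triOK, Bool.and_eq_true, Nat.beq_eq] at h
  obtain ⟨⟨⟨⟨⟨⟨hn, hS⟩, hsh⟩, hU⟩, hd⟩, hst⟩, hcl⟩ := h
  have hS := beqW_eq hS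
  have hv : s.Valid (triRels k' l') :=
    { pos := by rw [hn, hS]; decide
      shifts := hsh
      defs := hd
      steps := hst
      closed := hcl }
  set K := Subgroup.closure ({y 0, y 2, y 3} : Set H)
  have hrel' : ∀ r ∈ triRels k' l', wordVal y r = 1 := by
    intro r hr
    simp only [triRels, List.mem_append, List.mem_cons, List.not_mem_nil, or_false] at hr
    rcases hr with hr | rfl | rfl
    · exact hrel r hr
    · rw [wordVal_replicate y 3 1 (by decide) (by decide)]; exact h1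
    · rw [wordVal_replicate_three y 3 2 1 (by decide) (by decide) (by decide)]; exact h2
  have hK : ∀ u ∈ s.U, wordVal y u ∈ K := by
    intro u hu
    have := List.all_eq_true.1 hU u hu
    simp only [Bool.or_eq_true] at this
    rcases this with (h | h) | h <;> rw [beqW_eq h] <;>
      simp only [wordVal, gen, eps, one_mul] <;>
      exact Subgroup.subset_closure (by simp)
  obtain ⟨hfin, hle⟩ := hv.orbit_le hy hrel' hK
  rw [hn, hS] at hle
  rw [hS] at hfin
  have hmem : y 1 ∈ Subgroup.closure (y '' {g | g ∈ [0, 1, 2, 3]}) :=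
    Subgroup.subset_closure ⟨1, by simp, rfl⟩
  have := (Set.ncard_le_one hfin).1 hle _
    (MulAction.mem_orbit ((1 : H) : H ⧸ K) (⟨y 1, hmem⟩ : ↥(Subgroup.closure _))) _
    (MulAction.mem_orbit_self _)
  change ((y 1 * 1 : H) : H ⧸ K) = ((1 : H) : H ⧸ K) at this
  rwa [mul_one, QuotientGroup.eq, mul_one, inv_mem_iff] at this

theorem pow_eq_one_of_dvd {h : H} {n : ℕ} (hd : orderOf h ∣ n) : h ^ n = 1 :=
  orderOf_dvd_iff_pow_eq_one.1 hd

theorem commute_of_mul_sq {a b : H} (ha : a * a = 1) (hb : b * b = 1) (h : (a * b) ^ 2 = 1) :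
    Commute a b := by
  rw [pow_two] at h
  have e := eq_inv_of_mul_eq_one_left h
  rwa [mul_inv_rev, inv_eq_of_mul_eq_one_right ha, inv_eq_of_mul_eq_one_right hb] at e

/-- The third power of `g b` is one. -/
theorem tri_quot {y : ℕ → H} (hy : ∀ g, y g * y g = 1) (hrel : ∀ r ∈ triBase, wordVal y r = 1)
    (ho : ∀ h : H, orderOf h ∈ [1, 2, 3, 4, 5, 7]) (hne : y 0 ≠ y 1) :
    (y 3 * y 1) ^ 3 = 1 := by
  by_contra h3
  obtain ⟨k, hk, hkp⟩ : ∃ k ∈ [4, 5, 7], (y 3 * y 1) ^ k = 1 := by
    have h := ho (y 3 * y 1)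
    simp only [List.mem_cons, List.not_mem_nil, or_false] at h
    rcases h with e | e | e | e | e | e
    · exact absurd (pow_eq_one_of_dvd (n := 3) (by rw [e]; norm_num)) h3
    · exact ⟨4, by simp, pow_eq_one_of_dvd (by rw [e]; norm_num)⟩
    · exact absurd (pow_eq_one_of_dvd (n := 3) (by rw [e])) h3
    · exact ⟨4, by simp, pow_eq_one_of_dvd (by rw [e])⟩
    · exact ⟨5, by simp, pow_eq_one_of_dvd (by rw [e])⟩
    · exact ⟨7, by simp, pow_eq_one_of_dvd (by rw [e])⟩
  obtain ⟨l, hl, hlp⟩ : ∃ l ∈ [4, 3, 5, 7], (y 3 * y 2 * y 1) ^ l = 1 := by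
    have h := ho (y 3 * y 2 * y 1)
    simp only [List.mem_cons, List.not_mem_nil, or_false] at h
    rcases h with e | e | e | e | e | e
    · exact ⟨4, by simp, pow_eq_one_of_dvd (by rw [e]; norm_num)⟩
    · exact ⟨4, by simp, pow_eq_one_of_dvd (by rw [e]; norm_num)⟩
    · exact ⟨3, by simp, pow_eq_one_of_dvd (by rw [e])⟩
    · exact ⟨4, by simp, pow_eq_one_of_dvd (by rw [e])⟩
    · exact ⟨5, by simp, pow_eq_one_of_dvd (by rw [e])⟩
    · exact ⟨7, by simp, pow_eq_one_of_dvd (by rw [e])⟩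
  have hb := tri_mem hy hrel hk hl hkp hlp
  have hr : ∀ (a b m : ℕ), a < eps → b < eps →
      (List.replicate m [b, a]).flatten ∈ triBase → (y a * y b) ^ m = 1 := by
    intro a b m ha hb hm
    rw [← wordVal_replicate y a b (Nat.ne_of_lt ha) (Nat.ne_of_lt hb)]
    exact hrel _ hm
  have c2 : Commute (y 2) (y 0) :=
    commute_of_mul_sq (hy 2) (hy 0) (hr 2 0 2 (by decide) (by decide) (by decide))
  have c3 : Commute (y 3) (y 0) :=
    commute_of_mul_sq (hy 3) (hy 0) (hr 3 0 2 (by decide) (by decide) (by decide))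
  have hgen : ∀ v ∈ Subgroup.closure ({y 0, y 2, y 3} : Set H), Commute v (y 0) := by
    intro v hv
    induction hv using Subgroup.closure_induction with
    | mem a ha =>
      rcases ha with rfl | rfl | rfl
      exacts [Commute.refl _, c2, c3]
    | one => exact Commute.one_left _
    | mul a b _ _ iha ihb => exact iha.mul_left ihb
    | inv a _ iha => exact iha.inv_left
  have hc : Commute (y 1) (y 0) := hgen _ hb
  have h5 := hr 1 0 5 (by decide) (by decide) (by decide)
  have h2 : (y 1 * y 0) ^ 2 = 1 := by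
    rw [hc.mul_pow, pow_two, pow_two, hy, hy, one_mul]
  have : y 1 * y 0 = 1 := by
    rw [← pow_one (y 1 * y 0), show (1 : ℕ) = Nat.gcd 5 2 by norm_num]
    exact pow_gcd_eq_one.2 ⟨h5, h2⟩
  exact hne (by
    rw [mul_eq_one_iff_eq_inv, inv_eq_of_mul_eq_one_right (hy 0)] at this
    exact this.symm)

end Cfsg.Lib.Extra.SuzUnique
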